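import Cfsg.Agent.Lib.Char.Coherence.FrobeniusBasics
import Cfsg.Agent.Lib.Core.FPFAutomorphism
import Cfsg.Agent.Lib.PLocal.NormalPComplementThms

/-!
# Coherence in Frobenius groups of arbitrary parity
-/

set_option autoImplicit false

open scoped commutatorElement

namespace CfsgLib.Coh

open CfsgLib.Char

section Group

variable {L : Type*} [Group L] [Finite L] {H : Subgroup L}
  (hC : ∀ n ∈ H, n ≠ 1 → Subgroup.centralizer ({n} : Set L) ≤ H)

include hC

theorem exists_fpf_aut [H.Normal] {r : ℕ} [hr : Fact r.Prime] (hrd : r ∣ H.index) :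
    ∃ φ : MulAut H, (∀ x, φ x = x → x = 1) ∧ φ ^ r = 1 := by
  obtain ⟨a, ha⟩ := exists_prime_orderOf_dvd_card' (G := L) r
    (hrd.trans H.index_dvd_card)
  have haH : a ∉ H := fun h => hr.out.ne_one (Nat.eq_one_of_dvd_coprimes (coprime_index_card hC) hrd
    (ha ▸ H.orderOf_dvd_natCard h))
  refine ⟨MulAut.conjNormal a, fun x hx => ?_, ?_⟩
  · have h1 := congrArg Subtype.val hx
    rw [MulAut.conjNormal_apply] at h1
    exact Subtype.ext (frob_commute_eq_one hC x.2 haH h1)
  · rw [← map_pow, ← ha, pow_orderOf_eq_one, map_one]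

/-- Thompson: the kernel is nilpotent. -/
theorem kernel_nilpotent [H.Normal] (hH2 : H ≠ ⊤) : Group.IsNilpotent H := by
  obtain ⟨r, hr, hrd⟩ := Nat.exists_prime_and_dvd (n := H.index)
    fun h => hH2 (Subgroup.index_eq_one.mp h)
  have := Fact.mk hr
  obtain ⟨φ, hfp, hord⟩ := exists_fpf_aut hC hrd
  exact CfsgLib.Core.FPFAut.isNilpotent_of_fpf
    (fun K _ _ q _ hq P hP => CfsgLib.PLocal.hasNormalPComplement_glauberman hq P hP) φ hfp hr hord

/-- An even index forces an abelian kernel. -/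
theorem kernel_comm_of_even [H.Normal] (he : 2 ∣ H.index) : IsMulCommutative H := by
  have := Fact.mk Nat.prime_two
  obtain ⟨φ, hfp, hord⟩ := exists_fpf_aut hC he
  have hφ2 : ∀ x, φ (φ x) = x := fun x => by
    have h := DFunLike.congr_fun hord x
    rwa [pow_two, MulAut.mul_apply, MulAut.one_apply] at h
  have hinj : Function.Injective fun x : H => x⁻¹ * φ x := by
    intro x y h
    have h1 : φ (x * y⁻¹) = x * y⁻¹ := by
      calc φ (x * y⁻¹) = x * (x⁻¹ * φ x) * (φ y)⁻¹ := by rw [map_mul, map_inv]; group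
        _ = x * (y⁻¹ * φ y) * (φ y)⁻¹ := by
          rw [show x⁻¹ * φ x = y⁻¹ * φ y from h]
        _ = x * y⁻¹ := by group
    exact mul_inv_eq_one.mp (hfp _ h1)
  have hinv : ∀ x, φ x = x⁻¹ := fun x => by
    obtain ⟨u, hu⟩ := (Finite.injective_iff_surjective.mp hinj) x
    rw [← show u⁻¹ * φ u = x from hu, map_mul, map_inv, hφ2, mul_inv_rev, inv_inv]
  refine ⟨⟨fun x y => ?_⟩⟩
  have h := map_mul φ x⁻¹ y⁻¹
  rw [hinv, hinv, hinv, inv_inv, inv_inv, mul_inv_rev, inv_inv, inv_inv] at h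
  exact h.symm

/-- `[L:H]` divides `[B:A] - 1` for invariant subgroups of the kernel. -/
theorem frob_dvd_relIndex_sub_one [H.Normal] {A B : Subgroup L} [A.Normal] [hB : B.Normal]
    (hAB : A ≤ B) (hBH : B ≤ H) : H.index ∣ A.relIndex B - 1 := by
  set f := QuotientGroup.mk' A
  have hf := QuotientGroup.mk'_surjective A
  have hA : f.ker = A := QuotientGroup.ker_mk' A
  have hidx : (H.map f).index = H.index := by
    rw [Subgroup.index_map, hA, sup_eq_left.mpr (hAB.trans hBH), MonoidHom.range_eq_top.mpr hf,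
      Subgroup.index_top, mul_one]
  have hcard : ({b : L ⧸ A | b ∈ B.map f ∧ b ≠ 1}).ncard = A.relIndex B - 1 := by
    have h : A.relIndex B = Nat.card (B.map f) := by
      rw [← Subgroup.relIndex_bot_left, ← Subgroup.relIndex_comap, MonoidHom.comap_bot, hA]
    rw [h, ← SetLike.coe_sort_coe, Nat.card_coe_set_eq,
      ← Set.ncard_sdiff_singleton_of_mem (Subgroup.one_mem (B.map f))]
    rfl
  rw [← hidx, ← hcard]
  have : (B.map f).Normal := hB.map f hf
  refine dvd_ncard _ _ (fun b hb g => ⟨Subgroup.Normal.conj_mem inferInstance b hb.1 g,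
    fun h => hb.2 (by simpa using h)⟩) ?_
  rintro _ ⟨⟨b, hb, rfl⟩, hb1⟩
  refine Subgroup.index_dvd_of_le fun q hq => ?_
  obtain ⟨x, rfl⟩ := hf q
  refine Subgroup.mem_map_of_mem f (frob_quot hC A (hAB.trans hBH) b (hBH hb) (fun hbA => hb1 ?_) x ?_)
  · exact (QuotientGroup.eq_one_iff b).mpr hbA
  · rw [← QuotientGroup.eq_one_iff, ← QuotientGroup.mk'_apply, map_mul, map_mul, map_mul, map_inv,
      map_inv, mul_inv_eq_one, mul_inv_eq_iff_eq_mul]
    exact Subgroup.mem_centralizer_singleton_iff.mp hq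

theorem succ_index_le [H.Normal] {A B : Subgroup L} [A.Normal] [B.Normal]
    (hAB : A < B) (hBH : B ≤ H) : H.index + 1 ≤ A.relIndex B := by
  have h1 : A.relIndex B ≠ 1 := fun h => hAB.not_ge (Subgroup.relIndex_eq_one.mp h)
  have h0 : A.relIndex B ≠ 0 := Subgroup.index_ne_zero_of_finite
  have := Nat.le_of_dvd (by omega) (frob_dvd_relIndex_sub_one hC hAB.le hBH)
  omega

/-- In a kernel that is not a `p`-group there is a first descent step below the derived subgroup. -/
theorem exists_first_step [hH : H.Normal] (hnil : Group.IsNilpotent H) (hna : ⁅H, H⁆ ≠ ⊥)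
    (hnp : ¬ ∃ p m : ℕ, p.Prime ∧ Nat.card H = p ^ m) :
    ∃ B D : Subgroup L, B.Normal ∧ D.Normal ∧ B < ⁅H, H⁆ ∧ ⁅H, H⁆ ≤ D ∧ D ≤ H ∧
      (∀ x ∈ D, ∀ y ∈ H, x * y * x⁻¹ * y⁻¹ ∈ B) ∧
      H.index + 1 ≤ ⁅H, H⁆.relIndex D ∧ H.index + 1 ≤ D.relIndex H := by
  set A := ⁅H, H⁆ with hAdef
  have hAH : A ≤ H := Subgroup.commutator_le_self H
  obtain ⟨B, hB⟩ := Set.Finite.exists_maximal (s := {B : Subgroup L | B.Normal ∧ B < A})
    (Set.toFinite _) ⟨⊥, inferInstance, bot_lt_iff_ne_bot.mpr hna⟩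
  obtain ⟨hBn, hBA⟩ := hB.1
  have hcomm : ⁅A, H⁆ ≤ B := by
    by_contra hne
    have hlt : B < ⁅A, H⁆ ⊔ B := right_lt_sup.mpr hne
    have hle : ⁅A, H⁆ ⊔ B ≤ A := sup_le (Subgroup.commutator_le_left A H) hBA.le
    rcases hle.eq_or_lt with he | he
    · exact hBA.not_ge (le_of_le_commutator_sup (M := ⊥) inferInstance bot_le hAH he.ge)
    · exact hlt.not_ge (hB.2 (y := ⁅A, H⁆ ⊔ B) ⟨inferInstance, he⟩ hlt.le)
  obtain ⟨q, j, hq, hj⟩ := prime_pow_of_no_between (K := A) (H₁ := B)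
    ((Subgroup.commutator_mono le_rfl hAH).trans hcomm) hBA
    fun ⟨N, hN, h1, h2⟩ => h1.not_ge (hB.2 (y := N) ⟨hN, h2⟩ h1.le)
  set f := QuotientGroup.mk' B
  have hf := QuotientGroup.mk'_surjective B
  have : (H.map f).Normal := hH.map f hf
  set D := (Subgroup.centralizer (H.map f : Set (L ⧸ B))).comap f ⊓ H with hD
  have hDmem : ∀ x, x ∈ D ↔ x ∈ H ∧ ∀ y ∈ H, x * y * x⁻¹ * y⁻¹ ∈ B := by
    intro x
    rw [hD, Subgroup.mem_inf, Subgroup.mem_comap, Subgroup.mem_centralizer_iff, and_comm]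
    refine and_congr_right fun _ => ?_
    constructor
    · intro h y hy
      rw [← QuotientGroup.eq_one_iff, ← QuotientGroup.mk'_apply, map_mul, map_mul, map_mul, map_inv,
        map_inv, mul_inv_eq_one, mul_inv_eq_iff_eq_mul]
      exact (h _ (Subgroup.mem_map_of_mem f hy)).symm
    · rintro h _ ⟨y, hy, rfl⟩
      have := h y hy
      rw [← QuotientGroup.eq_one_iff, ← QuotientGroup.mk'_apply, map_mul, map_mul, map_mul, map_inv,
        map_inv, mul_inv_eq_one, mul_inv_eq_iff_eq_mul] at this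
      exact this.symm
  have hAD : A ≤ D := fun x hx =>
    (hDmem x).mpr ⟨hAH hx, fun y hy => hcomm (Subgroup.commutator_mem_commutator hx hy)⟩
  have hDH : D ≤ H := inf_le_right
  have hne1 : D ≠ H := fun h => hBA.not_ge (Subgroup.commutator_le.mpr fun x hx y hy =>
    ((hDmem x).mp (h.ge hx)).2 y hy)
  have hne2 : A ≠ D := by
    intro h
    refine hnp ?_
    have := Fact.mk hq
    have hpow : ∀ x ∈ H, x ^ q ^ j ∈ A := by
      intro x hx
      rw [h, hDmem]
      refine ⟨pow_mem hx _, fun y hy => ?_⟩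
      have hc : x * y * x⁻¹ * y⁻¹ ∈ A := Subgroup.commutator_mem_commutator hx hy
      have hcent : Commute (f x) (f (x * y * x⁻¹ * y⁻¹)) := by
        have hm := hcomm (Subgroup.commutator_mem_commutator hc hx)
        rw [commutatorElement_def, ← QuotientGroup.eq_one_iff, ← QuotientGroup.mk'_apply,
          map_mul, map_mul, map_mul, map_inv, map_inv, mul_inv_eq_one, mul_inv_eq_iff_eq_mul] at hm
        exact hm.symm
      have hind : ∀ n : ℕ, f (x ^ n * y * (x ^ n)⁻¹ * y⁻¹) = f (x * y * x⁻¹ * y⁻¹) ^ n := by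
        intro n
        induction n with
        | zero => simp
        | succ n ih =>
          calc f (x ^ (n + 1) * y * (x ^ (n + 1))⁻¹ * y⁻¹)
              = f x ^ n * f (x * y * x⁻¹ * y⁻¹) * (f x ^ n)⁻¹ *
                  f (x ^ n * y * (x ^ n)⁻¹ * y⁻¹) := by
                simp only [map_mul, map_inv, map_pow]; group
            _ = f (x * y * x⁻¹ * y⁻¹) * f (x * y * x⁻¹ * y⁻¹) ^ n := by
                rw [(hcent.pow_left n).eq, mul_inv_cancel_right, ih]
            _ = _ := (pow_succ' _ n).symm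
      rw [← QuotientGroup.eq_one_iff, ← QuotientGroup.mk'_apply, hind]
      have hc' : (⟨f (x * y * x⁻¹ * y⁻¹), Subgroup.mem_map_of_mem f hc⟩ : A.map f) ^ q ^ j = 1 := by
        have hcard : Nat.card (A.map f) = q ^ j := by
          rw [← hj, ← Subgroup.relIndex_bot_left, ← Subgroup.relIndex_comap, MonoidHom.comap_bot,
            QuotientGroup.ker_mk']
        rw [← hcard]; exact pow_card_eq_one'
      exact congrArg Subtype.val hc'
    have hAeq : A.subgroupOf H = commutator H := by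
      refine Subgroup.map_injective H.subtype_injective ?_
      rw [Subgroup.map_subgroupOf_eq_of_le hAH, commutator_def, Subgroup.map_commutator,
        ← MonoidHom.range_eq_map, Subgroup.range_subtype]
    have hpg : IsPGroup q (H ⧸ commutator H) := fun g => by
      obtain ⟨x, rfl⟩ := QuotientGroup.mk_surjective g
      refine ⟨j, ?_⟩
      rw [← QuotientGroup.mk_pow, QuotientGroup.eq_one_iff, ← hAeq, Subgroup.mem_subgroupOf]
      exact hpow x x.2
    obtain ⟨i, hi⟩ := IsPGroup.iff_card.mp hpg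
    rw [← Subgroup.index_eq_card] at hi
    obtain ⟨m, hm⟩ := IsPGroup.iff_card.mp (isPGroup_of_index_commutator hnil hi)
    exact ⟨q, m, hq, hm⟩
  exact ⟨B, D, hBn, inferInstance, hBA, hAD, hDH, fun x hx => ((hDmem x).mp hx).2,
    succ_index_le hC (lt_of_le_of_ne hAD hne2) hDH, succ_index_le hC (lt_of_le_of_ne hDH hne1) le_rfl⟩

end Group

section Char

variable {L : Type*} [Group L] [Fintype L] {H : Subgroup L} [hH : H.Normal]
  (hC : ∀ n ∈ H, n ≠ 1 → Subgroup.centralizer ({n} : Set L) ≤ H)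
  {G : Type*} [Group G] [Fintype G] {τ : (L → ℂ) → (G → ℂ)}
  (hτ : Cfsg.IsLinearIsometryOn (Cfsg.zspanOn (Cfsg.inducedIrrAbove H ⊥) ({1}ᶜ : Set L)) τ)
  (hτ1 : ∀ α ∈ Cfsg.zspanOn (Cfsg.inducedIrrAbove H ⊥) ({1}ᶜ : Set L), τ α 1 = 0)

include hC hτ hτ1

/-- Constant degree gives coherence of `S(A)` for an abelian section with two members. -/
theorem frob_base {A : Subgroup L} [A.Normal] (hA : ¬ H ≤ A) (hHA : ⁅H, H⁆ ≤ A)
    (hne : A.relIndex H ≠ H.index + 1) (hsolv : Group.IsSolvable H) :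
    Cfsg.IsCoherent (Cfsg.inducedIrrAbove H A) {1}ᶜ τ := by
  classical
  have hirr : ∀ χ ∈ Cfsg.inducedIrrAbove H A, Cfsg.IsIrrCharacter L χ :=
    fun χ h => irr_of_mem hC χ (inducedIrrAbove_subset A h)
  have hmono := Exceptional.zspanOn_subset ({1}ᶜ : Set L)
    (inducedIrrAbove_subset (K := H) A)
  obtain ⟨χ₀, hχ₀, h0⟩ := exists_min_member hsolv hA
  refine Exceptional.coherent_of_const_degree_irr hirr
    (fun φ hφ ψ hψ => by rw [apply_one_of_mem hHA hφ, apply_one_of_mem hHA hψ]) ?_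
    (Exceptional.IsLinearIsometryOn.mono hτ hmono) fun α h => hτ1 α (hmono h)
  by_contra hno
  push Not at hno
  have hfin := Exceptional.finite_of_irr hirr
  have := hfin.fintype
  have hsum := sum_wt (K := H) A
  have heq : (Cfsg.inducedIrrAbove H A).toFinset = {χ₀} := by
    ext φ
    rw [Set.mem_toFinset, Finset.mem_singleton]
    exact ⟨fun h => hno φ h χ₀ hχ₀, fun h => h ▸ hχ₀⟩
  rw [← Finset.sum_subtype (Cfsg.inducedIrrAbove H A).toFinset (fun x => Set.mem_toFinset) wt, heq,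
    Finset.sum_singleton, wt, h0, Exceptional.classInner_self_of_irr (hirr χ₀ hχ₀),
    Complex.natCast_re, Complex.one_re, div_one, sq] at hsum
  have he : (H.index : ℝ) ≠ 0 := Nat.cast_ne_zero.mpr Subgroup.index_ne_zero_of_finite
  have h2 := mul_left_cancel₀ he hsum
  exact hne (by exact_mod_cast (by linarith : (A.relIndex H : ℝ) = (H.index : ℝ) + 1))

/-- Coherence for a large abelianisation or a kernel of non prime power order. -/
theorem frob_coherent (hH1 : H ≠ ⊥) (hnil : Group.IsNilpotent H) (hna : ⁅H, H⁆ ≠ ⊥)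
    (hbig : (¬ ∃ p m : ℕ, p.Prime ∧ Nat.card H = p ^ m) ∨
      4 * H.index ^ 2 + 1 < ⁅H, H⁆.relIndex H) :
    Cfsg.IsCoherent (Cfsg.inducedIrrAbove H ⊥) {1}ᶜ τ := by
  have hsolv : Group.IsSolvable H := inferInstance
  have hSet : Setting (Cfsg.inducedIrrAbove H ⊥) τ id := Setting.of_irr (irr_of_mem hC) hτ hτ1
  have hcl : ∀ X : Subgroup L, Closed id (Cfsg.inducedIrrAbove H X) := fun X => closed_id _
  have hne : ¬ H ≤ ⁅H, H⁆ := fun h => hH1 (le_bot_iff.mp
    (le_of_le_commutator_sup (H := H) (M := ⊥) inferInstance le_rfl le_rfl (h.trans le_sup_left)))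
  have he : 0 < H.index := Nat.pos_of_ne_zero Subgroup.index_ne_zero_of_finite
  by_cases hb : 4 * H.index ^ 2 + 1 < ⁅H, H⁆.relIndex H
  · exact step_nilpotent hSet hcl hsolv bot_le (Subgroup.commutator_le_self H) le_rfl inferInstance
      (frob_base hC hτ hτ1 hne le_rfl (by nlinarith) hsolv) hb
  obtain ⟨B, D, hBn, hDn, hBA, hAD, hDH, hcent, hb1, ha1⟩ :=
    exists_first_step hC hnil hna (hbig.resolve_right hb)
  have hmul := Subgroup.relIndex_mul_relIndex ⁅H, H⁆ D H hAD hDH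
  have hbase := frob_base hC hτ hτ1 hne le_rfl (by
    rw [← hmul]
    have := Nat.mul_le_mul hb1 ha1
    nlinarith) hsolv
  have hstep := step_central hSet hcl hsolv hne (hBA.le.trans hAD) le_rfl hcent hbase (by
    rw [← hmul]
    revert hb1 ha1
    generalize D.relIndex H = a
    generalize ⁅H, H⁆.relIndex D = b
    intro hb1 ha1
    obtain ⟨c, hc⟩ : ∃ c, b * a = c + 1 := ⟨b * a - 1, by
      have : 0 < b * a := Nat.mul_pos (by omega) (by omega)
      omega⟩
    rw [hc, Nat.add_sub_cancel]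
    obtain ⟨u, rfl⟩ : ∃ u, a = H.index + 1 + u := ⟨a - (H.index + 1), by omega⟩
    obtain ⟨w, rfl⟩ : ∃ w, b = H.index + 1 + w := ⟨b - (H.index + 1), by omega⟩
    obtain ⟨e', he'⟩ : ∃ e', H.index = e' + 1 := ⟨H.index - 1, by omega⟩
    rw [he'] at hc ⊢
    set g := (e' + 1) * (e' + 1 + 1 + u) + (e' + 1 + u) with hg
    have hgc : g ≤ c := by
      have : (e' + 1 + 1) * (e' + 1 + 1 + u) ≤ (e' + 1 + 1 + w) * (e' + 1 + 1 + u) :=
        Nat.mul_le_mul_right _ (by omega)
      nlinarith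
    refine lt_of_lt_of_le ?_ (Nat.pow_le_pow_left hgc 2)
    rw [hg]
    ring_nf
    nlinarith [Nat.zero_le (e' ^ 3), Nat.zero_le (u * u), Nat.zero_le (e' * u),
      Nat.zero_le (e' ^ 4), Nat.zero_le (e' ^ 2 * u), Nat.zero_le (e' ^ 3 * u),
      Nat.zero_le (e' ^ 2 * (u * u)), Nat.zero_le (e' * (u * u))])
  rw [Set.union_eq_right.mpr (inducedIrrAbove_antitone hBA.le)] at hstep
  have hBH : B ≤ H := hBA.le.trans (Subgroup.commutator_le_self H)
  refine step_nilpotent hSet hcl hsolv bot_le hBH le_rfl inferInstance hstep ?_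
  rw [← Subgroup.relIndex_mul_relIndex B ⁅H, H⁆ H hBA.le (Subgroup.commutator_le_self H), ← hmul]
  have h3 := succ_index_le hC hBA (Subgroup.commutator_le_self H)
  have h4 : (H.index + 1) * ((H.index + 1) * (H.index + 1)) ≤
      B.relIndex ⁅H, H⁆ * (⁅H, H⁆.relIndex D * D.relIndex H) :=
    Nat.mul_le_mul h3 (Nat.mul_le_mul hb1 ha1)
  nlinarith

end Char

end CfsgLib.Coh
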