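import Cfsg.Agent.Lib.Char.Coherence.TITransfer
import Cfsg.Agent.Lib.Char.Coherence.FrobeniusTI
import Cfsg.Agent.Lib.Char.Real

/-!
# No group of odd order is partitioned by coprime Frobenius kernels
-/

set_option autoImplicit false

open scoped ComplexConjugate

namespace CfsgLib.Coh

open CfsgLib.Char

/-- Real generalized characters orthogonal to the principal one have even inner products. -/
theorem even_inner {G : Type*} [Group G] [Fintype G] (hodd : Odd (Nat.card G)) {f g : G → ℂ}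
    (hf : Cfsg.IsGeneralizedCharacter G f) (hg : Cfsg.IsGeneralizedCharacter G g)
    (hfr : Cfsg.conjFun f = f) (hgr : Cfsg.conjFun g = g)
    (hf1 : Cfsg.classInner f (fun _ => 1) = 0) {k : ℤ} (hk : Cfsg.classInner f g = k) : Even k := by
  classical
  have := Fintype.ofFinite (Cfsg.IrrCharacter G)
  obtain ⟨m, hm⟩ := Exceptional.IsGen.exists_sum hf
  obtain ⟨n, hn⟩ := Exceptional.IsGen.exists_sum hg
  have hm' : ∀ χ : Cfsg.IrrCharacter G, Cfsg.classInner f (χ : G → ℂ) = m χ := fun χ => by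
    rw [hm, classInner_sum_irr]
  have hn' : ∀ χ : Cfsg.IrrCharacter G, Cfsg.classInner g (χ : G → ℂ) = n χ := fun χ => by
    rw [hn, classInner_sum_irr]
  let bar : Cfsg.IrrCharacter G → Cfsg.IrrCharacter G :=
    fun χ => ⟨_, Exceptional.IsIrr.conjFun χ.2⟩
  have hbb : ∀ χ, bar (bar χ) = χ := fun χ => Subtype.ext (funext fun x => Complex.conj_conj _)
  have hci : ∀ u v : G → ℂ, Cfsg.classInner (Cfsg.conjFun u) (Cfsg.conjFun v) =
      conj (Cfsg.classInner u v) := fun u v => by
    simp [Cfsg.classInner, Cfsg.conjFun, map_sum]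
  have hsym : ∀ (φ : G → ℂ) (a : Cfsg.IrrCharacter G → ℤ), Cfsg.conjFun φ = φ →
      (∀ χ : Cfsg.IrrCharacter G, Cfsg.classInner φ (χ : G → ℂ) = a χ) → ∀ χ, a (bar χ) = a χ := by
    intro φ a hφ ha χ
    have h := ha (bar χ)
    rw [show ((bar χ : Cfsg.IrrCharacter G) : G → ℂ) = Cfsg.conjFun (χ : G → ℂ) from rfl] at h
    rw [← hφ, hci, ha χ, map_intCast] at h
    exact_mod_cast h.symm
  have hk' : k = ∑ χ : Cfsg.IrrCharacter G, m χ * n χ := by
    have hcalc : Cfsg.classInner f g = ((∑ χ : Cfsg.IrrCharacter G, m χ * n χ : ℤ) : ℂ) := by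
      rw [Int.cast_sum, hm, classInner_sum_left]
      refine Finset.sum_congr rfl fun χ _ => ?_
      rw [classInner_smul_left, ← classInner_conj_symm, hn' χ, map_intCast, Int.cast_mul]
    exact_mod_cast hk.symm.trans hcalc
  have h2 : ((k : ℤ) : ZMod 2) = 0 := by
    rw [hk', Int.cast_sum]
    refine Finset.sum_involution (fun χ _ => bar χ) (fun χ _ => ?_) (fun χ _ hne => ?_)
      (fun χ _ => Finset.mem_univ _) fun χ _ => hbb χ
    · rw [hsym f m hfr hm' χ, hsym g n hgr hn' χ]
      generalize ((m χ * n χ : ℤ) : ZMod 2) = z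
      revert z; decide
    · intro e
      refine hne ?_
      have htriv : χ = trivChar G := real_irr_eq_one_of_odd hodd χ fun x =>
        Complex.conj_eq_iff_im.mp (congrFun (congrArg Subtype.val e) x)
      have h0 : m χ = 0 := by
        have h1 : (trivChar G : G → ℂ) = fun _ => 1 := funext fun x => trivChar_apply x
        have h := hm' χ
        rw [htriv, h1, hf1] at h
        rw [htriv]
        exact_mod_cast h.symm
      rw [h0, zero_mul, Int.cast_zero]
  exact even_iff_two_dvd.mpr ((ZMod.intCast_zmod_eq_zero_iff_dvd k 2).mp h2)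

variable {G : Type*} [Group G] [Fintype G]

omit [Fintype G] in
/-- A centraliser inside the kernel is unchanged in the normaliser. -/
theorem card_centralizer_normalizer {K : Subgroup G}
    (hC : ∀ k ∈ K, k ≠ 1 → Subgroup.centralizer ({k} : Set G) ≤ K)
    (x : ↥(Subgroup.normalizer (K : Set G))) (hx : (x : G) ∈ K) (hx1 : x ≠ 1) :
    Nat.card (Subgroup.centralizer ({x} : Set ↥(Subgroup.normalizer (K : Set G)))) =
      Nat.card (Subgroup.centralizer ({(x : G)} : Set G)) := by
  have h1 : Subgroup.centralizer ({(x : G)} : Set G) ≤ Subgroup.normalizer (K : Set G) :=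
    (hC _ hx fun e => hx1 (Subtype.ext e)).trans Subgroup.le_normalizer
  rw [show Subgroup.centralizer ({x} : Set ↥(Subgroup.normalizer (K : Set G))) =
    (Subgroup.centralizer ({(x : G)} : Set G)).subgroupOf (Subgroup.normalizer (K : Set G)) from ?_]
  · exact Nat.card_congr (Subgroup.subgroupOfEquivOfLe h1).toEquiv
  · ext y
    simp only [Subgroup.mem_subgroupOf, Subgroup.mem_centralizer_singleton_iff]
    exact ⟨fun h => congrArg Subtype.val h, fun h => Subtype.ext h⟩

/-- Conjugates of kernels of coprime orders meet trivially. -/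
theorem disjoint_conj {K K' : Subgroup G} (hcop : Nat.Coprime (Nat.card K) (Nat.card K')) {g y z : G}
    (hy : y⁻¹ * g * y ∈ K) (hz : z⁻¹ * g * z ∈ K') : g = 1 := by
  have h1 : orderOf g ∣ Nat.card K := by
    have := K.orderOf_dvd_natCard hy
    rwa [show y⁻¹ * g * y = MulAut.conj y⁻¹ g by simp, MulEquiv.orderOf_eq] at this
  have h2 : orderOf g ∣ Nat.card K' := by
    have := K'.orderOf_dvd_natCard hz
    rwa [show z⁻¹ * g * z = MulAut.conj z⁻¹ g by simp, MulEquiv.orderOf_eq] at this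
  exact orderOf_eq_one_iff.mp (Nat.eq_one_of_dvd_coprimes hcop h1 h2)

/-- The final numerical contradiction. -/
theorem count_contra {e h N g A B : ℝ} (he : 3 ≤ e) (hN : 2 ≤ N) (hh : h = N * e + 1)
    (hg : h * (h + 2) ≤ g) (hA : A ≤ e / h) (hB : B ≤ (e - 1) / (h + 2)) :
    N / h + A + B < 1 - 1 / g := by
  have hpos : 0 < h := by rw [hh]; positivity
  have hg' : 1 / g ≤ 1 / (h * (h + 2)) := one_div_le_one_div_of_le (by positivity) hg
  have key : N / h + e / h + (e - 1) / (h + 2) + 1 / (h * (h + 2)) < 1 := by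
    rw [div_add_div _ _ hpos.ne' hpos.ne', div_add_div _ _ (by positivity) (by positivity),
      div_add_div _ _ (by positivity) (by positivity), div_lt_one (by positivity)]
    obtain ⟨u, hu, rfl⟩ : ∃ u, 0 ≤ u ∧ N = 2 + u := ⟨N - 2, by linarith, by ring⟩
    obtain ⟨w, hw, rfl⟩ : ∃ w, 0 ≤ w ∧ e = 3 + w := ⟨e - 3, by linarith, by ring⟩
    have hmain : ((2 + u) + (3 + w)) * (h + 2) + ((3 + w) - 1) * h + 1 < h * (h + 2) := by
      rw [hh]; nlinarith [mul_nonneg hu hw, mul_nonneg hu hu, mul_nonneg hw hw,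
        mul_nonneg (mul_nonneg hu hw) hu, mul_nonneg (mul_nonneg hu hw) hw,
        mul_nonneg (mul_nonneg hu hw) (mul_nonneg hu hw)]
    have := mul_lt_mul_of_pos_left hmain (show 0 < h * h * (h + 2) by positivity)
    nlinarith
  linarith

set_option maxHeartbeats 2000000 in
open scoped Classical in
/-- The theorem. -/
theorem no_partition {ι : Type*} [Fintype ι] (hodd : Odd (Nat.card G))
    (hι : 2 ≤ Fintype.card ι) (H : ι → Subgroup G)
    (hne : ∀ i, H i < Subgroup.normalizer (H i : Set G)) (hH1 : ∀ i, H i ≠ ⊥)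
    (hTI : ∀ i, ∀ g : G, g ∉ Subgroup.normalizer (H i : Set G) → ∀ k ∈ H i,
      g * k * g⁻¹ ∈ H i → k = 1)
    (hC : ∀ i, ∀ k ∈ H i, k ≠ 1 → Subgroup.centralizer ({k} : Set G) ≤ H i)
    (hcop : ∀ i j, i ≠ j → Nat.Coprime (Nat.card (H i)) (Nat.card (H j)))
    (hcover : ∀ g : G, g ≠ 1 → ∃ i, ∃ x : G, x * g * x⁻¹ ∈ H i) : False := by
  have instN : ∀ i, Fintype ↥(Subgroup.normalizer (H i : Set G)) := fun i => Fintype.ofFinite _
  let N : ι → Subgroup G := fun i => Subgroup.normalizer (H i : Set G)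
  let K : (i : ι) → Subgroup ↥(Subgroup.normalizer (H i : Set G)) := fun i =>
    (H i).subgroupOf (Subgroup.normalizer (H i : Set G))
  have hC' : ∀ i, ∀ n ∈ K i, n ≠ 1 → Subgroup.centralizer ({n} : Set _) ≤ K i := fun i =>
    Exceptional.tifn_cent (H i) (hC i)
  have hoddN : ∀ i, Odd (Nat.card ↥(Subgroup.normalizer (H i : Set G))) := fun i =>
    hodd.of_dvd_nat (Subgroup.card_subgroup_dvd_card _)
  have hcardK : ∀ i, Nat.card (K i) = Nat.card (H i) := fun i =>
    Nat.card_congr (Subgroup.subgroupOfEquivOfLe Subgroup.le_normalizer).toEquiv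
  have hKne : ∀ i, K i ≠ ⊤ := fun i h => (hne i).not_ge (Subgroup.subgroupOf_eq_top.mp h)
  have hnilK : ∀ i, Group.IsNilpotent (K i) := fun i => kernel_nilpotent (hC' i) (hKne i)
  have hnil : ∀ i, Group.IsNilpotent (H i) := fun i =>
    Group.nilpotent_of_mulEquiv (_h := hnilK i)
      (Subgroup.subgroupOfEquivOfLe (Subgroup.le_normalizer : H i ≤ _))
  have D : ∀ i, KernelData (H i) := fun i =>
    (exists_kernelData (H i) (hTI i) (hC i) (hH1 i) (hnil i) (hoddN i)).some
  -- members of degree equal to the index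
  choose ζ hζ hζ1 using fun i => exists_min_member (K := K i) (A := ⊥)
    (by have := hnilK i; infer_instance)
    (fun h => hH1 i (by
      rw [le_bot_iff, Subgroup.subgroupOf_eq_bot, disjoint_iff,
        inf_eq_left.mpr (Subgroup.le_normalizer : H i ≤ _)] at h
      exact h))
  have hset : ∀ i, Cfsg.inducedIrrAbove (K i) ⊥ = Exceptional.tifnSet (H i) := fun i => by
    rw [above_bot_eq (hC' i)]; rfl
  have hζS : ∀ i, ζ i ∈ Exceptional.tifnSet (H i) := fun i => hset i ▸ hζ i
  -- numerical data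
  let e : ι → ℕ := fun i => (K i).index
  let h : ι → ℕ := fun i => Nat.card (H i)
  have he3 : ∀ i, 3 ≤ e i := fun i => by
    have h1 : e i ≠ 1 := fun h => hKne i (Subgroup.index_eq_one.mp h)
    obtain ⟨k, hk⟩ := (hoddN i).of_dvd_nat (K i).index_dvd_card
    show 3 ≤ (K i).index
    have h1' : (K i).index ≠ 1 := h1
    omega
  have hhN : ∀ i, ∃ n : ℕ, 2 ≤ n ∧ h i = n * e i + 1 := fun i => by
    obtain ⟨n, hn⟩ := index_dvd_card_sub_one (hC' i)
    rw [hcardK i] at hn
    have hgt : 1 < h i := by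
      have := (H i).one_lt_card_iff_ne_bot.mpr (hH1 i)
      exact this
    obtain ⟨a, ha⟩ := hodd.of_dvd_nat (H i).card_subgroup_dvd_card
    obtain ⟨b, hb⟩ := (hoddN i).of_dvd_nat (K i).index_dvd_card
    refine ⟨n, ?_, by
      show Nat.card (H i) = n * (K i).index + 1
      change Nat.card (H i) - 1 = _ at hn
      change 1 < Nat.card (H i) at hgt
      rw [mul_comm n]; omega⟩
    rcases Nat.lt_or_ge n 2 with h' | h'
    · exfalso
      change 1 < Nat.card (H i) at hgt
      interval_cases n <;> omega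
    · exact h'
  have hinner : ∀ i j, i ≠ j → ∀ (u : ↥(Subgroup.normalizer (H i : Set G)) → ℂ)
      (v : ↥(Subgroup.normalizer (H j : Set G)) → ℂ),
      (∀ x : ↥(Subgroup.normalizer (H i : Set G)), ((x : G) ∉ H i ∨ x = 1) → u x = 0) →
      (∀ x : ↥(Subgroup.normalizer (H j : Set G)), ((x : G) ∉ H j ∨ x = 1) → v x = 0) →
      Cfsg.classInner (Cfsg.indFun _ u) (Cfsg.indFun _ v) = 0 := by
    intro i j hij u v hu hv
    rw [Cfsg.classInner, Finset.sum_eq_zero, mul_zero]
    intro g _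
    by_cases hg : ∀ y : G, y⁻¹ * g * y ∈ H i → y⁻¹ * g * y = 1
    · rw [ind_support (H i) hu hg, zero_mul]
    · rw [ind_support (H j) hv fun z hz => ?_, map_zero, mul_zero]
      push Not at hg
      obtain ⟨y, hy, -⟩ := hg
      rw [disjoint_conj (hcop i j hij) hy hz]
      group
  have hvan : ∀ i, ∀ ξ ∈ Exceptional.tifnSet (H i),
      ∀ x : ↥(Subgroup.normalizer (H i : Set G)), (x : G) ∉ H i → ξ x = 0 :=
    fun i ξ hξ x hx => Exceptional.tifn_vanish (hC i) hξ hx
  let w : (i : ι) → (↥(Subgroup.normalizer (H i : Set G)) → ℂ) →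
      (↥(Subgroup.normalizer (H i : Set G)) → ℂ) →
      ↥(Subgroup.normalizer (H i : Set G)) → ℂ := fun i ξ η => η 1 • ξ - ξ 1 • η
  have hw : ∀ i, ∀ ξ ∈ Exceptional.tifnSet (H i), ∀ η ∈ Exceptional.tifnSet (H i),
      ∀ x : ↥(Subgroup.normalizer (H i : Set G)), ((x : G) ∉ H i ∨ x = 1) →
        (η 1 • ξ - ξ 1 • η) x = 0 := by
    intro i ξ hξ η hη x hx
    rcases hx with hx | rfl
    · simp [hvan i ξ hξ x hx, hvan i η hη x hx]
    · simp [mul_comm]
  have hεsq : ∀ i, ((D i).ε : ℂ) * ((D i).ε : ℂ) = 1 := fun i => by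
    rcases (D i).hε with h | h <;> simp [h]
  -- images from different kernels are different
  have hcross : ∀ i j, i ≠ j → ∀ ξ ∈ Exceptional.tifnSet (H i), ∀ η ∈ Exceptional.tifnSet (H j),
      (D i).A ξ ≠ (D j).A η := by
    intro i j hij ξ hξ η hη heq
    obtain ⟨hξc, hξne⟩ := (D i).conj_mem ξ hξ
    obtain ⟨hηc, hηne⟩ := (D j).conj_mem η hη
    have hz := hinner i j hij _ _ (hw i ξ hξ _ hξc) (hw j η hη _ hηc)
    obtain ⟨a, ha0, ha⟩ := IsIrr.exists_degree hξ.1
    obtain ⟨b, hb0, hb⟩ := IsIrr.exists_degree hη.1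
    have ha' : Cfsg.conjFun ξ 1 = (a : ℂ) := by simp [Cfsg.conjFun, ha]
    have hb' : Cfsg.conjFun η 1 = (b : ℂ) := by simp [Cfsg.conjFun, hb]
    rw [(D i).ext ξ hξ _ hξc, (D j).ext η hη _ hηc, ha, hb, ha', hb', ← smul_sub, ← smul_sub,
      smul_smul, smul_smul, classInner_smul_left, classInner_smul_right, classInner_sub_left,
      classInner_sub_right, classInner_sub_right] at hz
    have hA := (D i).irr ξ hξ
    have hB := (D i).irr _ hξc
    have hA' := (D j).irr η hη
    have hB' := (D j).irr _ hηc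
    have hne1 : (D i).A ξ ≠ (D i).A (Cfsg.conjFun ξ) := fun e =>
      hξne ((D i).inj ξ hξ _ hξc e).symm
    have hne2 : (D j).A η ≠ (D j).A (Cfsg.conjFun η) := fun e =>
      hηne ((D j).inj η hη _ hηc e).symm
    rw [Exceptional.classInner_of_irr hA hA', Exceptional.classInner_of_irr hA hB',
      Exceptional.classInner_of_irr hB hA', Exceptional.classInner_of_irr hB hB', if_pos heq,
      if_neg (fun e : (D i).A ξ = (D j).A (Cfsg.conjFun η) => hne2 (heq.symm.trans e)),
      if_neg (fun e : (D i).A (Cfsg.conjFun ξ) = (D j).A η => hne1 (heq.trans e.symm))] at hz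
    have hcoef : ((D i).ε : ℂ) * (a : ℂ) ≠ 0 :=
      mul_ne_zero (left_ne_zero_of_mul ((hεsq i).trans_ne one_ne_zero))
        (Nat.cast_ne_zero.mpr ha0.ne')
    have hcoef' : conj (((D j).ε : ℂ) * (b : ℂ)) ≠ 0 := by
      rw [map_mul, map_intCast, map_natCast]
      exact mul_ne_zero (left_ne_zero_of_mul ((hεsq j).trans_ne one_ne_zero))
        (Nat.cast_ne_zero.mpr hb0.ne')
    simp only [mul_eq_zero, hcoef, hcoef', false_or] at hz
    split_ifs at hz <;> norm_num at hz
  -- inner products with differences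
  have hcoefSelf : ∀ j, ∀ ξ ∈ Exceptional.tifnSet (H j),
      Cfsg.classInner (Cfsg.indFun _ (ζ j 1 • ξ - ξ 1 • ζ j)) ((D j).A (ζ j)) =
        ((D j).ε : ℂ) * (ζ j 1 * (if ξ = ζ j then 1 else 0) - ξ 1) := by
    intro j ξ hξ
    rw [(D j).ext ξ hξ _ (hζS j), classInner_smul_left, classInner_sub_left, classInner_smul_left,
      classInner_smul_left, Exceptional.classInner_self_of_irr ((D j).irr _ (hζS j)),
      Exceptional.classInner_of_irr ((D j).irr ξ hξ) ((D j).irr _ (hζS j)), mul_one]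
    congr 2
    refine congrArg _ (if_congr ?_ rfl rfl)
    exact ⟨(D j).inj ξ hξ _ (hζS j), fun e => e ▸ rfl⟩
  have hcoefOther : ∀ i j, i ≠ j → ∀ η ∈ Exceptional.tifnSet (H j),
      ∀ ξ ∈ Exceptional.tifnSet (H i),
      Cfsg.classInner (Cfsg.indFun _ (ζ i 1 • ξ - ξ 1 • ζ i)) ((D j).A η) =
        (((0 : ℤ) : ℤ) : ℂ) * (ζ i 1 * (if ξ = ζ i then 1 else 0) - ξ 1) := by
    intro i j hij η hη ξ hξ
    rw [(D i).ext ξ hξ _ (hζS i), classInner_smul_left, classInner_sub_left, classInner_smul_left,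
      classInner_smul_left,
      Exceptional.classInner_eq_zero_of_irr ((D i).irr ξ hξ) ((D j).irr η hη)
        (hcross i j hij ξ hξ η hη),
      Exceptional.classInner_eq_zero_of_irr ((D i).irr _ (hζS i)) ((D j).irr η hη)
        (hcross i j hij _ (hζS i) η hη)]
    simp
  let X : ι → G → ℂ := fun j => (D j).A (ζ j)
  have hXgen : ∀ j, Cfsg.IsGeneralizedCharacter G (X j) := fun j =>
    Exceptional.IsGen.of_irr ((D j).irr _ (hζS j))
  choose cs hcs using fun j =>
    exists_value (H j) (hC j) (hXgen j) (hζS j) (hζ1 j) (D j).ε (hcoefSelf j)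
  choose! co hco using fun i j (hij : i ≠ j) =>
    exists_value (H i) (hC i) (hXgen j) (hζS i) (hζ1 i) 0 (hcoefOther i j hij _ (hζS j))
  have hval : ∀ i j, i ≠ j → ∀ x : ↥(Subgroup.normalizer (H i : Set G)), (x : G) ∈ H i → x ≠ 1 →
      X j x = (co i j : ℂ) := fun i j hij x hx hx1 => by
    rw [(hco i j hij).1 x hx hx1]; simp
  -- parity
  let β : ι → G → ℂ := fun i =>
    Cfsg.indFun (Subgroup.normalizer (H i : Set G)) (kerInd (K i) - ζ i)
  have hFgen : ∀ i, Cfsg.IsGeneralizedCharacter _ (kerInd (K i) - ζ i) := fun i => by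
    rw [kerInd_eq]
    exact Exceptional.IsGen.sub (Exceptional.IsGen.indFun (K i) Exceptional.isGen_one)
      (Exceptional.IsGen.of_irr (hζS i).1)
  have hFsupp : ∀ i, ∀ x : ↥(Subgroup.normalizer (H i : Set G)), ((x : G) ∉ H i ∨ x = 1) →
      (kerInd (K i) - ζ i) x = 0 := by
    intro i x hx
    rcases hx with hx | rfl
    · rw [Pi.sub_apply, kerInd, if_neg (fun h => hx (Subgroup.mem_subgroupOf.mp h)),
        hvan i _ (hζS i) x hx, sub_zero]
    · rw [Pi.sub_apply, kerInd, if_pos (Subgroup.one_mem _), hζ1 i, sub_self]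
  let Δ : ι → G → ℂ := fun i => β i - (fun _ => 1) + ((D i).ε : ℂ) • X i
  have hΔgen : ∀ i, Cfsg.IsGeneralizedCharacter G (Δ i) := fun i =>
    Exceptional.IsGen.add (Exceptional.IsGen.sub (Exceptional.IsGen.indFun _ (hFgen i))
      Exceptional.isGen_one) (Exceptional.IsGen.intCast_smul _ (hXgen i))
  have hX1 : ∀ i, Cfsg.classInner (X i) (fun _ => 1) = 0 := fun i => by
    refine Exceptional.classInner_eq_zero_of_irr ((D i).irr _ (hζS i)) ?_ ((D i).ne_one _ (hζS i))
    have := (trivChar G).2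
    rwa [show ((trivChar G : Cfsg.IrrCharacter G) : G → ℂ) = fun _ => 1 from
      funext fun y => trivChar_apply y] at this
  have hone : Cfsg.classInner (fun _ : G => (1 : ℂ)) (fun _ => 1) = 1 := by
    rw [Cfsg.classInner, Finset.sum_const, Finset.card_univ, ← Nat.card_eq_fintype_card,
      nsmul_eq_mul, map_one, mul_one, mul_one,
      inv_mul_cancel₀ (Nat.cast_ne_zero.mpr Nat.card_pos.ne')]
  have hβ1 : ∀ i, Cfsg.classInner (β i) (fun _ => 1) = 1 := by
    intro i
    show Cfsg.classInner (Cfsg.indFun _ _) _ = 1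
    rw [frobenius_reciprocity _ _ (fun _ _ => rfl), classInner_sub_left]
    have h1 : Cfsg.classInner (ζ i) (fun _ => 1) = 0 := by
      refine Exceptional.classInner_eq_zero_of_irr (hζS i).1 ?_ fun e => ?_
      · have := (trivChar ↥(Subgroup.normalizer (H i : Set G))).2
        rwa [show ((trivChar ↥(Subgroup.normalizer (H i : Set G)) : _) :
          ↥(Subgroup.normalizer (H i : Set G)) → ℂ) = fun _ => 1 from
            funext fun y => trivChar_apply y] at this
      · obtain ⟨-, y, -, hy⟩ := hζS i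
        exact hy (by rw [e])
    rw [h1, sub_zero, kerInd_eq, frobenius_reciprocity _ _ (fun _ _ => rfl), Cfsg.classInner,
      Finset.sum_const, Finset.card_univ, ← Nat.card_eq_fintype_card, nsmul_eq_mul, map_one,
      mul_one, mul_one, inv_mul_cancel₀ (Nat.cast_ne_zero.mpr Nat.card_pos.ne')]
  have hΔ1 : ∀ i, Cfsg.classInner (Δ i) (fun _ => 1) = 0 := fun i => by
    show Cfsg.classInner (β i - (fun _ => 1) + ((D i).ε : ℂ) • X i) _ = 0
    rw [classInner_add_left, classInner_sub_left, classInner_smul_left, hβ1, hone, hX1]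
    simp
  have hΔreal : ∀ i, Cfsg.conjFun (Δ i) = Δ i := by
    intro i
    obtain ⟨hc, -⟩ := (D i).conj_mem _ (hζS i)
    have h1 := (D i).ext _ hc _ (hζS i)
    have hdeg : Cfsg.conjFun (ζ i) 1 = ζ i 1 := by simp [Cfsg.conjFun, hζ1 i]
    rw [(D i).map_conj _ (hζS i), hdeg] at h1
    have h2 : Cfsg.conjFun (β i) =
        Cfsg.indFun (Subgroup.normalizer (H i : Set G)) (kerInd (K i) - Cfsg.conjFun (ζ i)) := by
      show Cfsg.conjFun (Cfsg.indFun _ _) = _
      rw [conjFun_indFun]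
      congr 1
      funext x
      simp only [Pi.sub_apply, kerInd, Cfsg.conjFun, map_sub]
      split_ifs <;> simp
    have hsplit : ζ i 1 • Cfsg.conjFun (ζ i) - ζ i 1 • ζ i =
        ζ i 1 • ((kerInd (K i) - ζ i) - (kerInd (K i) - Cfsg.conjFun (ζ i))) := by
      funext x; simp; ring
    rw [hsplit, indFun_smul, indFun_sub, ← h2] at h1
    funext g
    have h3 := congrFun h1 g
    simp only [Pi.smul_apply, Pi.sub_apply, smul_eq_mul] at h3
    have hne : ζ i 1 ≠ 0 := IsIrr.apply_one_ne_zero (hζS i).1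
    have h4 : β i g - Cfsg.conjFun (β i) g =
        ((D i).ε : ℂ) * (Cfsg.conjFun (X i) g - X i g) := by
      refine mul_left_cancel₀ hne ?_
      linear_combination h3
    simp only [Δ, Cfsg.conjFun, Pi.add_apply, Pi.sub_apply, Pi.smul_apply, smul_eq_mul, map_add,
      map_sub, map_mul, map_one, map_intCast] at h4 ⊢
    linear_combination -h4
  have hparity : ∀ i j, i ≠ j → co i j ≠ 0 ∨ co j i ≠ 0 := by
    intro i j hij
    by_contra hh
    push Not at hh
    have hX : Cfsg.classInner (X i) (X j) = 0 :=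
      Exceptional.classInner_eq_zero_of_irr ((D i).irr _ (hζS i)) ((D j).irr _ (hζS j))
        (hcross i j hij _ (hζS i) _ (hζS j))
    have hbb : Cfsg.classInner (β i) (β j) = 0 := hinner i j hij _ _ (hFsupp i) (hFsupp j)
    have hbX : Cfsg.classInner (β i) (X j) = (co i j : ℂ) := by
      rw [(hco i j hij).2]; simp
    have hXb : Cfsg.classInner (X i) (β j) = (co j i : ℂ) := by
      rw [← classInner_conj_symm, show Cfsg.classInner (β j) (X i) = (co j i : ℂ) by
        rw [(hco j i hij.symm).2]; simp, map_intCast]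
    have h1b : Cfsg.classInner (fun _ : G => (1 : ℂ)) (β j) = 1 := by
      rw [← classInner_conj_symm, hβ1, map_one]
    have h1X : Cfsg.classInner (fun _ : G => (1 : ℂ)) (X j) = 0 := by
      rw [← classInner_conj_symm, hX1, map_zero]
    have hval : Cfsg.classInner (Δ i) (Δ j) = ((-1 : ℤ) : ℂ) := by
      show Cfsg.classInner (β i - (fun _ => 1) + ((D i).ε : ℂ) • X i)
        (β j - (fun _ => 1) + ((D j).ε : ℂ) • X j) = _
      simp only [classInner_add_left, classInner_add_right, classInner_sub_left,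
        classInner_sub_right, classInner_smul_left, classInner_smul_right, hbb, hbX, hXb, hX, h1b,
        h1X, hβ1, hX1, hone, hh.1, hh.2]
      simp
    have := even_inner hodd (hΔgen i) (hΔgen j) (hΔreal i) (hΔreal j) (hΔ1 i) hval
    exact absurd this (by decide)
  -- the class equation
  have hident : ∀ g : G, (if g = 1 then (1 : ℂ) else 0) + ∑ i, conjInd (H i) g = 1 := by
    intro g
    by_cases hg : g = 1
    · subst hg
      rw [if_pos rfl, Finset.sum_eq_zero fun i _ => conjInd_eq_zero (H i) fun y _ => by group,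
        add_zero]
    · obtain ⟨i, x, hx⟩ := hcover g hg
      rw [if_neg hg, zero_add, Finset.sum_eq_single i (fun k _ hk => ?_)
        (fun h => absurd (Finset.mem_univ i) h)]
      · exact conjInd_eq_one (H i) (hTI i) (y := x⁻¹) (by rwa [inv_inv]) hg
      · refine conjInd_eq_zero (H k) fun y hy => (hg ?_).elim
        exact disjoint_conj (hcop k i hk) hy (z := x⁻¹) (by rwa [inv_inv])
  have hclass : ∀ θ : G → ℂ, Cfsg.IsClassFunction G θ →
      Cfsg.classInner (fun _ => 1) θ = (Nat.card G : ℂ)⁻¹ * conj (θ 1) +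
        ∑ i, (Nat.card ↥(Subgroup.normalizer (H i : Set G)) : ℂ)⁻¹ *
          ∑ x ∈ sharp (K i), conj (θ x) := by
    intro θ hθ
    have hsum : Cfsg.classInner (fun _ => 1) θ =
        Cfsg.classInner (fun g : G => if g = 1 then (1 : ℂ) else 0) θ +
          Cfsg.classInner (∑ i, conjInd (H i)) θ := by
      rw [← classInner_add_left]
      congr 1
      funext g
      rw [Pi.add_apply, Finset.sum_apply, hident]
    rw [hsum, classInner_sum_left]
    congr 1
    · simp [Cfsg.classInner]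
    · exact Finset.sum_congr rfl fun i _ => classInner_conjInd (H i) hθ
  have hGpos : (0 : ℝ) < Nat.card G := Nat.cast_pos.mpr Nat.card_pos
  let s : ι → ℝ := fun i => ((h i : ℝ) - 1) / ((h i : ℝ) * (e i : ℝ))
  have hNcard : ∀ i, (Nat.card ↥(Subgroup.normalizer (H i : Set G)) : ℂ) =
      (h i : ℂ) * (e i : ℂ) := fun i => by
    rw [← (K i).card_mul_index, hcardK i, Nat.cast_mul]
  have hsharp : ∀ i, ((sharp (K i)).card : ℂ) = (h i : ℂ) - 1 := fun i => by
    rw [card_sharp, hcardK i]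
  have hsum1 : 1 - 1 / (Nat.card G : ℝ) = ∑ i, s i := by
    have h1 := hclass (fun _ => 1) (fun _ _ => rfl)
    simp only [hone, map_one, mul_one, Finset.sum_const, nsmul_eq_mul, hNcard, hsharp] at h1
    have h2 : ((1 : ℝ) : ℂ) = (((1 / (Nat.card G : ℝ)) + ∑ i, s i : ℝ) : ℂ) := by
      push_cast [s]
      rw [one_div]
      exact h1.trans (congrArg _ (Finset.sum_congr rfl fun i _ => by rw [div_eq_inv_mul]))
    have := Complex.ofReal_injective h2
    linarith
  -- choose the smallest kernel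
  have : Nonempty ι := Fintype.card_pos_iff.mp (by omega)
  obtain ⟨j, -, hmin⟩ := Finset.univ.exists_min_image h Finset.univ_nonempty
  have hbig : ∀ i, i ≠ j → h j + 2 ≤ h i := by
    intro i hi
    have h1 := hmin i (Finset.mem_univ i)
    obtain ⟨a, ha⟩ := hodd.of_dvd_nat (H i).card_subgroup_dvd_card
    obtain ⟨b, hb⟩ := hodd.of_dvd_nat (H j).card_subgroup_dvd_card
    have h2 : Nat.card (H i) ≠ Nat.card (H j) := fun he => by
      have h3 := hcop i j hi
      rw [he, Nat.coprime_self] at h3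
      exact hH1 j (Subgroup.card_eq_one.mp h3)
    change Nat.card (H j) ≤ Nat.card (H i) at h1
    show Nat.card (H j) + 2 ≤ Nat.card (H i)
    omega
  have hG : (h j : ℝ) * ((h j : ℝ) + 2) ≤ Nat.card G := by
    obtain ⟨i, hi⟩ := Fintype.exists_ne_of_one_lt_card (by omega) j
    have hd : h j * h i ∣ Nat.card G := Nat.Coprime.mul_dvd_of_dvd_of_dvd (hcop j i hi.symm)
      (H j).card_subgroup_dvd_card (H i).card_subgroup_dvd_card
    have hle := (Nat.mul_le_mul_left (h j) (hbig i hi)).trans (Nat.le_of_dvd Nat.card_pos hd)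
    exact_mod_cast hle
  -- the norm of `X j`
  have hnorm : ∑ i ∈ Finset.univ.erase j, (co i j : ℝ) ^ 2 * s i ≤ (e j : ℝ) / h j := by
    have hcl : Cfsg.IsClassFunction G fun g => X j g * conj (X j g) := fun g x => by
      have := IsIrr.isClassFunction ((D j).irr _ (hζS j)) g x
      show X j (x * g * x⁻¹) * conj (X j (x * g * x⁻¹)) = _
      rw [show X j (x * g * x⁻¹) = X j g from this]
    have hc := hclass _ hcl
    have hl : Cfsg.classInner (fun _ : G => (1 : ℂ)) (fun g => X j g * conj (X j g)) = 1 := by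
      refine Eq.trans ?_ (Exceptional.classInner_self_of_irr ((D j).irr _ (hζS j)))
      simp only [Cfsg.classInner, X, one_mul, map_mul, Complex.conj_conj]
      congr 1
      exact Finset.sum_congr rfl fun g _ => mul_comm _ _
    obtain ⟨d, -, hd⟩ := IsIrr.exists_degree ((D j).irr _ (hζS j))
    have hother : ∀ i ∈ Finset.univ.erase j,
        (Nat.card ↥(Subgroup.normalizer (H i : Set G)) : ℂ)⁻¹ *
          ∑ x ∈ sharp (K i), conj (X j x * conj (X j x)) =
        (((co i j : ℝ) ^ 2 * s i : ℝ) : ℂ) := by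
      intro i hi
      have hij := Finset.ne_of_mem_erase hi
      rw [Finset.sum_congr rfl (g := fun _ => ((co i j : ℂ) * (co i j : ℂ))) fun x hx => by
        obtain ⟨hx1, hx2⟩ := mem_sharp.mp hx
        rw [hval i j hij x (Subgroup.mem_subgroupOf.mp hx1) hx2, map_mul, map_intCast, map_intCast],
        Finset.sum_const, nsmul_eq_mul, hsharp, hNcard]
      push_cast [s]
      rw [div_eq_inv_mul]
      ring
    have hself : (Nat.card ↥(Subgroup.normalizer (H j : Set G)) : ℂ)⁻¹ *
          ∑ x ∈ sharp (K j), conj (X j x * conj (X j x)) =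
        ((((h j : ℝ) * e j - (e j : ℝ) ^ 2 - 2 * (D j).ε * cs j * e j +
          (cs j : ℝ) ^ 2 * ((h j : ℝ) - 1)) / ((h j : ℝ) * e j) : ℝ) : ℂ) := by
      rw [Finset.sum_congr rfl (g := fun x => ζ j x * conj (ζ j x) +
          ((D j).ε : ℂ) * (cs j : ℂ) * ζ j x + ((D j).ε : ℂ) * (cs j : ℂ) * conj (ζ j x) +
            (cs j : ℂ) * (cs j : ℂ)) fun x hx => by
        obtain ⟨hx1, hx2⟩ := mem_sharp.mp hx
        rw [show X j x = ((D j).ε : ℂ) * ζ j x + (cs j : ℂ) from
          (hcs j).1 x (Subgroup.mem_subgroupOf.mp hx1) hx2]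
        simp only [map_mul, map_add, Complex.conj_conj, map_intCast]
        linear_combination (ζ j x * conj (ζ j x)) * hεsq j,
        Finset.sum_add_distrib, Finset.sum_add_distrib, Finset.sum_add_distrib, ← Finset.mul_sum,
        ← Finset.mul_sum, ← map_sum, sum_sharp_of_mem (hC' j) (hζ j),
        sum_sharp_sq (hC' j) (hζ j), Finset.sum_const, nsmul_eq_mul, hsharp, hζ1 j, hNcard,
        map_neg, map_natCast, div_eq_inv_mul]
      push_cast
      ring
    rw [hl, ← Finset.add_sum_erase _ _ (Finset.mem_univ j), hself, Finset.sum_congr rfl hother,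
      map_mul, Complex.conj_conj, show X j 1 = (d : ℂ) from hd, map_natCast] at hc
    have hreal : ((1 : ℝ) : ℂ) = (((Nat.card G : ℝ)⁻¹ * ((d : ℝ) * d) +
        (((h j : ℝ) * e j - (e j : ℝ) ^ 2 - 2 * (D j).ε * cs j * e j +
          (cs j : ℝ) ^ 2 * ((h j : ℝ) - 1)) / ((h j : ℝ) * e j) +
          ∑ i ∈ Finset.univ.erase j, (co i j : ℝ) ^ 2 * s i) : ℝ) : ℂ) := by
      push_cast at hc ⊢
      exact hc
    have hr := Complex.ofReal_injective hreal
    have he0 : (0 : ℝ) < e j := Nat.cast_pos.mpr (by have := he3 j; omega)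
    obtain ⟨n, hn2, hn⟩ := hhN j
    have hnR : (h j : ℝ) = n * e j + 1 := by exact_mod_cast hn
    have hh0 : (0 : ℝ) < h j := by rw [hnR]; positivity
    have hint : (0 : ℤ) ≤ (cs j) ^ 2 * n - 2 * (D j).ε * cs j := by
      have hn' : (2 : ℤ) ≤ n := by exact_mod_cast hn2
      rcases (D j).hε with hε | hε <;> rw [hε] <;>
        rcases le_or_gt (cs j) (-1) with hcc | hcc <;>
        rcases le_or_gt 1 (cs j) with hcc' | hcc' <;> nlinarith
    have hint' : (0 : ℝ) ≤ (cs j : ℝ) ^ 2 * n - 2 * (D j).ε * cs j := by exact_mod_cast hint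
    have hfrac : 1 - (e j : ℝ) / h j ≤ ((h j : ℝ) * e j - (e j : ℝ) ^ 2 -
        2 * (D j).ε * cs j * e j + (cs j : ℝ) ^ 2 * ((h j : ℝ) - 1)) / ((h j : ℝ) * e j) := by
      rw [le_div_iff₀ (by positivity), sub_mul,
        show (e j : ℝ) / h j * ((h j : ℝ) * e j) = (e j : ℝ) ^ 2 by field_simp]
      rw [hnR]
      nlinarith [mul_nonneg hint' he0.le]
    have hdd : (0 : ℝ) ≤ (Nat.card G : ℝ)⁻¹ * ((d : ℝ) * d) := by positivity
    linarith
  -- column orthogonality
  obtain ⟨x₀, hx₀, hx₀1⟩ := (Subgroup.bot_or_exists_ne_one (H j)).resolve_left (hH1 j)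
  set x : ↥(Subgroup.normalizer (H j : Set G)) := ⟨x₀, Subgroup.le_normalizer hx₀⟩
  have hxK : x ∈ K j := Subgroup.mem_subgroupOf.mpr hx₀
  have hx1 : x ≠ 1 := fun e => hx₀1 (congrArg Subtype.val e)
  have := Fintype.ofFinite (Cfsg.IrrCharacter G)
  choose Sf hSf using fun i =>
    (Exceptional.finite_of_irr (irr_of_mem (hC' i))).exists_finset_coe
  have hSfm : ∀ i ξ, ξ ∈ Sf i → ξ ∈ Exceptional.tifnSet (H i) := fun i ξ h => by
    rw [← hset i, ← hSf i]; exact h
  let B : Finset ι := (Finset.univ.erase j).filter fun i => co i j = 0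
  let img : ι → Finset (Cfsg.IrrCharacter G) := fun i =>
    (Sf i).attach.image fun ξ : {ξ // ξ ∈ Sf i} => ⟨(D i).A ξ, (D i).irr _ (hSfm i _ ξ.2)⟩
  let q : Cfsg.IrrCharacter G → ℝ := fun χ => Complex.normSq ((χ : G → ℂ) x)
  have hq : ∑ χ, q χ = (Nat.card (Subgroup.centralizer ({(x : G)} : Set G)) : ℝ) := by
    have h1 := column_orthogonality (x : G) (x : G)
    rw [if_pos (IsConj.refl _)] at h1
    simp only [Complex.mul_conj] at h1
    exact_mod_cast h1
  have hsumimg : ∀ i, ∑ χ ∈ img i, q χ = ∑ ξ ∈ Sf i, Complex.normSq ((D i).A ξ x) := by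
    intro i
    rw [Finset.sum_image fun a _ b _ e => Subtype.ext ((D i).inj _ (hSfm i _ a.2) _ (hSfm i _ b.2)
      (congrArg Subtype.val e)), ← Finset.sum_attach (Sf i)]
  have hdeg : ∀ i, ∑ ξ ∈ Sf i, ξ 1 * ξ 1 = ((e i * (h i - 1) : ℕ) : ℂ) := by
    intro i
    obtain ⟨y, hy, hy1⟩ := (Subgroup.bot_or_exists_ne_one (H i)).resolve_left (hH1 i)
    rw [(column_sums (hC' i) (Sf i) (hSf i) (x := ⟨y, Subgroup.le_normalizer hy⟩)
      (Subgroup.mem_subgroupOf.mpr hy) fun e => hy1 (congrArg Subtype.val e)).2.2, hcardK i,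
      Nat.cast_mul, Nat.cast_sub Nat.card_pos, Nat.cast_one]
  have hotherB : ∀ i ∈ B, ((h i : ℝ) - 1) / e i ≤ ∑ χ ∈ img i, q χ := by
    intro i hi
    obtain ⟨hi', hi0⟩ := Finset.mem_filter.mp hi
    have hij := Finset.ne_of_mem_erase hi'
    have hji : co j i ≠ 0 := (hparity i j hij).resolve_left fun h => h hi0
    rw [hsumimg i]
    have hv : ∀ ξ ∈ Sf i, (e i : ℂ) * (D i).A ξ x = ξ 1 * (co j i : ℂ) := by
      intro ξ hξ
      have hξ' := hSfm i ξ hξ
      have h0 : Cfsg.indFun (Subgroup.normalizer (H i : Set G)) (ζ i 1 • ξ - ξ 1 • ζ i) x = 0 :=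
        ind_support (H i) (hw i ξ hξ' _ (hζS i)) fun y hy => by
          rw [disjoint_conj (hcop i j hij) hy (z := 1) (by simpa using hx₀)]; group
      rw [(D i).ext ξ hξ' _ (hζS i)] at h0
      simp only [Pi.smul_apply, Pi.sub_apply, smul_eq_mul, hζ1 i] at h0
      have hε0 : ((D i).ε : ℂ) ≠ 0 := left_ne_zero_of_mul ((hεsq i).trans_ne one_ne_zero)
      have h1 := (mul_eq_zero.mp h0).resolve_left hε0
      rw [show (D i).A (ζ i) (x : G) = (co j i : ℂ) from hval j i hij.symm x hx₀ hx1] at h1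
      linear_combination h1
    have hsum : (((e i : ℝ) ^ 2 * ∑ ξ ∈ Sf i, Complex.normSq ((D i).A ξ x) : ℝ) : ℂ) =
        (((co j i : ℝ) ^ 2 * ((e i * (h i - 1) : ℕ) : ℝ) : ℝ) : ℂ) := by
      push_cast [Nat.cast_sub (Nat.card_pos : 1 ≤ h i)]
      rw [Finset.mul_sum]
      refine Eq.trans (Finset.sum_congr rfl (g := fun ξ => (co j i : ℂ) ^ 2 * (ξ 1 * ξ 1))
        fun ξ hξ => ?_) ?_
      · obtain ⟨d, -, hd⟩ := IsIrr.exists_degree (hSfm i ξ hξ).1
        rw [← Complex.mul_conj]
        calc (e i : ℂ) ^ 2 * ((D i).A ξ x * conj ((D i).A ξ x))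
            = ((e i : ℂ) * (D i).A ξ x) * conj ((e i : ℂ) * (D i).A ξ x) := by
              rw [map_mul, map_natCast]; ring
          _ = _ := by rw [hv ξ hξ, hd, map_mul, map_natCast, map_intCast]; ring
      · rw [← Finset.mul_sum, hdeg i]
        push_cast [Nat.cast_sub (Nat.card_pos : 1 ≤ h i)]
        ring
    have hr := Complex.ofReal_injective hsum
    push_cast at hr
    rw [Nat.cast_sub (Nat.card_pos : 1 ≤ h i), Nat.cast_one] at hr
    have hc1 : (1 : ℝ) ≤ (co j i : ℝ) ^ 2 := by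
      exact_mod_cast (show (1 : ℤ) ≤ co j i ^ 2 by have := sq_pos_of_ne_zero hji; omega)
    have he0 : (0 : ℝ) < e i := Nat.cast_pos.mpr (by have := he3 i; omega)
    have hh1 : (0 : ℝ) ≤ (h i : ℝ) - 1 := sub_nonneg.mpr (Nat.one_le_cast.mpr Nat.card_pos)
    rw [div_le_iff₀ he0]
    refine le_trans (le_mul_of_one_le_left hh1 hc1) (le_of_eq ?_)
    exact mul_left_cancel₀ he0.ne' (by linear_combination -hr)
  have hselfj : (Nat.card (Subgroup.centralizer ({(x : G)} : Set G)) : ℝ) - e j ≤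
      ∑ χ ∈ img j, q χ := by
    rw [hsumimg j]
    obtain ⟨c1, c2, c3⟩ := column_sums (hC' j) (Sf j) (hSf j) hxK hx1
    rw [card_centralizer_normalizer (hC j) x hx₀ hx1] at c1
    rw [hcardK j] at c3
    have c2' : ∑ ξ ∈ Sf j, ξ 1 * conj (ξ x) = -(e j : ℂ) := by
      have h' := congrArg conj c2
      rw [map_sum, map_neg, map_natCast] at h'
      refine Eq.trans (Finset.sum_congr rfl fun ξ hξ => ?_) h'
      obtain ⟨d, -, hd⟩ := IsIrr.exists_degree (hSfm j ξ hξ).1
      rw [map_mul, hd, map_natCast]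
    have hv : ∀ ξ ∈ Sf j, (e j : ℂ) * (D j).A ξ x =
        ((D j).ε : ℂ) * (e j : ℂ) * ξ x + ξ 1 * (cs j : ℂ) := by
      intro ξ hξ
      have hξ' := hSfm j ξ hξ
      have h0 := ind_value (H j) (hTI j) (f := ζ j 1 • ξ - ξ 1 • ζ j)
        (fun a b => by
          show ζ j 1 * ξ (b * a * b⁻¹) - ξ 1 * ζ j (b * a * b⁻¹) = _
          rw [IsIrr.isClassFunction hξ'.1 a b, IsIrr.isClassFunction (hζS j).1 a b]
          rfl)
        (hw j ξ hξ' _ (hζS j)) hx₀ hx1
      rw [(D j).ext ξ hξ' _ (hζS j)] at h0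
      simp only [Pi.smul_apply, Pi.sub_apply, smul_eq_mul, hζ1 j] at h0
      rw [show (D j).A (ζ j) (x : G) = ((D j).ε : ℂ) * ζ j x + (cs j : ℂ) from
        (hcs j).1 x hx₀ hx1] at h0
      linear_combination ((D j).ε : ℂ) * h0 -
        ((e j : ℂ) * (D j).A ξ x - ξ 1 * (((D j).ε : ℂ) * ζ j x + (cs j : ℂ))) * hεsq j
    have hsum : (((e j : ℝ) ^ 2 * ∑ ξ ∈ Sf j, Complex.normSq ((D j).A ξ x) : ℝ) : ℂ) =
        (((e j : ℝ) ^ 2 * ((Nat.card (Subgroup.centralizer ({(x : G)} : Set G)) : ℝ) - e j) -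
          2 * (D j).ε * cs j * (e j : ℝ) ^ 2 +
          (cs j : ℝ) ^ 2 * ((e j : ℝ) * ((h j : ℝ) - 1)) : ℝ) : ℂ) := by
      push_cast
      rw [Finset.mul_sum]
      refine Eq.trans (Finset.sum_congr rfl (g := fun ξ => (e j : ℂ) ^ 2 * (ξ x * conj (ξ x)) +
        ((D j).ε : ℂ) * (e j : ℂ) * (cs j : ℂ) * (ξ 1 * ξ x) +
        ((D j).ε : ℂ) * (e j : ℂ) * (cs j : ℂ) * (ξ 1 * conj (ξ x)) +
        (cs j : ℂ) ^ 2 * (ξ 1 * ξ 1)) fun ξ hξ => ?_) ?_
      · obtain ⟨d, -, hd⟩ := IsIrr.exists_degree (hSfm j ξ hξ).1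
        rw [← Complex.mul_conj]
        calc (e j : ℂ) ^ 2 * ((D j).A ξ x * conj ((D j).A ξ x))
            = ((e j : ℂ) * (D j).A ξ x) * conj ((e j : ℂ) * (D j).A ξ x) := by
              rw [map_mul, map_natCast]; ring
          _ = _ := by
              rw [hv ξ hξ, hd]
              simp only [map_add, map_mul, map_natCast, map_intCast]
              linear_combination ((e j : ℂ) ^ 2 * (ξ x * conj (ξ x))) * hεsq j
      · rw [Finset.sum_add_distrib, Finset.sum_add_distrib, Finset.sum_add_distrib,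
          ← Finset.mul_sum, ← Finset.mul_sum, ← Finset.mul_sum, ← Finset.mul_sum, c1, c2, c2', c3]
        ring
    have hr := Complex.ofReal_injective hsum
    obtain ⟨n, hn2, hn⟩ := hhN j
    have hnR : (h j : ℝ) = n * e j + 1 := by exact_mod_cast hn
    have hint : (0 : ℤ) ≤ (cs j) ^ 2 * n - 2 * (D j).ε * cs j := by
      have hn' : (2 : ℤ) ≤ n := by exact_mod_cast hn2
      rcases (D j).hε with hε | hε <;> rw [hε] <;>
        rcases le_or_gt (cs j) (-1) with hcc | hcc <;>
        rcases le_or_gt 1 (cs j) with hcc' | hcc' <;> nlinarith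
    have hint' : (0 : ℝ) ≤ (cs j : ℝ) ^ 2 * n - 2 * (D j).ε * cs j := by exact_mod_cast hint
    have he2 : (0 : ℝ) < (e j : ℝ) ^ 2 := by
      have : (0 : ℝ) < e j := Nat.cast_pos.mpr (by have := he3 j; omega)
      positivity
    rw [hnR] at hr
    refine le_of_mul_le_mul_left ?_ he2
    nlinarith [mul_nonneg hint' he2.le]
  have hcolumn : ∑ i ∈ B, ((h i : ℝ) - 1) / e i ≤ (e j : ℝ) - 1 := by
    have hjB : j ∉ B := fun hh => (Finset.ne_of_mem_erase (Finset.mem_filter.mp hh).1) rfl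
    have hdis : ∀ i k, i ≠ k → Disjoint (img i) (img k) := by
      intro i k hik
      rw [Finset.disjoint_left]
      intro χ hi hk
      obtain ⟨ξ, -, rfl⟩ := Finset.mem_image.mp hi
      obtain ⟨η, -, he⟩ := Finset.mem_image.mp hk
      exact hcross i k hik _ (hSfm i _ ξ.2) _ (hSfm k _ η.2) (congrArg Subtype.val he).symm
    have htriv : trivChar G ∉ (insert j B).biUnion img := by
      intro hh
      obtain ⟨i, -, hi⟩ := Finset.mem_biUnion.mp hh
      obtain ⟨ξ, -, he⟩ := Finset.mem_image.mp hi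
      exact (D i).ne_one _ (hSfm i _ ξ.2) ((congrArg Subtype.val he).trans
        (funext fun y => trivChar_apply y))
    have hle : ∑ χ ∈ insert (trivChar G) ((insert j B).biUnion img), q χ ≤ ∑ χ, q χ :=
      Finset.sum_le_univ_sum_of_nonneg fun χ => Complex.normSq_nonneg _
    rw [Finset.sum_insert htriv, Finset.sum_biUnion (fun i _ k _ hik => hdis i k hik),
      Finset.sum_insert hjB, hq] at hle
    have hq1 : q (trivChar G) = 1 := by
      show Complex.normSq ((trivChar G : G → ℂ) x) = 1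
      rw [trivChar_apply, map_one]
    have h2 := Finset.sum_le_sum hotherB
    linarith
  -- conclusion
  obtain ⟨n, hn2, hn⟩ := hhN j
  have hnR : (h j : ℝ) = n * e j + 1 := by exact_mod_cast hn
  have he3R : (3 : ℝ) ≤ e j := by exact_mod_cast he3 j
  have he0 : (0 : ℝ) < e j := by linarith
  have hs0 : ∀ i, 0 ≤ s i := fun i =>
    div_nonneg (sub_nonneg.mpr (Nat.one_le_cast.mpr Nat.card_pos)) (by positivity)
  have hA : ∑ i ∈ (Finset.univ.erase j).filter (fun i => co i j ≠ 0), s i ≤ (e j : ℝ) / h j := by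
    refine le_trans ?_ hnorm
    refine le_trans (Finset.sum_le_sum fun i hi => ?_)
      (Finset.sum_le_sum_of_subset_of_nonneg (Finset.filter_subset _ _)
        fun i _ _ => mul_nonneg (sq_nonneg _) (hs0 i))
    have hc1 : (1 : ℝ) ≤ (co i j : ℝ) ^ 2 := by
      have h0 := (Finset.mem_filter.mp hi).2
      exact_mod_cast (show (1 : ℤ) ≤ co i j ^ 2 by have := sq_pos_of_ne_zero h0; omega)
    exact le_mul_of_one_le_left (hs0 i) hc1
  have hB : ∑ i ∈ B, s i ≤ ((e j : ℝ) - 1) / ((h j : ℝ) + 2) := by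
    refine le_trans (Finset.sum_le_sum fun i hi => ?_)
      ((Finset.sum_div B (fun i => ((h i : ℝ) - 1) / e i) ((h j : ℝ) + 2)).symm.le.trans
        (div_le_div_of_nonneg_right hcolumn (by positivity)))
    have hij := Finset.ne_of_mem_erase (Finset.mem_filter.mp hi).1
    have hge : (h j : ℝ) + 2 ≤ h i := by exact_mod_cast hbig i hij
    show ((h i : ℝ) - 1) / ((h i : ℝ) * (e i : ℝ)) ≤ ((h i : ℝ) - 1) / (e i : ℝ) / ((h j : ℝ) + 2)
    rw [div_div, mul_comm (h i : ℝ)]
    have he0' : (0 : ℝ) < e i := Nat.cast_pos.mpr (by have := he3 i; omega)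
    refine div_le_div_of_nonneg_left (sub_nonneg.mpr (Nat.one_le_cast.mpr Nat.card_pos))
      (by positivity) (mul_le_mul_of_nonneg_left hge he0'.le)
  have hsplit : ∑ i, s i = s j + (∑ i ∈ (Finset.univ.erase j).filter (fun i => co i j ≠ 0), s i +
      ∑ i ∈ B, s i) := by
    rw [← Finset.add_sum_erase _ _ (Finset.mem_univ j),
      ← Finset.sum_filter_add_sum_filter_not (Finset.univ.erase j) (fun i => co i j ≠ 0)]
    simp only [B, not_not]
  have hsj : s j = (n : ℝ) / h j := by
    show ((h j : ℝ) - 1) / ((h j : ℝ) * (e j : ℝ)) = _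
    rw [show (h j : ℝ) - 1 = n * e j by linarith]
    field_simp
  have hfin := count_contra he3R (by exact_mod_cast hn2) hnR hG hA hB
  linarith

end CfsgLib.Coh
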