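import Cfsg.Agent.Lib.Char.Coherence.Filtration
import Cfsg.Agent.Lib.Char.Complete
import Mathlib.GroupTheory.Sylow

/-!
# Coherence of `S(M)` unless `K / H₁` is a small chief factor
-/

set_option autoImplicit false

open scoped commutatorElement

namespace CfsgLib.Coh

/-- The index of a common centraliser divides the size of a conjugation invariant set. -/
theorem dvd_ncard {G : Type*} [Group G] [Finite G] (n : ℕ) (s : Set G)
    (hs : ∀ b ∈ s, ∀ g : G, g * b * g⁻¹ ∈ s)
    (hC : ∀ b ∈ s, n ∣ (Subgroup.centralizer ({b} : Set G)).index) : n ∣ s.ncard := by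
  classical
  have := Fintype.ofFinite G
  rw [Set.ncard_eq_toFinset_card', Finset.card_eq_sum_card_fiberwise (f := ConjClasses.mk)
    (t := s.toFinset.image ConjClasses.mk) fun x hx => Finset.mem_image_of_mem _ hx]
  refine Finset.dvd_sum fun c hc => ?_
  obtain ⟨b, hb, rfl⟩ := Finset.mem_image.mp hc
  rw [Set.mem_toFinset] at hb
  have h : (s.toFinset.filter fun x => ConjClasses.mk x = ConjClasses.mk b) =
      (ConjClasses.mk b).carrier.toFinset := by
    ext x
    simp only [Finset.mem_filter, Set.mem_toFinset, ConjClasses.mem_carrier_iff_mk_eq,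
      and_iff_right_iff_imp]
    intro h
    obtain ⟨g, rfl⟩ := isConj_iff.mp (ConjClasses.mk_eq_mk_iff_isConj.mp h).symm
    exact hs b hb g
  rw [h, ← Set.ncard_eq_toFinset_card', ← Nat.card_coe_set_eq, CfsgLib.Char.card_carrier_eq_index]
  exact hC b hb

theorem index_dvd_ncard {G : Type*} [Group G] [Finite G] (C : Subgroup G) (s : Set G)
    (hs : ∀ b ∈ s, ∀ g : G, g * b * g⁻¹ ∈ s)
    (hC : ∀ b ∈ s, Subgroup.centralizer ({b} : Set G) = C) : C.index ∣ s.ncard :=
  dvd_ncard _ s hs fun b hb => by rw [hC b hb]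

section

variable {L : Type*} [Group L] {K H₁ : Subgroup L}

/-- Fixed point freeness passes to quotients. -/
theorem frob_pass [Finite L] [H₁.Normal] (A : Subgroup L) [hA : A.Normal]
    (hab : ⁅K, K⁆ ≤ H₁) (hAK : A ≤ K) (hH₁A : H₁ ≤ A)
    (hfrob : ∀ k ∈ K, k ∉ H₁ → ∀ x : L, x * k * x⁻¹ * k⁻¹ ∈ H₁ → x ∈ K) :
    ∀ k ∈ K, k ∉ A → ∀ x : L, x * k * x⁻¹ * k⁻¹ ∈ A → x ∈ K := by
  intro k hk hkA x hx
  by_contra hxK
  set f := QuotientGroup.mk' H₁
  have hker : ∀ a b : L, f a = f b → a * b⁻¹ ∈ H₁ := fun a b h => by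
    rw [← QuotientGroup.eq_one_iff, ← QuotientGroup.mk'_apply, map_mul, map_inv, h, mul_inv_cancel]
  have hcomm : ∀ a ∈ K, ∀ b ∈ K, Commute (f a) (f b) := fun a ha b hb => by
    refine mul_inv_eq_iff_eq_mul.mp (mul_inv_eq_one.mp ?_)
    rw [← map_mul, ← map_inv, ← map_mul, ← map_inv, ← map_mul, QuotientGroup.mk'_apply,
      QuotientGroup.eq_one_iff]
    exact hab (Subgroup.commutator_mem_commutator ha hb)
  have : ((A.map f)).Normal := hA.map f (QuotientGroup.mk'_surjective H₁)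
  have hmem : ∀ a : A.map f, f x * a * (f x)⁻¹ * (a : L ⧸ H₁)⁻¹ ∈ A.map f := fun a =>
    mul_mem (Subgroup.Normal.conj_mem inferInstance _ a.2 _) (inv_mem a.2)
  let F : A.map f → A.map f := fun a => ⟨_, hmem a⟩
  have hinj : Function.Injective F := by
    rintro ⟨_, a, ha, rfl⟩ ⟨_, b, hb, rfl⟩ h
    have h' : f x * f a * (f x)⁻¹ * (f a)⁻¹ = f x * f b * (f x)⁻¹ * (f b)⁻¹ :=
      congrArg Subtype.val h
    refine Subtype.ext ?_
    show f a = f b
    by_contra hne
    refine hxK (hfrob (b⁻¹ * a) (mul_mem (inv_mem (hAK hb)) (hAK ha)) (fun hm => hne ?_) x ?_)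
    · have h1 : f (b⁻¹ * a) = 1 := (QuotientGroup.eq_one_iff _).mpr hm
      rw [map_mul, map_inv] at h1
      exact (inv_mul_eq_one.mp h1).symm
    · rw [← QuotientGroup.eq_one_iff, ← QuotientGroup.mk'_apply]
      simp only [map_mul, map_inv, mul_inv_rev, inv_inv]
      have hc : Commute (f a) (f b) := hcomm a (hAK ha) b (hAK hb)
      have hc' : Commute (f x * f b * (f x)⁻¹) (f b) := by
        rw [← map_mul, ← map_inv, ← map_mul]
        exact hcomm _ (hAK (hA.conj_mem b hb x)) b (hAK hb)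
      calc f x * ((f b)⁻¹ * f a) * (f x)⁻¹ * ((f a)⁻¹ * f b)
          = (f x * f b * (f x)⁻¹)⁻¹ * (f x * f a * (f x)⁻¹ * (f a)⁻¹) * f b := by group
        _ = (f x * f b * (f x)⁻¹)⁻¹ * (f x * f b * (f x)⁻¹ * (f b)⁻¹) * f b := by rw [h']
        _ = 1 := by group
  obtain ⟨⟨_, a, ha, rfl⟩, hFa⟩ := (Finite.injective_iff_surjective.mp hinj)
    ⟨f (x * k * x⁻¹ * k⁻¹), Subgroup.mem_map_of_mem f hx⟩
  have h' : f x * f a * (f x)⁻¹ * (f a)⁻¹ = f x * f k * (f x)⁻¹ * (f k)⁻¹ := by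
    have h0 := congrArg Subtype.val hFa
    simpa [F] using h0
  refine hxK (hfrob (a⁻¹ * k) (mul_mem (inv_mem (hAK ha)) hk) (fun hm => hkA ?_) x ?_)
  · have := mul_mem ha (hH₁A hm)
    rwa [mul_inv_cancel_left] at this
  · rw [← QuotientGroup.eq_one_iff, ← QuotientGroup.mk'_apply]
    simp only [map_mul, map_inv, mul_inv_rev, inv_inv]
    calc f x * ((f a)⁻¹ * f k) * (f x)⁻¹ * ((f k)⁻¹ * f a)
        = (f x * f a * (f x)⁻¹)⁻¹ * (f x * f k * (f x)⁻¹ * (f k)⁻¹) * f a := by group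
      _ = (f x * f a * (f x)⁻¹)⁻¹ * (f x * f a * (f x)⁻¹ * (f a)⁻¹) * f a := by rw [h']
      _ = 1 := by group

/-- `[L:K]` divides `[B:A] - 1` for a central fixed-point-free factor. -/
theorem index_dvd_relIndex_sub_one [Finite L] [K.Normal] {A B : Subgroup L} [A.Normal]
    [hB : B.Normal] (hAB : A ≤ B) (hBK : B ≤ K) (hcent : ⁅K, B⁆ ≤ A)
    (hfr : ∀ k ∈ B, k ∉ A → ∀ x : L, x * k * x⁻¹ * k⁻¹ ∈ A → x ∈ K) :
    K.index ∣ A.relIndex B - 1 := by
  set f := QuotientGroup.mk' A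
  have hf := QuotientGroup.mk'_surjective A
  have hA : f.ker = A := QuotientGroup.ker_mk' A
  have hidx : (K.map f).index = K.index := by
    rw [Subgroup.index_map, hA, sup_eq_left.mpr (hAB.trans hBK), MonoidHom.range_eq_top.mpr hf,
      Subgroup.index_top, mul_one]
  have hcard : ({b : L ⧸ A | b ∈ B.map f ∧ b ≠ 1}).ncard = A.relIndex B - 1 := by
    have h : A.relIndex B = Nat.card (B.map f) := by
      rw [← Subgroup.relIndex_bot_left, ← Subgroup.relIndex_comap, MonoidHom.comap_bot, hA]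
    rw [h, ← SetLike.coe_sort_coe, Nat.card_coe_set_eq,
      ← Set.ncard_sdiff_singleton_of_mem (Subgroup.one_mem (B.map f))]
    rfl
  rw [← hidx, ← hcard]
  have : (B.map f).Normal := hB.map f hf
  refine index_dvd_ncard _ _ (fun b hb g => ⟨Subgroup.Normal.conj_mem inferInstance b hb.1 g,
    fun h => hb.2 (by simpa using h)⟩) ?_
  rintro _ ⟨⟨b, hb, rfl⟩, hb1⟩
  ext q
  obtain ⟨x, rfl⟩ := hf q
  have hiff : f x * f b = f b * f x ↔ x * b * x⁻¹ * b⁻¹ ∈ A := by
    rw [← QuotientGroup.eq_one_iff, ← QuotientGroup.mk'_apply, map_mul, map_mul, map_mul, map_inv,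
      map_inv, mul_inv_eq_one, mul_inv_eq_iff_eq_mul]
  rw [Subgroup.mem_centralizer_singleton_iff]
  constructor
  · intro h
    refine Subgroup.mem_map_of_mem f (hfr b hb (fun hbA => hb1 ?_) x (hiff.mp h))
    exact (QuotientGroup.eq_one_iff b).mpr hbA
  · rintro ⟨y, hy, hyx⟩
    rw [← hyx]
    have hy' : y * b * y⁻¹ * b⁻¹ ∈ A := hcent (Subgroup.commutator_mem_commutator hy hb)
    rw [← QuotientGroup.eq_one_iff, ← QuotientGroup.mk'_apply, map_mul, map_mul, map_mul, map_inv,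
      map_inv, mul_inv_eq_one, mul_inv_eq_iff_eq_mul] at hy'
    exact hy'

theorem two_mul_index_lt [Finite L] [K.Normal] (hodd : Odd (Nat.card L)) {A B : Subgroup L}
    [A.Normal] [B.Normal] (hAB : A < B) (hBK : B ≤ K) (hcent : ⁅K, B⁆ ≤ A)
    (hfr : ∀ k ∈ B, k ∉ A → ∀ x : L, x * k * x⁻¹ * k⁻¹ ∈ A → x ∈ K) :
    2 * K.index < A.relIndex B := by
  have hdvd := index_dvd_relIndex_sub_one hAB.le hBK hcent hfr
  have h1 : A.relIndex B ≠ 1 := fun h => hAB.not_ge (Subgroup.relIndex_eq_one.mp h)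
  have h0 : A.relIndex B ≠ 0 := Subgroup.index_ne_zero_of_finite
  obtain ⟨a, ha⟩ := hodd.of_dvd_nat K.index_dvd_card
  obtain ⟨b, hb⟩ := hodd.of_dvd_nat ((Subgroup.index_dvd_card (A.subgroupOf B)).trans
    (Subgroup.card_subgroup_dvd_card B))
  obtain ⟨c, hc⟩ := hdvd
  change A.relIndex B = _ at hb
  rcases Nat.lt_or_ge c 2 with h | h
  · interval_cases c
    · omega
    · omega
  · have := Nat.mul_le_mul_left K.index h
    omega

theorem dichotomy_index_bound [Finite L] [K.Normal] [H₁.Normal] (hodd : Odd (Nat.card L))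
    (hab : ⁅K, K⁆ ≤ H₁) (hH₁K : H₁ < K)
    (hfrob : ∀ k ∈ K, k ∉ H₁ → ∀ x : L, x * k * x⁻¹ * k⁻¹ ∈ H₁ → x ∈ K) :
    2 * K.index < H₁.relIndex K :=
  two_mul_index_lt hodd hH₁K le_rfl hab hfrob

/-- Two factors are already large. -/
theorem large_of_between [Finite L] [K.Normal] [H₁.Normal] (hodd : Odd (Nat.card L))
    (hab : ⁅K, K⁆ ≤ H₁)
    (hfrob : ∀ k ∈ K, k ∉ H₁ → ∀ x : L, x * k * x⁻¹ * k⁻¹ ∈ H₁ → x ∈ K)
    {N : Subgroup L} [N.Normal] (h1 : H₁ < N) (h2 : N < K) :
    4 * K.index ^ 2 + 1 < H₁.relIndex K := by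
  have e1 := two_mul_index_lt hodd h1 h2.le ((Subgroup.commutator_mono le_rfl h2.le).trans hab)
    fun k hk => hfrob k (h2.le hk)
  have e2 := two_mul_index_lt hodd h2 le_rfl (hab.trans h1.le)
    (frob_pass N hab h2.le h1.le hfrob)
  rw [← Subgroup.relIndex_mul_relIndex H₁ N K h1.le h2.le]
  have h0 : 0 < K.index := Nat.pos_of_ne_zero Subgroup.index_ne_zero_of_finite
  nlinarith

/-- Without an intermediate normal subgroup the factor has prime power order. -/
theorem prime_pow_of_no_between [Finite L] [hK : K.Normal] [H₁.Normal] (hab : ⁅K, K⁆ ≤ H₁)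
    (hH₁K : H₁ < K) (hno : ¬ ∃ N : Subgroup L, N.Normal ∧ H₁ < N ∧ N < K) :
    ∃ p a : ℕ, p.Prime ∧ H₁.relIndex K = p ^ a := by
  set f := QuotientGroup.mk' H₁
  have hf := QuotientGroup.mk'_surjective H₁
  have hker : f.ker = H₁ := QuotientGroup.ker_mk' H₁
  have hcard : H₁.relIndex K = Nat.card (K.map f) := by
    rw [← Subgroup.relIndex_bot_left, ← Subgroup.relIndex_comap, MonoidHom.comap_bot, hker]
  set p := (H₁.relIndex K).minFac
  have hp : p.Prime := Nat.minFac_prime fun h => hH₁K.not_ge (Subgroup.relIndex_eq_one.mp h)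
  have := Fact.mk hp
  obtain ⟨P⟩ := (Sylow.nonempty : Nonempty (Sylow p (K.map f)))
  have : IsMulCommutative (K.map f) := by
    refine ⟨⟨?_⟩⟩
    rintro ⟨_, a, ha, rfl⟩ ⟨_, b, hb, rfl⟩
    refine Subtype.ext (mul_inv_eq_iff_eq_mul.mp (mul_inv_eq_one.mp ?_))
    show f a * f b * (f a)⁻¹ * (f b)⁻¹ = 1
    rw [← map_mul, ← map_inv, ← map_mul, ← map_inv, ← map_mul, QuotientGroup.mk'_apply,
      QuotientGroup.eq_one_iff]
    exact hab (Subgroup.commutator_mem_commutator ha hb)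
  have hPn : (P : Subgroup (K.map f)).Normal := ⟨fun n hn g => by
    rwa [mul_comm' g n, mul_inv_cancel_right]⟩
  have := Sylow.characteristic_of_normal P hPn
  have : (K.map f).Normal := hK.map f hf
  set N := ((P : Subgroup (K.map f)).map (K.map f).subtype).comap f
  have hN1 : H₁ ≤ N := by
    rw [← hker]; exact Subgroup.comap_mono bot_le
  have hN2 : N ≤ K := by
    refine (Subgroup.comap_mono (Subgroup.map_subtype_le _)).trans ?_
    rw [Subgroup.comap_map_eq, hker, sup_eq_left.mpr hH₁K.le]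
  have hne : H₁ ≠ N := fun h => by
    have h1 : (P : Subgroup (K.map f)).map (K.map f).subtype = ⊥ := by
      rw [← Subgroup.map_comap_eq_self_of_surjective hf (((P : Subgroup (K.map f))).map _)]
      show N.map f = ⊥
      rw [← h, Subgroup.map_eq_bot_iff, hker]
    rw [Subgroup.map_eq_bot_iff_of_injective _ (Subgroup.subtype_injective _)] at h1
    exact P.ne_bot_of_dvd_card (hcard ▸ Nat.minFac_dvd _) h1
  have heq : N = K := by
    rcases hN2.eq_or_lt with h | h
    · exact h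
    · exact (hno ⟨N, inferInstance, lt_of_le_of_ne hN1 hne, h⟩).elim
  have htop : (P : Subgroup (K.map f)) = ⊤ := by
    refine Subgroup.map_injective (Subgroup.subtype_injective _) ?_
    rw [← Subgroup.map_comap_eq_self_of_surjective hf (((P : Subgroup (K.map f))).map _)]
    show N.map f = _
    rw [heq, ← MonoidHom.range_eq_map, Subgroup.range_subtype]
  obtain ⟨a, ha⟩ := IsPGroup.iff_card.mp P.isPGroup'
  rw [htop, Subgroup.card_top, ← hcard] at ha
  exact ⟨p, a, hp, ha⟩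

omit [Group L] in
/-- A nilpotent group whose abelianisation is a `p`-group is a `p`-group. -/
theorem isPGroup_of_index_commutator {Q : Type*} [Group Q] [Finite Q] (hQ : Group.IsNilpotent Q)
    {p a : ℕ} [Fact p.Prime] (h : (commutator Q).index = p ^ a) : IsPGroup p Q := by
  obtain ⟨P⟩ := (Sylow.nonempty : Nonempty (Sylow p Q))
  have hPn : (P : Subgroup Q).Normal :=
    Sylow.normal_of_normalizerCondition Group.normalizerCondition_of_isNilpotent P
  have hsup : commutator Q ⊔ (P : Subgroup Q) = ⊤ := by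
    refine Subgroup.index_eq_one.mp (Nat.eq_one_of_dvd_coprimes ?_
      (Subgroup.index_dvd_of_le le_sup_left) (Subgroup.index_dvd_of_le le_sup_right))
    rw [h]
    exact Nat.Coprime.pow_left a ((Fact.out : p.Prime).coprime_iff_not_dvd.mpr (Sylow.not_dvd_index P))
  have htop : (P : Subgroup Q) = ⊤ := top_le_iff.mp <| le_of_le_commutator_sup (H := ⊤) (M := ⊥)
    inferInstance bot_le le_rfl (by rw [← commutator_def, hsup])
  exact P.isPGroup'.of_equiv ((MulEquiv.subgroupCongr htop).trans Subgroup.topEquiv)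

omit [Group L] in
/-- A nilpotent group with abelianisation of prime order is commutative. -/
theorem commutator_eq_bot_of_index_prime {Q : Type*} [Group Q] [Finite Q]
    (hQ : Group.IsNilpotent Q) {p : ℕ} (hp : p.Prime) (h : (commutator Q).index = p) :
    commutator Q = ⊥ := by
  obtain ⟨g, hg⟩ : ∃ g, g ∉ commutator Q := by
    by_contra hne
    push Not at hne
    rw [(Subgroup.eq_top_iff' _).mpr hne, Subgroup.index_top] at h
    exact hp.ne_one h.symm
  have hz : Subgroup.zpowers g = ⊤ := by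
    rcases eq_top_or_exists_le_coatom (Subgroup.zpowers g) with h' | ⟨M, hM, hgM⟩
    · exact h'
    exfalso
    have := Subgroup.NormalizerCondition.normal_of_coatom M Group.normalizerCondition_of_isNilpotent hM
    have hQM : commutator Q ≤ M := by
      by_contra hne
      exact hM.1 (top_le_iff.mp (le_of_le_commutator_sup (H := ⊤) (M := ⊥) inferInstance bot_le le_rfl
        (by rw [← commutator_def, hM.2 _ (right_lt_sup.mpr hne)])))
    have hdvd := Subgroup.index_dvd_of_le hQM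
    rw [h] at hdvd
    rcases hp.eq_one_or_self_of_dvd _ hdvd with h1 | h1
    · exact hM.1 (Subgroup.index_eq_one.mp h1)
    · have h2 := Subgroup.relIndex_mul_index hQM
      rw [h, h1] at h2
      exact hg (Subgroup.relIndex_eq_one.mp ((mul_eq_right₀ hp.ne_zero).mp h2)
        (hgM (Subgroup.mem_zpowers g)))
  have : IsCyclic Q := ⟨g, fun x => hz.ge (Subgroup.mem_top x)⟩
  let _ := IsCyclic.commGroup (α := Q)
  exact (commutator_eq_bot_iff_center_eq_top Q).mpr CommGroup.center_eq_top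

theorem index_commutator_quotient (M : Subgroup L) [(M.subgroupOf K).Normal] (hMK : M ≤ K) :
    (commutator (↥K ⧸ M.subgroupOf K)).index = (⁅K, K⁆ ⊔ M).relIndex K := by
  have hK' : ⁅K, K⁆.subgroupOf K = commutator K := by
    refine Subgroup.map_injective K.subtype_injective ?_
    rw [Subgroup.map_subgroupOf_eq_of_le (Subgroup.commutator_le_self K), commutator_def,
      Subgroup.map_commutator, ← MonoidHom.range_eq_map, Subgroup.range_subtype]
  rw [Subgroup.relIndex, Subgroup.subgroupOf_sup (Subgroup.commutator_le_self K) hMK, hK',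
    commutator_def, ← Subgroup.map_top_of_surjective _
      (QuotientGroup.mk'_surjective (M.subgroupOf K)), ← Subgroup.map_commutator,
    Subgroup.index_map, QuotientGroup.ker_mk',
    MonoidHom.range_eq_top.mpr (QuotientGroup.mk'_surjective _), Subgroup.index_top, mul_one,
    ← commutator_def]

end

section

open CfsgLib.Char

variable {L : Type*} [Group L] [Fintype L] {G : Type*} [Group G] [Fintype G] {K : Subgroup L}
  [hK : K.Normal] {τ : (L → ℂ) → (G → ℂ)} {cl : (L → ℂ) → (L → ℂ)}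

/-- Coherence of `S(M)` under any of the alternatives. -/
theorem dichotomy (hSet : Setting (Cfsg.inducedIrrAbove K ⊥) τ cl)
    (hcl : ∀ X : Subgroup L, Closed cl (Cfsg.inducedIrrAbove K X)) (hsolv : Group.IsSolvable K)
    (hodd : Odd (Nat.card L)) (M : Subgroup L) [M.Normal] (hMK : M ≤ K) [(M.subgroupOf K).Normal]
    (hnil : Group.IsNilpotent (↥K ⧸ M.subgroupOf K)) (H₁ : Subgroup L) (hH₁ : H₁ = ⁅K, K⁆ ⊔ M)
    (hH₁K : H₁ < K) (hfrob : ∀ k ∈ K, k ∉ H₁ → ∀ x : L, x * k * x⁻¹ * k⁻¹ ∈ H₁ → x ∈ K)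
    (hbase : Cfsg.IsCoherent (Cfsg.inducedIrrAbove K H₁) {1}ᶜ τ)
    (hgood : (∃ N : Subgroup L, N.Normal ∧ H₁ < N ∧ N < K) ∨ 4 * K.index ^ 2 + 1 < H₁.relIndex K ∨
      (¬ ∃ p m : ℕ, p.Prime ∧ M.relIndex K = p ^ m) ∨ ⁅K, K⁆ ≤ M ∨
      (∃ p m : ℕ, p.Prime ∧ M.relIndex K = p ^ m ∧ K.index ∣ p - 1)) :
    Cfsg.IsCoherent (Cfsg.inducedIrrAbove K M) {1}ᶜ τ := by
  have hH₁n : H₁.Normal := by rw [hH₁]; infer_instance
  have hab : ⁅K, K⁆ ≤ H₁ := hH₁ ▸ le_sup_left
  have hMH₁ : M ≤ H₁ := hH₁ ▸ le_sup_right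
  by_cases hKM : ⁅K, K⁆ ≤ M
  · rwa [hH₁, sup_eq_right.mpr hKM] at hbase
  by_cases hbig : 4 * K.index ^ 2 + 1 < H₁.relIndex K
  · exact step_nilpotent hSet hcl hsolv hMH₁ hH₁K.le le_rfl hnil hbase hbig
  have hno : ¬ ∃ N : Subgroup L, N.Normal ∧ H₁ < N ∧ N < K := fun ⟨N, hN, h1, h2⟩ =>
    hbig (large_of_between hodd hab hfrob h1 h2)
  obtain ⟨q, a, hq, ha⟩ := prime_pow_of_no_between hab hH₁K hno
  have := Fact.mk hq
  have hidx : (commutator (↥K ⧸ M.subgroupOf K)).index = q ^ a := by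
    rw [index_commutator_quotient M hMK, ← hH₁, ha]
  obtain ⟨m, hm⟩ := IsPGroup.iff_card.mp (isPGroup_of_index_commutator hnil hidx)
  have hpow : M.relIndex K = q ^ m := hm
  rcases hgood with h | h | h | h | ⟨p, n, hp, hn, hdvd⟩
  · exact absurd h hno
  · exact absurd h hbig
  · exact absurd ⟨q, m, hq, hpow⟩ h
  · exact absurd h hKM
  exfalso
  have ha0 : a ≠ 0 := fun h0 => hH₁K.not_ge (Subgroup.relIndex_eq_one.mp (by rw [ha, h0, pow_zero]))
  have hm0 : m ≠ 0 := fun h0 => hH₁K.not_ge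
    ((Subgroup.relIndex_eq_one.mp (by rw [hpow, h0, pow_zero])).trans hMH₁)
  have hqp : q = p := (Nat.prime_dvd_prime_iff_eq hq hp).mp
    (hq.dvd_of_dvd_pow (hn ▸ hpow ▸ dvd_pow_self q hm0))
  subst hqp
  have hqodd : Odd q := hodd.of_dvd_nat ((dvd_pow_self q hm0).trans (hpow ▸
    (Subgroup.index_dvd_card _).trans (Subgroup.card_subgroup_dvd_card K)))
  have hesmall : 2 * K.index + 1 ≤ q := by
    obtain ⟨b, hb⟩ := hodd.of_dvd_nat K.index_dvd_card
    obtain ⟨c, hc⟩ := hqodd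
    obtain ⟨d, hd⟩ := hdvd
    have h2 := hq.two_le
    rcases Nat.lt_or_ge d 2 with h | h
    · interval_cases d <;> omega
    · have := Nat.mul_le_mul_left K.index h
      omega
  have ha1 : a = 1 := by
    by_contra hne
    have h2 : q ^ 2 ≤ q ^ a := Nat.pow_le_pow_right hq.pos (by omega)
    have h3 := Nat.pow_le_pow_left hesmall 2
    have h4 : 0 < K.index := Nat.pos_of_ne_zero Subgroup.index_ne_zero_of_finite
    rw [ha] at hbig
    nlinarith
  rw [ha1, pow_one] at hidx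
  have hbot := commutator_eq_bot_of_index_prime hnil hq hidx
  refine hKM ((Subgroup.commutator_le).mpr fun x hx y hy => ?_)
  have hmem : ⁅(QuotientGroup.mk' (M.subgroupOf K)) ⟨x, hx⟩, (QuotientGroup.mk' _) ⟨y, hy⟩⁆ ∈
      commutator (↥K ⧸ M.subgroupOf K) :=
    Subgroup.commutator_mem_commutator (Subgroup.mem_top _) (Subgroup.mem_top _)
  rw [hbot, Subgroup.mem_bot, ← map_commutatorElement, QuotientGroup.mk'_apply,
    QuotientGroup.eq_one_iff] at hmem
  exact hmem

/-- Restriction of a coherence system to a stable subset. -/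
theorem system_subset {S T : Set (L → ℂ)} {R : (L → ℂ) → Finset (G → ℂ)}
    (hS : Cfsg.IsCoherenceSystem S τ R) (hTS : T ⊆ S) (hne : T.Nonempty)
    (hT : Closed Cfsg.conjFun T) : Cfsg.IsCoherenceSystem T τ R where
  nonempty := hne
  isCharacter χ h := hS.isCharacter χ (hTS h)
  conj_mem := hT
  conj_ne χ h := hS.conj_ne χ (hTS h)
  isometry := Exceptional.IsLinearIsometryOn.mono hS.isometry (Exceptional.zspanOn_subset _ hTS)
  map_one α h := hS.map_one α (Exceptional.zspanOn_subset _ hTS h)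
  orthogonal χ h φ h' := hS.orthogonal χ (hTS h) φ (hTS h')
  orthonormal χ h := hS.orthonormal χ (hTS h)
  virtual χ h := hS.virtual χ (hTS h)
  sum_eq χ h := hS.sum_eq χ (hTS h)
  disjoint χ h φ h' := hS.disjoint χ (hTS h) φ (hTS h')

/-- `S(A)` is coherent when `[K,K] ≤ A`. -/
theorem coherent_abelian_section {R : (L → ℂ) → Finset (G → ℂ)}
    (hS : Cfsg.IsCoherenceSystem (Cfsg.inducedIrrAbove K ⊥) τ R) (hsolv : Group.IsSolvable K)
    {A : Subgroup L} [A.Normal] (hA : ¬ K ≤ A) (hKA : ⁅K, K⁆ ≤ A) :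
    Cfsg.IsCoherent (Cfsg.inducedIrrAbove K A) {1}ᶜ τ := by
  obtain ⟨χ, hχ, -⟩ := exists_min_member hsolv hA
  exact Exceptional.coherenceSystem_const_degree
    (system_subset hS (inducedIrrAbove_subset A) ⟨χ, hχ⟩ (closed_conj A))
    fun φ hφ ψ hψ => by rw [apply_one_of_mem hKA hφ, apply_one_of_mem hKA hψ]

end

end CfsgLib.Coh
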