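import Cfsg.Agent.Lib.Char.Exceptional.Coherence3

/-!
# Gluing two coherent sets when the degree divides a coefficient
-/

set_option autoImplicit false

namespace CfsgLib.Coh

open CfsgLib.Char CfsgLib.Char.Exceptional

variable {L : Type*} [Group L] [Fintype L] {G : Type*} [Group G] [Fintype G]

theorem classInner_neg_r (f g : G → ℂ) : Cfsg.classInner f (-g) = -Cfsg.classInner f g := by
  rw [← classInner_conj_symm, classInner_neg_left, map_neg, classInner_conj_symm]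

omit [Fintype G] in
/-- On a pair of equal degree only the difference of the two values matters. -/
theorem flip_pair {T : Finset (L → ℂ)} {x y : L → ℂ} (hirr : ∀ ξ ∈ T, Cfsg.IsIrrCharacter L ξ)
    (hx : x ∈ T) (hy : y ∈ T) (hxy : x ≠ y) (hT : ∀ ξ ∈ T, ξ = x ∨ ξ = y) (h1 : x 1 = y 1)
    {v w : (L → ℂ) → (G → ℂ)} (hvw : v x - v y = w x - w y) {f : L → ℂ}
    (hf : f ∈ Cfsg.zspanOn (↑T : Set (L → ℂ)) ({1}ᶜ : Set L)) : extMap T v f = extMap T w f := by
  classical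
  obtain ⟨n, rfl⟩ := mem_zspan_iff_sum.1 hf.1
  have hTe : T = {x, y} := by
    ext ξ
    simp only [Finset.mem_insert, Finset.mem_singleton]
    exact ⟨hT ξ, fun h => h.elim (fun e => e ▸ hx) (fun e => e ▸ hy)⟩
  have h0 := hf.2 1 (by simp)
  simp only [hTe, Finset.sum_pair hxy, Pi.add_apply, Pi.smul_apply, smul_eq_mul, h1] at h0
  rw [← add_mul] at h0
  have hn : (n y : ℂ) = -(n x : ℂ) := by
    have := (mul_eq_zero.mp h0).resolve_right (IsIrr.apply_one_ne_zero (hirr y hy))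
    linear_combination this
  rw [extMap_sum hirr, extMap_sum hirr, hTe, Finset.sum_pair hxy, Finset.sum_pair hxy, hn,
    neg_smul, neg_smul, ← sub_eq_add_neg, ← sub_eq_add_neg, ← smul_sub, ← smul_sub, hvw]

/-- The gluing step of the coherence theorem for Frobenius groups with TI kernel. -/
theorem sibley_glue {X Y : Finset (L → ℂ)} (hirr : ∀ ξ ∈ X ∪ Y, Cfsg.IsIrrCharacter L ξ)
    (hd : ∀ x ∈ X, ∀ y ∈ Y, x ≠ y) {τ : (L → ℂ) → (G → ℂ)}
    (hτ : Cfsg.IsLinearIsometryOn (Cfsg.zspanOn (↑(X ∪ Y) : Set (L → ℂ)) ({1}ᶜ : Set L)) τ)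
    (hτ1 : ∀ α ∈ Cfsg.zspanOn (↑(X ∪ Y) : Set (L → ℂ)) ({1}ᶜ : Set L), τ α 1 = 0)
    (hXc : ∀ x ∈ X, Cfsg.conjFun x ∈ X ∧ Cfsg.conjFun x ≠ x)
    {e : ℕ} (hXd : ∀ x ∈ X, ∃ k : ℕ, x 1 = ((e * k : ℕ) : ℂ)) (hYd : ∀ y ∈ Y, y 1 = (e : ℂ))
    (hY2 : ∃ p ∈ Y, ∃ q ∈ Y, p ≠ q) {τ₁ τ₂ : (L → ℂ) → (G → ℂ)}
    (h1 : Cfsg.IsLinearIsometryOn (Cfsg.zspan (↑X : Set (L → ℂ))) τ₁)
    (h1e : ∀ θ ∈ Cfsg.zspanOn (↑X : Set (L → ℂ)) ({1}ᶜ : Set L), τ₁ θ = τ θ)
    (h2 : Cfsg.IsLinearIsometryOn (Cfsg.zspan (↑Y : Set (L → ℂ))) τ₂)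
    (h2e : ∀ θ ∈ Cfsg.zspanOn (↑Y : Set (L → ℂ)) ({1}ᶜ : Set L), τ₂ θ = τ θ)
    {ψ η : L → ℂ} (hψ : ψ ∈ X) (hη : η ∈ Y) {a : ℕ} (ha : ψ 1 = ((e * a : ℕ) : ℂ))
    (hdvd : ∀ m : ℤ, Cfsg.classInner (τ (ψ - (a : ℂ) • η)) (τ₂ η) = m → (a : ℤ) ∣ m) :
    Cfsg.IsCoherent (↑(X ∪ Y) : Set (L → ℂ)) ({1}ᶜ : Set L) τ := by
  classical
  have mX : ∀ x ∈ X, x ∈ X ∪ Y := fun x h => Finset.mem_union_left _ h
  have mY : ∀ y ∈ Y, y ∈ X ∪ Y := fun y h => Finset.mem_union_right _ h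
  have hiX : ∀ x ∈ X, Cfsg.IsIrrCharacter L x := fun x h => hirr x (mX x h)
  have hiY : ∀ y ∈ Y, Cfsg.IsIrrCharacter L y := fun y h => hirr y (mY y h)
  have ha0 : 0 < a := Nat.pos_of_ne_zero fun h =>
    IsIrr.apply_one_ne_zero (hiX ψ hψ) (by rw [ha, h]; simp)
  have he0 : (e : ℂ) ≠ 0 := hYd η hη ▸ IsIrr.apply_one_ne_zero (hiY η hη)
  have hsX : (↑X : Set (L → ℂ)) ⊆ ↑(X ∪ Y) := by simp
  have hsY : (↑Y : Set (L → ℂ)) ⊆ ↑(X ∪ Y) := by simp
  set u := ψ - (a : ℂ) • η with hu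
  have hum : u ∈ Cfsg.zspanOn (↑(X ∪ Y) : Set (L → ℂ)) ({1}ᶜ : Set L) := by
    refine ⟨(Submodule.span ℤ (↑(X ∪ Y) : Set (L → ℂ))).sub_mem
      (mem_zspan_self (Finset.mem_coe.mpr (mX ψ hψ)))
      (natCast_smul_mem_zspan a (mem_zspan_self (Finset.mem_coe.mpr (mY η hη)))), fun x hx => ?_⟩
    simp only [Set.mem_compl_iff, Set.mem_singleton_iff, not_not] at hx
    subst hx
    simp [hu, ha, hYd η hη]; ring
  set β := τ u with hβ
  obtain ⟨hψc', hne⟩ := hXc ψ hψ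
  obtain ⟨ψc, hψc⟩ : ∃ x, x = Cfsg.conjFun ψ := ⟨_, rfl⟩
  rw [← hψc] at hψc' hne
  have hdc : ψ 1 = ψc 1 := by simp [hψc, Cfsg.conjFun, ha]
  -- inner products on the two sides
  have hin : ∀ x ∈ X ∪ Y, ∀ y ∈ X ∪ Y, Cfsg.classInner x y = if x = y then 1 else 0 :=
    fun x hx y hy => classInner_of_irr (hirr x hx) (hirr y hy)
  have horth : ∀ x ∈ X, ∀ y ∈ Y, Cfsg.classInner (τ₁ x) (τ₂ y) = 0 := fun x hx y hy =>
    coherent_pieces_orth (S := (↑(X ∪ Y) : Set (L → ℂ))) hirr hsX hsY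
      (Set.disjoint_left.mpr fun z hz hz' => hd z hz z hz' rfl)
      ⟨ψ, hψ, ψc, hψc', hne.symm⟩ hY2 hτ hτ1 h1 h1e h2 h2e x hx y hy
  have horth' : ∀ y ∈ Y, ∀ x ∈ X, Cfsg.classInner (τ₂ y) (τ₁ x) = 0 := fun y hy x hx => by
    rw [← classInner_conj_symm, horth x hx y hy, map_zero]
  have hXX : ∀ x ∈ X, ∀ y ∈ X, Cfsg.classInner (τ₁ x) (τ₁ y) = if x = y then 1 else 0 :=
    fun x hx y hy => by rw [h1.2.2.1 x (mem_zspan_self hx) y (mem_zspan_self hy), hin x (mX x hx) y (mX y hy)]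
  have hYY : ∀ x ∈ Y, ∀ y ∈ Y, Cfsg.classInner (τ₂ x) (τ₂ y) = if x = y then 1 else 0 :=
    fun x hx y hy => by rw [h2.2.2.1 x (mem_zspan_self hx) y (mem_zspan_self hy), hin x (mY x hx) y (mY y hy)]
  have hββ : Cfsg.classInner β β = 1 + (a : ℂ) * a := by
    rw [hβ, hτ.2.2.1 u hum u hum, hu]
    simp only [classInner_sub_left, classInner_sub_right, classInner_smul_left,
      classInner_smul_right, hin _ (mX ψ hψ) _ (mX ψ hψ), hin _ (mX ψ hψ) _ (mY η hη),
      hin _ (mY η hη) _ (mX ψ hψ), hin _ (mY η hη) _ (mY η hη), if_neg (hd ψ hψ η hη),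
      if_neg (hd ψ hψ η hη).symm, map_natCast]
    simp
  obtain ⟨c, hc⟩ := IsGen.classInner_eq_int (hτ.2.2.2 u hum) (h1.2.2.2 ψ (mem_zspan_self hψ))
  obtain ⟨m, hm⟩ := IsGen.classInner_eq_int (hτ.2.2.2 u hum) (h2.2.2.2 η (mem_zspan_self hη))
  have hc1 : Cfsg.classInner β (τ₁ ψc) = (c : ℂ) - 1 := by
    have hmem := sub_mem_zspanOn_one (Finset.mem_coe.mpr hψ) (Finset.mem_coe.mpr hψc') hdc
    have h := hτ.2.2.1 u hum _ (zspanOn_subset _ hsX hmem)
    rw [← h1e _ hmem, iso_map_sub h1 (mem_zspan_self hψ) (mem_zspan_self hψc'),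
      classInner_sub_right, hc, hu] at h
    simp only [classInner_sub_left, classInner_sub_right, classInner_smul_left,
      hin _ (mX ψ hψ) _ (mX ψ hψ), hin _ (mX ψ hψ) _ (mX ψc hψc'),
      hin _ (mY η hη) _ (mX ψ hψ), hin _ (mY η hη) _ (mX ψc hψc'), if_neg hne.symm,
      if_neg (hd ψ hψ η hη).symm, if_neg (hd ψc hψc' η hη).symm] at h
    simp at h
    linear_combination -h
  have hmy : ∀ y ∈ Y, y ≠ η → Cfsg.classInner β (τ₂ y) = (m : ℂ) + a := by
    intro y hy hyη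
    have hmem := sub_mem_zspanOn_one (Finset.mem_coe.mpr hη) (Finset.mem_coe.mpr hy)
      ((hYd η hη).trans (hYd y hy).symm)
    have h := hτ.2.2.1 u hum _ (zspanOn_subset _ hsY hmem)
    rw [← h2e _ hmem, iso_map_sub h2 (mem_zspan_self hη) (mem_zspan_self hy),
      classInner_sub_right, hm, hu] at h
    simp only [classInner_sub_left, classInner_sub_right, classInner_smul_left,
      hin _ (mX ψ hψ) _ (mY η hη), hin _ (mX ψ hψ) _ (mY y hy),
      hin _ (mY η hη) _ (mY η hη), hin _ (mY η hη) _ (mY y hy), if_neg (hd ψ hψ η hη),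
      if_neg (hd ψ hψ y hy), if_neg hyη.symm] at h
    simp at h
    linear_combination -h
  -- the size of the coefficient
  obtain ⟨j, hj⟩ : ∃ j : ℤ, m + a = a * j := by
    obtain ⟨j, hj⟩ := hdvd m hm
    exact ⟨j + 1, by rw [hj]; ring⟩
  have hbound : (Y.card : ℤ) * (j * j) ≤ 2 * j := by
    set v0 : (L → ℂ) → (G → ℂ) := fun ξ => if ξ ∈ X then τ₁ ξ else τ₂ ξ
    set cf : (L → ℂ) → ℤ := fun ξ => if ξ = ψ then c else if ξ = ψc then c - 1 else
      if ξ = η then m else m + a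
    have hsub : ∀ ξ ∈ insert ψ (insert ψc Y), ξ ∈ X ∨ ξ ∈ Y := by
      intro ξ hξ
      rcases Finset.mem_insert.mp hξ with rfl | hξ
      · exact Or.inl hψ
      rcases Finset.mem_insert.mp hξ with rfl | hξ
      · exact Or.inl hψc'
      · exact Or.inr hξ
    have hvX : ∀ x ∈ X, v0 x = τ₁ x := fun x h => if_pos h
    have hvY : ∀ y ∈ Y, v0 y = τ₂ y := fun y h => if_neg fun h' => hd y h' y h rfl
    obtain ⟨-, hB⟩ := bessel_split (insert ψ (insert ψc Y)) v0 β cf (fun _ => 1)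
      (fun _ _ => one_pos) (fun x hx y hy => by
        rw [Nat.cast_one]
        rcases hsub x hx with hx | hx <;> rcases hsub y hy with hy | hy
        · rw [hvX x hx, hvX y hy, hXX x hx y hy]
        · rw [hvX x hx, hvY y hy, horth x hx y hy, if_neg (hd x hx y hy)]
        · rw [hvY x hx, hvX y hy, horth' x hx y hy, if_neg (hd y hy x hx).symm]
        · rw [hvY x hx, hvY y hy, hYY x hx y hy])
      (fun x hx => by
        rcases Finset.mem_insert.mp hx with rfl | hx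
        · rw [hvX x hψ, hc]; simp [cf]
        rcases Finset.mem_insert.mp hx with rfl | hx
        · rw [hvX _ hψc', hc1]; simp [cf, hne]
        · rw [hvY x hx]
          have e1 : x ≠ ψ := (hd ψ hψ x hx).symm
          have e2 : x ≠ ψc := (hd ψc hψc' x hx).symm
          by_cases e3 : x = η
          · subst e3; rw [hm]; simp [cf, e1, e2]
          · rw [hmy x hx e3]; simp [cf, e1, e2, e3])
    have hpos := classInner_self_re_nonneg (β - ∑ i ∈ insert ψ (insert ψc Y),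
      ((cf i : ℂ) / ((1 : ℕ) : ℂ)) • v0 i)
    rw [hB, hββ] at hpos
    have hnot : ψ ∉ insert ψc Y := by
      simp only [Finset.mem_insert, not_or]
      exact ⟨hne.symm, fun h => hd ψ hψ ψ h rfl⟩
    rw [Finset.sum_insert hnot, Finset.sum_insert (fun h => hd ψc hψc' ψc h rfl),
      ← Finset.add_sum_erase _ _ hη, Finset.sum_congr rfl (s₁ := Y.erase η)
        (g := fun _ => ((m + a : ℤ) : ℝ) ^ 2) (fun y hy => by
          have hy' := Finset.mem_of_mem_erase hy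
          simp [cf, (hd ψ hψ y hy').symm, (hd ψc hψc' y hy').symm, Finset.ne_of_mem_erase hy]),
      Finset.sum_const, Finset.card_erase_of_mem hη] at hpos
    simp [cf, hne, (hd ψ hψ η hη).symm, (hd ψc hψc' η hη).symm,
      Nat.cast_sub (Finset.card_pos.mpr ⟨η, hη⟩ : 1 ≤ Y.card)] at hpos
    have hcc : (1 : ℤ) ≤ c ^ 2 + (c - 1) ^ 2 := by nlinarith [Int.le_self_sq c]
    have hcc' : (1 : ℝ) ≤ (c : ℝ) ^ 2 + ((c : ℝ) - 1) ^ 2 := by exact_mod_cast hcc
    have hj' : (m : ℝ) + a = a * j := by exact_mod_cast hj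
    have hm' : (m : ℝ) = a * j - a := by linarith
    rw [hm'] at hpos
    have h : (a : ℝ) ^ 2 * ((Y.card : ℝ) * (j * j) - 2 * j) ≤ 0 := by nlinarith
    have h2' : (Y.card : ℝ) * (j * j) - 2 * j ≤ 0 :=
      nonpos_of_mul_nonpos_right (by linarith [h]) (pow_pos (Nat.cast_pos.mpr ha0) 2)
    exact_mod_cast (sub_nonpos.mp h2')
  have hN : 2 ≤ Y.card := by
    obtain ⟨p, hp, q, hq, hpq⟩ := hY2
    exact Finset.one_lt_card.mpr ⟨p, hp, q, hq, hpq⟩
  -- the extension on `Y`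
  obtain ⟨v₂, hv₂orth, hv₂gen, hv₂X, hv₂ext, hv₂η⟩ : ∃ v₂ : (L → ℂ) → (G → ℂ),
      (∀ x ∈ Y, ∀ y ∈ Y, Cfsg.classInner (v₂ x) (v₂ y) = if x = y then 1 else 0) ∧
      (∀ y ∈ Y, Cfsg.IsGeneralizedCharacter G (v₂ y)) ∧
      (∀ y ∈ Y, ∀ x ∈ X, Cfsg.classInner (v₂ y) (τ₁ x) = 0) ∧
      (∀ θ ∈ Cfsg.zspanOn (↑Y : Set (L → ℂ)) ({1}ᶜ : Set L), extMap Y v₂ θ = τ θ) ∧
      Cfsg.classInner β (v₂ η) = -(a : ℂ) := by
    have hj01 : j = 0 ∨ (j = 1 ∧ Y.card = 2) := by
      rcases lt_trichotomy j 0 with h | h | h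
      · exfalso; nlinarith
      · exact Or.inl h
      · refine Or.inr ?_
        have h4 : j = 1 := by nlinarith
        subst h4
        exact ⟨rfl, by omega⟩
    rcases hj01 with rfl | ⟨rfl, hY⟩
    · refine ⟨τ₂, hYY, fun y hy => h2.2.2.2 y (mem_zspan_self hy), horth',
        fun θ hθ => by rw [iso_eq_extMap hiY h2 hθ.1, h2e θ hθ], ?_⟩
      rw [hm]
      have : m = -(a : ℤ) := by linarith
      rw [this]; simp
    · obtain ⟨y, hy, hyη⟩ : ∃ y ∈ Y, y ≠ η := by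
        obtain ⟨p, hp, q, hq, hpq⟩ := hY2
        by_cases h : p = η
        · exact ⟨q, hq, fun e => hpq (h.trans e.symm)⟩
        · exact ⟨p, hp, h⟩
      have hYe : ∀ ξ ∈ Y, ξ = η ∨ ξ = y := by
        intro ξ hξ
        by_contra hh
        push Not at hh
        have h3 : ({ξ, η, y} : Finset (L → ℂ)).card ≤ Y.card := Finset.card_le_card (by
          simp [Finset.insert_subset_iff, hξ, hη, hy])
        rw [Finset.card_insert_of_notMem (by simp [hh.1, hh.2]),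
          Finset.card_pair hyη.symm] at h3
        omega
      refine ⟨fun ξ => if ξ = η then -τ₂ y else -τ₂ η, ?_, ?_, ?_, fun θ hθ => ?_, ?_⟩
      · intro p hp q hq
        rcases hYe p hp with rfl | rfl <;> rcases hYe q hq with rfl | rfl <;>
          simp [hyη, hyη.symm, classInner_neg_left, classInner_neg_r, hYY _ hy _ hy,
            hYY _ hη _ hη, hYY _ hy _ hη, hYY _ hη _ hy]
      · intro p _
        dsimp only; split_ifs <;> exact IsGen.neg (h2.2.2.2 _ (mem_zspan_self (by assumption)))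
      · intro p _ x hx
        dsimp only; split_ifs
        · rw [classInner_neg_left, horth' y hy x hx, neg_zero]
        · rw [classInner_neg_left, horth' η hη x hx, neg_zero]
      · rw [flip_pair hiY hη hy hyη.symm hYe ((hYd η hη).trans (hYd y hy).symm) (w := τ₂)
          (by simp [hyη]; abel) hθ, iso_eq_extMap hiY h2 hθ.1, h2e θ hθ]
      · have hm0 : m = 0 := by linarith
        simp [classInner_neg_r, hmy y hy hyη, hm0]
  -- the norm one remainder
  set Γ := β + (a : ℂ) • v₂ η with hΓ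
  have hΓ1 : Cfsg.classInner Γ Γ = 1 := by
    have h' : Cfsg.classInner (v₂ η) β = -(a : ℂ) := by
      rw [← classInner_conj_symm, hv₂η]; simp
    rw [hΓ]
    simp only [classInner_add_left, classInner_add_right, classInner_smul_left,
      classInner_smul_right, hββ, hv₂η, h', hv₂orth η hη η hη, map_natCast]
    simp
  have hΓX : ∀ x ∈ X, Cfsg.classInner Γ (τ₁ x) = Cfsg.classInner β (τ₁ x) := fun x hx => by
    rw [hΓ, classInner_add_left, classInner_smul_left, hv₂X η hη x hx, mul_zero, add_zero]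
  have hc01 : c = 0 ∨ c = 1 := by
    obtain ⟨-, hB⟩ := bessel_split ({ψ, ψc} : Finset (L → ℂ)) τ₁ Γ
      (fun ξ => if ξ = ψ then c else c - 1) (fun _ => 1) (fun _ _ => one_pos)
      (fun x hx y hy => by
        rw [Nat.cast_one]
        refine hXX x ?_ y ?_
        · rcases Finset.mem_insert.mp hx with rfl | hx
          · exact hψ
          · rw [Finset.mem_singleton.mp hx]; exact hψc'
        · rcases Finset.mem_insert.mp hy with rfl | hy
          · exact hψ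
          · rw [Finset.mem_singleton.mp hy]; exact hψc')
      (fun x hx => by
        rcases Finset.mem_insert.mp hx with rfl | hx
        · rw [hΓX x hψ, hc, if_pos rfl]
        · rw [Finset.mem_singleton.mp hx, hΓX _ hψc', hc1, if_neg hne]; simp)
    have hpos := classInner_self_re_nonneg (Γ - ∑ i ∈ ({ψ, ψc} : Finset (L → ℂ)),
      (((if i = ψ then c else c - 1 : ℤ) : ℂ) / ((1 : ℕ) : ℂ)) • τ₁ i)
    rw [hB, hΓ1, Finset.sum_pair hne.symm] at hpos
    simp [hne] at hpos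
    have : c ^ 2 + (c - 1) ^ 2 ≤ 1 := by
      have h : (c : ℝ) ^ 2 + ((c : ℝ) - 1) ^ 2 ≤ 1 := by linarith
      exact_mod_cast h
    have h0 : c * (c - 1) ≤ 0 := by nlinarith
    rcases lt_trichotomy c 0 with h | h | h
    · nlinarith
    · exact Or.inl h
    · exact Or.inr (by nlinarith)
  -- the extension on `X`
  obtain ⟨v₁, hv₁orth, hv₁gen, hv₁Y, hv₁ext, hv₁ψ⟩ : ∃ v₁ : (L → ℂ) → (G → ℂ),
      (∀ x ∈ X, ∀ y ∈ X, Cfsg.classInner (v₁ x) (v₁ y) = if x = y then 1 else 0) ∧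
      (∀ x ∈ X, Cfsg.IsGeneralizedCharacter G (v₁ x)) ∧
      (∀ y ∈ Y, ∀ x ∈ X, Cfsg.classInner (v₂ y) (v₁ x) = 0) ∧
      (∀ θ ∈ Cfsg.zspanOn (↑X : Set (L → ℂ)) ({1}ᶜ : Set L), extMap X v₁ θ = τ θ) ∧
      Γ = v₁ ψ := by
    rcases hc01 with hc0 | hc0
    · have hΓe : Γ = -τ₁ ψc := by
        have h : Cfsg.classInner Γ (τ₁ ψc) = -1 := by rw [hΓX _ hψc', hc1, hc0]; simp
        have h' : Cfsg.classInner (τ₁ ψc) Γ = -1 := by rw [← classInner_conj_symm, h]; simp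
        refine eq_neg_of_add_eq_zero_left (eq_zero_of_classInner_self ?_)
        simp [classInner_add_left, classInner_add_right, hΓ1, h, h', hXX _ hψc' _ hψc']
      have hXe : ∀ ξ ∈ X, ξ = ψ ∨ ξ = ψc := by
        intro ξ hξ
        by_contra hh
        push Not at hh
        obtain ⟨k, hk⟩ := hXd ξ hξ
        set w := (a : ℂ) • ξ - (k : ℂ) • ψ with hw
        have hwm : w ∈ Cfsg.zspanOn (↑X : Set (L → ℂ)) ({1}ᶜ : Set L) := by
          refine ⟨(Submodule.span ℤ (↑X : Set (L → ℂ))).sub_mem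
            (natCast_smul_mem_zspan a (mem_zspan_self (Finset.mem_coe.mpr hξ)))
            (natCast_smul_mem_zspan k (mem_zspan_self (Finset.mem_coe.mpr hψ))), fun x hx => ?_⟩
          simp only [Set.mem_compl_iff, Set.mem_singleton_iff, not_not] at hx
          subst hx
          simp [hw, hk, ha]; ring
        have e1 : τ₁ w = (a : ℂ) • τ₁ ξ - (k : ℂ) • τ₁ ψ := by
          rw [hw, iso_map_sub h1 (natCast_smul_mem_zspan _ (mem_zspan_self hξ))
            (natCast_smul_mem_zspan _ (mem_zspan_self hψ)),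
            iso_map_natCast_smul h1 (mem_zspan_self hξ), iso_map_natCast_smul h1 (mem_zspan_self hψ)]
        have e2 := hτ.2.2.1 u hum w (zspanOn_subset _ hsX hwm)
        rw [← h1e w hwm, e1, classInner_sub_right, classInner_smul_right, classInner_smul_right,
          ← hΓX ξ hξ, ← hΓX ψ hψ, hΓe, classInner_neg_left, classInner_neg_left,
          hXX _ hψc' _ hξ, hXX _ hψc' _ hψ, if_neg hne, if_neg (Ne.symm hh.2), hu, hw] at e2
        simp only [classInner_sub_left, classInner_sub_right, classInner_smul_left,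
          classInner_smul_right, map_natCast, hin _ (mX ψ hψ) _ (mX ξ hξ),
          hin _ (mX ψ hψ) _ (mX ψ hψ), hin _ (mY η hη) _ (mX ξ hξ), hin _ (mY η hη) _ (mX ψ hψ),
          if_neg (Ne.symm hh.1), if_neg (hd ψ hψ η hη).symm, if_neg (hd ξ hξ η hη).symm] at e2
        simp at e2
        exact IsIrr.apply_one_ne_zero (hiX ξ hξ) (by rw [hk, e2]; simp)
      refine ⟨fun ξ => if ξ = ψ then -τ₁ ψc else -τ₁ ψ, ?_, ?_, ?_, fun θ hθ => ?_, ?_⟩
      · intro p hp q hq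
        rcases hXe p hp with rfl | rfl <;> rcases hXe q hq with rfl | rfl <;>
          simp [hne, hne.symm, classInner_neg_left, classInner_neg_r, hXX _ hψ _ hψ,
            hXX _ hψ _ hψc', hXX _ hψc' _ hψ, hXX _ hψc' _ hψc']
      · intro p _
        dsimp only; split_ifs <;> exact IsGen.neg (h1.2.2.2 _ (mem_zspan_self (by assumption)))
      · intro y hy x _
        dsimp only; split_ifs
        · rw [classInner_neg_r, hv₂X y hy ψc hψc', neg_zero]
        · rw [classInner_neg_r, hv₂X y hy ψ hψ, neg_zero]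
      · rw [flip_pair hiX hψ hψc' hne.symm hXe hdc (w := τ₁) (by simp [hne]; abel) hθ,
          iso_eq_extMap hiX h1 hθ.1, h1e θ hθ]
      · simpa using hΓe
    · refine ⟨τ₁, hXX, fun x hx => h1.2.2.2 x (mem_zspan_self hx), hv₂X,
        fun θ hθ => by rw [iso_eq_extMap hiX h1 hθ.1, h1e θ hθ], ?_⟩
      have h : Cfsg.classInner Γ (τ₁ ψ) = 1 := by rw [hΓX _ hψ, hc, hc0]; simp
      have h' : Cfsg.classInner (τ₁ ψ) Γ = 1 := by rw [← classInner_conj_symm, h]; simp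
      refine sub_eq_zero.mp (eq_zero_of_classInner_self ?_)
      simp [classInner_sub_left, classInner_sub_right, hΓ1, h, h', hXX _ hψ _ hψ]
  set v : (L → ℂ) → (G → ℂ) := fun ξ => if ξ ∈ X then v₁ ξ else v₂ ξ
  have hvX : ∀ x ∈ X, v x = v₁ x := fun x h => if_pos h
  have hvY : ∀ y ∈ Y, v y = v₂ y := fun y h => if_neg fun h' => hd y h' y h rfl
  refine coherent_glue (v := v) hirr hτ ?_ ?_ ?_ ?_ hψ hη (hd ψ hψ η hη) ha (hYd η hη) ?_
  · intro x hx y hy
    rcases Finset.mem_union.mp hx with hx | hx <;> rcases Finset.mem_union.mp hy with hy | hy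
    · rw [hvX x hx, hvX y hy, hv₁orth x hx y hy]
    · rw [hvX x hx, hvY y hy, ← classInner_conj_symm, hv₁Y y hy x hx, map_zero,
        if_neg (hd x hx y hy)]
    · rw [hvY x hx, hvX y hy, hv₁Y x hx y hy, if_neg (hd y hy x hx).symm]
    · rw [hvY x hx, hvY y hy, hv₂orth x hx y hy]
  · intro x hx
    rcases Finset.mem_union.mp hx with hx | hx
    · rw [hvX x hx]; exact hv₁gen x hx
    · rw [hvY x hx]; exact hv₂gen x hx
  · intro θ hθ
    rw [extMap_congr hiX subset_rfl hvX hθ.1, hv₁ext θ hθ]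
  · intro θ hθ
    rw [extMap_congr hiY subset_rfl hvY hθ.1, hv₂ext θ hθ]
  · have e1 : ((e * a : ℕ) : ℂ) • η - (e : ℂ) • ψ = (-(e : ℤ)) • u := by
      rw [← Int.cast_smul_eq_zsmul ℂ, hu]
      push_cast
      ext x; simp; ring
    rw [e1, hτ.2.1 u hum, hvX ψ hψ, hvY η hη, ← hv₁ψ, hΓ, ← hβ, ← Int.cast_smul_eq_zsmul ℂ]
    push_cast
    ext x; simp; ring

end CfsgLib.Coh
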