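import Cfsg.Prelude.Def_OddOrderLocal
import Cfsg.Agent.Lib.CharDegree.Basic
import Cfsg.Agent.Lib.Char.Exceptional.Virtual
import Mathlib.GroupTheory.Sylow

/-!
# Values of a character constant on a central subgroup of a TI Sylow subgroup
-/

set_option autoImplicit false

namespace CfsgLib.Coh

open CfsgLib.Char

/-- An invariant sum over a free action is an integral multiple of the group order. -/
theorem exists_integral_sum {H X : Type*} [Group H] [Fintype H] [Fintype X] [MulAction H X]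
    (f : X → ℂ) (hf : ∀ (h : H) x, f (h • x) = f x) (hint : ∀ x, IsIntegral ℤ (f x))
    (hfree : ∀ (h : H) (x : X), h • x = x → h = 1) :
    ∃ t : ℂ, IsIntegral ℤ t ∧ ∑ x, f x = (Fintype.card H : ℂ) * t := by
  classical
  refine ⟨∑ ω : MulAction.orbitRel.Quotient H X, f ω.out, IsIntegral.sum _ fun ω _ => hint _, ?_⟩
  rw [← Finset.sum_fiberwise Finset.univ (Quotient.mk (MulAction.orbitRel H X)) f, Finset.mul_sum]
  refine Finset.sum_congr rfl fun ω _ => ?_
  have h : (Finset.univ.filter fun x => Quotient.mk (MulAction.orbitRel H X) x = ω) =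
      Finset.univ.image fun h : H => h • ω.out := by
    ext x
    simp only [Finset.mem_filter, Finset.mem_univ, true_and, Finset.mem_image]
    constructor
    · intro hx
      have h1 : MulAction.orbitRel H X x ω.out := Quotient.exact (hx.trans ω.out_eq.symm)
      exact MulAction.orbitRel_apply.mp h1
    · rintro ⟨g, rfl⟩
      refine Eq.trans (Quotient.sound ?_) ω.out_eq
      exact MulAction.orbitRel_apply.mpr ⟨g, rfl⟩
  rw [h, Finset.sum_image, Finset.sum_congr rfl fun g _ => hf g _, Finset.sum_const,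
    Finset.card_univ, nsmul_eq_mul]
  intro a _ b _ hab
  have : (b⁻¹ * a) • ω.out = ω.out := by
    change a • ω.out = b • ω.out at hab
    rw [mul_smul, hab, inv_smul_smul]
  exact (inv_mul_eq_one.mp (hfree _ _ this)).symm

variable {G : Type*} [Group G] [Fintype G]

/-- Sums over a conjugation orbit. -/
theorem sum_conj_eq [DecidableEq G] (H : Subgroup G) [Fintype H] (z : G) (f : G → ℂ) :
    ∑ a : H, f (a * z * (a : G)⁻¹) =
      (Nat.card ↥(H ⊓ Subgroup.centralizer ({z} : Set G)) : ℂ) *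
        ∑ x ∈ Finset.univ.image (fun a : H => (a : G) * z * (a : G)⁻¹), f x := by
  classical
  rw [Finset.mul_sum, Finset.sum_comp (f := f) (g := fun a : H => (a : G) * z * (a : G)⁻¹)]
  refine Finset.sum_congr rfl fun x hx => ?_
  obtain ⟨b, -, rfl⟩ := Finset.mem_image.mp hx
  rw [nsmul_eq_mul]
  congr 2
  rw [Nat.card_eq_fintype_card, ← Finset.card_univ]
  refine (Finset.card_bij (fun c _ => b * ⟨(c : G), c.2.1⟩) (fun c _ => ?_) ?_ ?_).symm
  · have hc : (c : G) * z = z * c := Subgroup.mem_centralizer_singleton_iff.mp c.2.2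
    rw [Finset.mem_filter]
    refine ⟨Finset.mem_univ _, ?_⟩
    show (b : G) * c * z * ((b : G) * c)⁻¹ = _
    rw [mul_assoc (b : G) c z, hc]; group
  · intro c _ d _ h
    exact Subtype.ext (congrArg (fun x : H => (x : G)) (mul_left_cancel h))
  · intro a ha
    have h : (a : G) * z * (a : G)⁻¹ = b * z * (b : G)⁻¹ := (Finset.mem_filter.mp ha).2
    refine ⟨⟨(b : G)⁻¹ * a, Subgroup.mem_inf.mpr ⟨mul_mem (inv_mem b.2) a.2,
      Subgroup.mem_centralizer_singleton_iff.mpr ?_⟩⟩, Finset.mem_univ _, ?_⟩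
    · calc (b : G)⁻¹ * a * z = (b : G)⁻¹ * (a * z * (a : G)⁻¹) * a := by group
        _ = (b : G)⁻¹ * (b * z * (b : G)⁻¹) * a := by rw [h]
        _ = z * ((b : G)⁻¹ * a) := by group
    · exact Subtype.ext (mul_inv_cancel_left (b : G) a)

/-- The class-sum identity on two conjugacy classes. -/
theorem sum_class_mul [DecidableEq G] (χ : Cfsg.IrrCharacter G) (z w : G) :
    (Nat.card (Subgroup.centralizer ({z} : Set G)) : ℂ) *
      (Nat.card (Subgroup.centralizer ({w} : Set G)) : ℂ) *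
      (∑ x ∈ Finset.univ.image (fun a : G => a * z * a⁻¹),
        ∑ y ∈ Finset.univ.image (fun a : G => a * w * a⁻¹), (χ : G → ℂ) (x * y)) =
      (Nat.card G : ℂ) * (Nat.card G : ℂ) * (χ : G → ℂ) z * (χ : G → ℂ) w / (χ : G → ℂ) 1 := by
  classical
  have key : ∀ (v : G) (f : G → ℂ), ∑ a : G, f (a * v * a⁻¹) =
      (Nat.card (Subgroup.centralizer ({v} : Set G)) : ℂ) *
        ∑ x ∈ Finset.univ.image (fun a : G => a * v * a⁻¹), f x := by
    intro v f
    have h := sum_conj_eq (⊤ : Subgroup G) v f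
    rw [top_inf_eq, ← Equiv.sum_comp Subgroup.topEquiv.symm.toEquiv] at h
    refine h.trans ?_
    congr 2
    ext x
    simp
  calc _ = (Nat.card (Subgroup.centralizer ({w} : Set G)) : ℂ) *
      ∑ y ∈ Finset.univ.image (fun a : G => a * w * a⁻¹),
        ((Nat.card (Subgroup.centralizer ({z} : Set G)) : ℂ) *
          ∑ x ∈ Finset.univ.image (fun a : G => a * z * a⁻¹), (χ : G → ℂ) (x * y)) := by
        rw [Finset.sum_comm, ← Finset.mul_sum]; ring
    _ = ∑ b : G, ∑ a : G, (χ : G → ℂ) (a * z * a⁻¹ * (b * w * b⁻¹)) := by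
        rw [key w fun y => ∑ a : G, (χ : G → ℂ) (a * z * a⁻¹ * y)]
        congr 1
        exact Finset.sum_congr rfl fun y _ => (key z fun x => (χ : G → ℂ) (x * y)).symm
    _ = _ := by
        rw [Finset.sum_congr rfl fun b _ => CharDegree.sum_conj_mul χ z (b * w * b⁻¹)]
        have hcl : ∀ b : G, (χ : G → ℂ) (b * w * b⁻¹) = (χ : G → ℂ) w := fun b =>
          (IsIrr.isClassFunction χ.2) w b
        simp only [hcl, Finset.sum_const, Finset.card_univ, nsmul_eq_mul,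
          ← Nat.card_eq_fintype_card]
        ring

omit [Fintype G] in
open scoped Classical in
/-- Pairs outside `P × P` contribute a multiple of `|P|`. -/
theorem exists_integral_pairs (P : Subgroup G) [Fintype P] (K K' : Finset G)
    (ψ : G → ℂ) (hψ : ∀ g x : G, ψ (g * x * g⁻¹) = ψ x) (hint : ∀ x, IsIntegral ℤ (ψ x))
    (hK : ∀ x ∈ K, ∀ g : G, g * x * g⁻¹ ∈ K) (hK' : ∀ x ∈ K', ∀ g : G, g * x * g⁻¹ ∈ K')
    (hfix : ∀ x ∈ K ∪ K', ∀ g ∈ P, g ≠ 1 → g * x = x * g → x ∈ P) :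
    ∃ t : ℂ, IsIntegral ℤ t ∧ ∑ x ∈ K, ∑ y ∈ K', ψ (x * y) =
      (Nat.card P : ℂ) * t +
        ∑ x ∈ K.filter (fun x => x ∈ (P : Set G)), ∑ y ∈ K'.filter (fun y => y ∈ (P : Set G)),
          ψ (x * y) := by
  classical
  set B := (K ×ˢ K').filter fun q => ¬ (q.1 ∈ P ∧ q.2 ∈ P)
  have hB : ∀ (h : P) (q : B), ((h : G) * q.1.1 * (h : G)⁻¹, (h : G) * q.1.2 * (h : G)⁻¹) ∈ B := by
    rintro h ⟨⟨x, y⟩, hq⟩
    obtain ⟨hq, hn⟩ := Finset.mem_filter.mp hq
    obtain ⟨hx, hy⟩ := Finset.mem_product.mp hq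
    refine Finset.mem_filter.mpr ⟨Finset.mem_product.mpr ⟨hK x hx _, hK' y hy _⟩,
      fun hh => hn ⟨?_, ?_⟩⟩
    · have := mul_mem (mul_mem (inv_mem h.2) hh.1) h.2
      simpa [mul_assoc] using this
    · have := mul_mem (mul_mem (inv_mem h.2) hh.2) h.2
      simpa [mul_assoc] using this
  let _ : MulAction P B :=
    { smul := fun h q => ⟨_, hB h q⟩
      one_smul := fun q => Subtype.ext (by
        show ((1 : G) * q.1.1 * (1 : G)⁻¹, (1 : G) * q.1.2 * (1 : G)⁻¹) = q.1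
        simp)
      mul_smul := fun a b q => Subtype.ext (by
        show (((a * b : P) : G) * q.1.1 * ((a * b : P) : G)⁻¹,
          ((a * b : P) : G) * q.1.2 * ((a * b : P) : G)⁻¹) =
          ((a : G) * ((b : G) * q.1.1 * (b : G)⁻¹) * (a : G)⁻¹,
            (a : G) * ((b : G) * q.1.2 * (b : G)⁻¹) * (a : G)⁻¹)
        simp [mul_assoc]) }
  obtain ⟨t, ht, hsum⟩ := exists_integral_sum (H := P) (fun q : B => ψ (q.1.1 * q.1.2))
    (fun h q => by
      show ψ ((h : G) * q.1.1 * (h : G)⁻¹ * ((h : G) * q.1.2 * (h : G)⁻¹)) = _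
      rw [show (h : G) * q.1.1 * (h : G)⁻¹ * ((h : G) * q.1.2 * (h : G)⁻¹) =
        (h : G) * (q.1.1 * q.1.2) * (h : G)⁻¹ by group, hψ])
    (fun q => hint _) (fun h q hq => by
      by_contra hne
      obtain ⟨hm, hn⟩ := Finset.mem_filter.mp q.2
      obtain ⟨hx, hy⟩ := Finset.mem_product.mp hm
      have he : ((h : G) * q.1.1 * (h : G)⁻¹, (h : G) * q.1.2 * (h : G)⁻¹) = q.1 :=
        congrArg Subtype.val hq
      have h1 : (h : G) * q.1.1 * (h : G)⁻¹ = q.1.1 := congrArg Prod.fst he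
      have h2 : (h : G) * q.1.2 * (h : G)⁻¹ = q.1.2 := congrArg Prod.snd he
      have hne' : (h : G) ≠ 1 := fun e => hne (Subtype.ext e)
      exact hn ⟨hfix _ (Finset.mem_union_left _ hx) h h.2 hne' (mul_inv_eq_iff_eq_mul.mp h1),
        hfix _ (Finset.mem_union_right _ hy) h h.2 hne' (mul_inv_eq_iff_eq_mul.mp h2)⟩)
  refine ⟨t, ht, ?_⟩
  rw [Nat.card_eq_fintype_card, ← hsum, Finset.sum_coe_sort B (fun q => ψ (q.1 * q.2)),
    ← Finset.sum_product' K K', ← Finset.sum_product', ← Finset.filter_product,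
    add_comm, ← Finset.sum_filter_add_sum_filter_not (K ×ˢ K') (fun q => q.1 ∈ P ∧ q.2 ∈ P)]
  rfl

/-- The congruence `ψ 1 ≡ ψ z` modulo `|P|`. -/
theorem ti_sylow_const (p : ℕ) [Fact p.Prime] (P : Sylow p G)
    (hTI : Cfsg.IsTISubset ((P : Subgroup G) : Set G))
    (hodd : Odd (Nat.card (Subgroup.normalizer ((P : Subgroup G) : Set G)))) (Z : Subgroup G)
    (hZP : Z ≤ P) (hZn : ∀ x ∈ Subgroup.normalizer ((P : Subgroup G) : Set G), ∀ z ∈ Z,
      x * z * x⁻¹ ∈ Z)
    (hZc : ∀ z ∈ Z, ∀ y ∈ (P : Subgroup G), z * y = y * z) (ψ : G → ℂ)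
    (hψ : Cfsg.IsIrrCharacter G ψ)
    (hconst : ∀ z ∈ Z, ∀ z' ∈ Z, z ≠ 1 → z' ≠ 1 → ψ z = ψ z') (z : G) (hz : z ∈ Z) (hz1 : z ≠ 1) :
    ∃ n d : ℤ, ψ z = n ∧ ψ 1 = d ∧ (Nat.card (P : Subgroup G) : ℤ) ∣ d - n := by
  classical
  set N := Subgroup.normalizer ((P : Subgroup G) : Set G)
  obtain ⟨d, hd0, hd⟩ := IsIrr.exists_degree hψ
  have hint : ∀ x, IsIntegral ℤ (ψ x) := IsChar.isIntegral (IsIrr.isCharacter hψ)
  -- the value is an integer
  obtain ⟨n, hn⟩ : ∃ n : ℤ, ψ z = n := by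
    have hrest := IsChar.restrict Z (IsIrr.isCharacter hψ)
    obtain ⟨m, hm⟩ : ∃ m : ℤ, Cfsg.classInner (fun x : Z => ψ x) (fun _ => 1) = m :=
      Exceptional.IsGen.classInner_eq_int (Exceptional.IsGen.of_char hrest) Exceptional.isGen_one
    rw [Cfsg.classInner, inv_mul_eq_iff_eq_mul₀ (Nat.cast_ne_zero.mpr Nat.card_pos.ne'),
      ← Finset.add_sum_erase _ _ (Finset.mem_univ 1),
      Finset.sum_congr rfl (g := fun _ : Z => ψ z) fun x hx => by
        rw [map_one, mul_one]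
        exact hconst x x.2 z hz (fun e => (Finset.ne_of_mem_erase hx) (Subtype.ext e)) hz1,
      Finset.sum_const, Finset.card_erase_of_mem (Finset.mem_univ _), Finset.card_univ,
      ← Nat.card_eq_fintype_card, nsmul_eq_mul, map_one, mul_one, Subgroup.coe_one, hd] at hm
    have h2 : 2 ≤ Nat.card Z :=
      Finite.one_lt_card_iff_nontrivial.mpr ⟨⟨z, hz⟩, 1, fun e => hz1 (congrArg Subtype.val e)⟩
    have hne : ((Nat.card Z - 1 : ℕ) : ℂ) ≠ 0 := Nat.cast_ne_zero.mpr (by omega)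
    obtain ⟨q, hq⟩ : ∃ q : ℚ, ψ z = (q : ℂ) :=
      ⟨((Nat.card Z : ℚ) * m - d) / ((Nat.card Z - 1 : ℕ) : ℚ), by
        push_cast
        rw [eq_div_iff hne]; linear_combination hm⟩
    have hqi : IsIntegral ℤ q := by
      refine (isIntegral_algHom_iff ((algebraMap ℚ ℂ).toIntAlgHom) (algebraMap ℚ ℂ).injective).mp ?_
      show IsIntegral ℤ (q : ℂ)
      rw [← hq]; exact hint z
    obtain ⟨k, hk⟩ := IsIntegrallyClosed.isIntegral_iff.mp hqi
    exact ⟨k, by rw [hq, ← hk]; simp⟩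
  refine ⟨n, d, hn, by rw [hd]; simp, ?_⟩
  set C := Subgroup.centralizer ({z} : Set G)
  set K := Finset.univ.image fun a : G => a * z * a⁻¹ with hKdef
  set K' := Finset.univ.image fun a : G => a * z⁻¹ * a⁻¹ with hK'def
  have hclosed : ∀ v : G, ∀ x ∈ Finset.univ.image (fun a : G => a * v * a⁻¹), ∀ g : G,
      g * x * g⁻¹ ∈ Finset.univ.image (fun a : G => a * v * a⁻¹) := by
    intro v x hx g
    obtain ⟨a, -, rfl⟩ := Finset.mem_image.mp hx
    exact Finset.mem_image.mpr ⟨g * a, Finset.mem_univ _, by group⟩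
  -- a conjugate of `v` lying in the normaliser lies in `P`
  have hNP : ∀ v ∈ Z, ∀ a : G, a * v * a⁻¹ ∈ N → a * v * a⁻¹ ∈ (P : Subgroup G) := by
    intro v hv a ha
    have hpg : IsPGroup p (Subgroup.zpowers (a * v * a⁻¹)) := by
      have := (P.isPGroup'.to_le (show Subgroup.zpowers v ≤ P by
        rw [Subgroup.zpowers_le]; exact hZP hv)).map (MulAut.conj a).toMonoidHom
      rwa [MonoidHom.map_zpowers] at this
    have hsup := hpg.to_sup_of_normal_right' P.isPGroup' (Subgroup.zpowers_le.mpr ha)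
    rw [← P.is_maximal' hsup le_sup_right]
    exact Subgroup.mem_sup_left (Subgroup.mem_zpowers _)
  have hfix : ∀ x ∈ K ∪ K', ∀ g ∈ (P : Subgroup G), g ≠ 1 → g * x = x * g →
      x ∈ (P : Subgroup G) := by
    intro x hx g hg hg1 hgx
    obtain ⟨v, hv, a, rfl⟩ : ∃ v ∈ Z, ∃ a : G, a * v * a⁻¹ = x := by
      rcases Finset.mem_union.mp hx with h | h <;> obtain ⟨a, -, rfl⟩ := Finset.mem_image.mp h
      · exact ⟨z, hz, a, rfl⟩
      · exact ⟨z⁻¹, inv_mem hz, a, rfl⟩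
    refine hNP v hv a ?_
    by_contra hn'
    refine hg1 (hTI _ hn' g hg ?_)
    have e : a * v * a⁻¹ * g * (a * v * a⁻¹)⁻¹ = g := by rw [← hgx]; group
    rw [e]; exact hg
  obtain ⟨t₁, ht₁, h1⟩ := exists_integral_pairs (P : Subgroup G) K K ψ
    (fun g x => IsIrr.isClassFunction hψ x g) hint (hclosed z) (hclosed z)
    (fun x hx => hfix x (Finset.mem_union_left _ (by simpa using hx)))
  obtain ⟨t₂, ht₂, h2⟩ := exists_integral_pairs (P : Subgroup G) K K' ψ
    (fun g x => IsIrr.isClassFunction hψ x g) hint (hclosed z) (hclosed z⁻¹) hfix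
  have hzinv : ψ z⁻¹ = ψ z := hconst _ (inv_mem hz) z hz (inv_ne_one.mpr hz1) hz1
  have heqsum : ∑ x ∈ K, ∑ y ∈ K, ψ (x * y) = ∑ x ∈ K, ∑ y ∈ K', ψ (x * y) := by
    have a1 := sum_class_mul ⟨ψ, hψ⟩ z z
    have a2 := sum_class_mul ⟨ψ, hψ⟩ z z⁻¹
    have hc : Subgroup.centralizer ({z⁻¹} : Set G) = C := by
      ext x
      rw [Subgroup.mem_centralizer_singleton_iff, Subgroup.mem_centralizer_singleton_iff]
      exact ⟨fun h => by simpa using (Commute.inv_right h : Commute x z⁻¹⁻¹).eq,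
        fun h => (Commute.inv_right h : Commute x z⁻¹).eq⟩
    rw [hc, show (⟨ψ, hψ⟩ : Cfsg.IrrCharacter G).1 z⁻¹ = ψ z from hzinv] at a2
    exact mul_left_cancel₀ (mul_ne_zero (Nat.cast_ne_zero.mpr Nat.card_pos.ne')
      (Nat.cast_ne_zero.mpr Nat.card_pos.ne')) (a1.trans a2.symm)
  -- the intersection with `P` is one orbit of the normaliser
  have hKP : ∀ v ∈ Z, v ≠ 1 → (Finset.univ.image fun a : G => a * v * a⁻¹).filter
      (fun x => x ∈ ((P : Subgroup G) : Set G)) =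
      Finset.univ.image fun a : N => (a : G) * v * (a : G)⁻¹ := by
    intro v hv hv1
    ext x
    simp only [Finset.mem_filter, Finset.mem_image, Finset.mem_univ, true_and, SetLike.mem_coe]
    constructor
    · rintro ⟨⟨a, rfl⟩, hx⟩
      refine ⟨⟨a, ?_⟩, rfl⟩
      by_contra hn'
      exact hv1 (hTI a hn' v (hZP hv) hx)
    · rintro ⟨a, rfl⟩
      exact ⟨⟨a, rfl⟩, hZP (hZn a a.2 v hv)⟩
  set O := Finset.univ.image fun a : N => (a : G) * z * (a : G)⁻¹ with hO
  have hO' : (Finset.univ.image fun a : N => (a : G) * z⁻¹ * (a : G)⁻¹) = O.image fun u => u⁻¹ := by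
    rw [hO, Finset.image_image]
    exact Finset.image_congr fun a _ => by simp [mul_assoc]
  have hOZ : ∀ u ∈ O, u ∈ Z ∧ u ≠ 1 := by
    intro u hu
    obtain ⟨a, -, rfl⟩ := Finset.mem_image.mp hu
    exact ⟨hZn a a.2 z hz, fun e => hz1 (by simpa [mul_inv_eq_one] using e)⟩
  have hnoinv : ∀ u ∈ O, ∀ v ∈ O, u * v ≠ 1 := by
    intro u hu v hv e
    obtain ⟨a, -, rfl⟩ := Finset.mem_image.mp hu
    obtain ⟨b, -, rfl⟩ := Finset.mem_image.mp hv
    set g := (a : G)⁻¹ * b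
    have hg : g * z * g⁻¹ = z⁻¹ := by
      rw [eq_inv_iff_mul_eq_one]
      calc g * z * g⁻¹ * z = (a : G)⁻¹ * ((b * z * (b : G)⁻¹) * (a * z * (a : G)⁻¹)) * a := by
            simp only [g]; group
        _ = 1 := by rw [mul_eq_one_comm.mp e]; group
    have hgN : g ∈ N := mul_mem (inv_mem a.2) b.2
    obtain ⟨k, hk⟩ := hodd.of_dvd_nat (N.orderOf_dvd_natCard hgN)
    have h2 : Commute (g ^ 2) z := by
      refine mul_inv_eq_iff_eq_mul.mp ?_
      rw [pow_two]
      calc g * g * z * (g * g)⁻¹ = g * (g * z * g⁻¹) * g⁻¹ := by group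
        _ = (g * z * g⁻¹)⁻¹ := by
            rw [show g * (g * z * g⁻¹) * g⁻¹ = g * z⁻¹ * g⁻¹ by rw [hg]]; group
        _ = z := by rw [hg, inv_inv]
    have h3 := h2.pow_left (k + 1)
    rw [← pow_mul, show 2 * (k + 1) = orderOf g + 1 by omega, pow_succ, pow_orderOf_eq_one,
      one_mul] at h3
    have h4 : z = z⁻¹ := by rw [← hg, h3.eq, mul_inv_cancel_right]
    have h5 : orderOf z ∣ 2 := orderOf_dvd_of_pow_eq_one (by rw [pow_two]; nth_rw 2 [h4]; simp)
    obtain ⟨j, hj⟩ := hodd.of_dvd_nat (N.orderOf_dvd_natCard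
      ((Subgroup.le_normalizer : (P : Subgroup G) ≤ N) (hZP hz)))
    rcases (Nat.dvd_prime Nat.prime_two).mp h5 with h | h
    · exact hz1 (orderOf_eq_one_iff.mp h)
    · omega
  rw [hKP z hz hz1] at h1
  rw [hKP z hz hz1, hKP z⁻¹ (inv_mem hz) (inv_ne_one.mpr hz1), hO'] at h2
  have hval : ∀ u ∈ O, ∀ v ∈ O, ψ (u * v) = ψ z := fun u hu v hv =>
    hconst _ (mul_mem (hOZ u hu).1 (hOZ v hv).1) z hz (hnoinv u hu v hv) hz1
  rw [Finset.sum_congr rfl fun u hu => Finset.sum_congr rfl fun v hv => hval u hu v hv] at h1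
  have hrow : ∀ u ∈ O, ∑ y ∈ O.image (fun u => u⁻¹), ψ (u * y) =
      ((O.card : ℂ) - 1) * n + d := by
    intro u hu
    rw [Finset.sum_image fun a _ b _ h => inv_injective h, ← Finset.add_sum_erase _ _ hu,
      mul_inv_cancel, hd, Finset.sum_congr rfl (g := fun _ => (n : ℂ)) fun v hv => by
        rw [← hn]
        refine hconst _ (mul_mem (hOZ u hu).1 (inv_mem (hOZ v (Finset.mem_of_mem_erase hv)).1)) z hz
          (fun e => Finset.ne_of_mem_erase hv (mul_inv_eq_one.mp e).symm) hz1,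
      Finset.sum_const, Finset.card_erase_of_mem hu, nsmul_eq_mul,
      Nat.cast_sub (Finset.card_pos.mpr ⟨u, hu⟩), Nat.cast_one, add_comm]
  rw [Finset.sum_congr rfl hrow, Finset.sum_const, nsmul_eq_mul] at h2
  rw [Finset.sum_const, Finset.sum_const, nsmul_eq_mul, nsmul_eq_mul, hn] at h1
  -- divisibility
  set q := Nat.card (P : Subgroup G) with hq
  have hdiv : ((((O.card : ℤ) * ((d : ℤ) - n) : ℤ)) : ℂ) = (q : ℂ) * (t₁ - t₂) := by
    push_cast
    linear_combination h1 - h2 - heqsum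
  have hq0 : (q : ℂ) ≠ 0 := Nat.cast_ne_zero.mpr Nat.card_pos.ne'
  obtain ⟨j, hj⟩ : ∃ j : ℤ, (O.card : ℤ) * ((d : ℤ) - n) = q * j := by
    have hi : IsIntegral ℤ ((((O.card : ℤ) * ((d : ℤ) - n) : ℤ) : ℚ) / q) := by
      refine (isIntegral_algHom_iff ((algebraMap ℚ ℂ).toIntAlgHom) (algebraMap ℚ ℂ).injective).mp ?_
      show IsIntegral ℤ (((_ : ℚ)) : ℂ)
      rw [Rat.cast_div, Rat.cast_intCast, Rat.cast_natCast, hdiv, mul_div_cancel_left₀ _ hq0]
      exact ht₁.sub ht₂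
    obtain ⟨j, hj⟩ := IsIntegrallyClosed.isIntegral_iff.mp hi
    refine ⟨j, ?_⟩
    rw [eq_div_iff (Nat.cast_ne_zero.mpr Nat.card_pos.ne')] at hj
    have : (((q : ℤ) * j : ℤ) : ℚ) = (((O.card : ℤ) * ((d : ℤ) - n) : ℤ) : ℚ) := by
      rw [← hj]; push_cast; simp; ring
    exact (Int.cast_inj.mp this).symm
  have hOcard : Nat.card N = Nat.card ↥(N ⊓ C) * O.card := by
    have h := sum_conj_eq N z (fun _ => (1 : ℂ))
    rw [Finset.sum_const, Finset.sum_const, Finset.card_univ, nsmul_eq_mul, nsmul_eq_mul,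
      mul_one, mul_one, ← Nat.card_eq_fintype_card] at h
    exact_mod_cast h
  have hPC : (P : Subgroup G) ≤ N ⊓ C := le_inf Subgroup.le_normalizer fun y hy =>
    Subgroup.mem_centralizer_singleton_iff.mpr (hZc z hz y hy).symm
  have hcop : Nat.Coprime O.card q := by
    obtain ⟨k, hk⟩ := IsPGroup.iff_card.mp P.isPGroup'
    rw [hq, hk]
    refine Nat.Coprime.pow_right k ((Fact.out : p.Prime).coprime_iff_not_dvd.mpr fun hp => ?_).symm
    refine Sylow.not_dvd_index P ?_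
    have h1 : q * p ∣ Nat.card G :=
      (mul_dvd_mul (Subgroup.card_dvd_of_le hPC) hp).trans (hOcard ▸ N.card_subgroup_dvd_card)
    rw [← (P : Subgroup G).card_mul_index] at h1
    exact Nat.dvd_of_mul_dvd_mul_left Nat.card_pos h1
  exact (Int.isCoprime_iff_nat_coprime.mpr (by simpa using hcop.symm)).dvd_of_dvd_mul_left
    ⟨j, hj⟩

end CfsgLib.Coh
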