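import Cfsg.Agent.Lib.Char.Coherence.FrobeniusBasics
import Cfsg.Agent.Lib.Char.Coherence.SibleyGlue
import Cfsg.Agent.Lib.Char.Coherence.TISylowConst
import Cfsg.Agent.Lib.Char.Exceptional.TIFNChar

/-!
# Sibley's coherence theorem for a TI Frobenius kernel
-/

set_option autoImplicit false

namespace CfsgLib.Coh

open CfsgLib.Char

section General

variable {L : Type*} [Group L] [Fintype L]

/-- Twisting the regular character: weighted difference of the values at `z` and `1`. -/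
theorem sum_degree_mul_sub [Fintype (Cfsg.IrrCharacter L)] {z : L} (hz : z ≠ 1) :
    ∑ χ : Cfsg.IrrCharacter L, (χ : L → ℂ) 1 * ((χ : L → ℂ) z - (χ : L → ℂ) 1) =
      -(Nat.card L : ℂ) := by
  classical
  have h1 := column_orthogonality z (1 : L)
  rw [if_neg (fun h => hz (by simpa [eq_comm] using h.symm))] at h1
  have h2 := sum_sq_degree (G := L)
  have hc : ∀ χ : Cfsg.IrrCharacter L,
      (starRingEnd ℂ) ((χ : L → ℂ) 1) = (χ : L → ℂ) 1 := fun χ => by
    obtain ⟨d, -, hd⟩ := IsIrr.exists_degree χ.2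
    rw [hd, map_natCast]
  simp only [hc] at h1
  rw [← h2]
  calc ∑ χ : Cfsg.IrrCharacter L, (χ : L → ℂ) 1 * ((χ : L → ℂ) z - (χ : L → ℂ) 1)
      = ∑ χ : Cfsg.IrrCharacter L, (χ : L → ℂ) z * (χ : L → ℂ) 1 -
        ∑ χ : Cfsg.IrrCharacter L, (χ : L → ℂ) 1 ^ 2 := by
        rw [← Finset.sum_sub_distrib]
        exact Finset.sum_congr rfl fun χ _ => by ring
    _ = _ := by rw [h1, zero_sub]

omit [Fintype L] in
theorem commutator_lt_self {H : Subgroup L} (hnil : Group.IsNilpotent H) (hH : H ≠ ⊥) :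
    ⁅H, H⁆ < H := by
  refine lt_of_le_of_ne (Subgroup.commutator_le_self H) fun h => hH (le_bot_iff.mp ?_)
  exact le_of_le_commutator_sup (H := H) (M := ⊥) inferInstance le_rfl le_rfl
    (by rw [h]; exact le_sup_left)

end General

variable {G : Type*} [Group G] [Fintype G]

omit [Fintype G] in
/-- The kernel is a Sylow subgroup when it is a `p`-group. -/
theorem exists_sylow_eq [Finite G] {p : ℕ} [Fact p.Prime] {K : Subgroup G}
    (hpK : IsPGroup p K)
    (hcop : Nat.Coprime p (K.subgroupOf (Subgroup.normalizer (K : Set G))).index) :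
    ∃ P : Sylow p G, (P : Subgroup G) = K := by
  obtain ⟨P, hP⟩ := hpK.exists_le_sylow
  refine ⟨P, le_antisymm ?_ hP⟩
  by_contra hne
  have := P.isPGroup'.isNilpotent
  have hlt : K.subgroupOf (P : Subgroup G) < ⊤ := lt_top_iff_ne_top.mpr fun h =>
    hne (Subgroup.subgroupOf_eq_top.mp h)
  obtain ⟨⟨x, hxP⟩, hx, hxK⟩ := SetLike.exists_of_lt
    (Group.normalizerCondition_of_isNilpotent (K.subgroupOf (P : Subgroup G)) hlt)
  rw [← Subgroup.subgroupOf_normalizer_eq hP, Subgroup.mem_subgroupOf] at hx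
  refine hxK (Subgroup.mem_subgroupOf.mpr ?_)
  set N := Subgroup.normalizer (K : Set G)
  obtain ⟨j, hj⟩ := P.isPGroup' ⟨x, hxP⟩
  have hj' : x ^ p ^ j = 1 := congrArg Subtype.val hj
  have h1 : orderOf ((⟨x, hx⟩ : N) : N ⧸ K.subgroupOf N) ∣ p ^ j := by
    refine orderOf_dvd_of_pow_eq_one ?_
    rw [← QuotientGroup.mk_pow, show (⟨x, hx⟩ : N) ^ p ^ j = 1 from Subtype.ext hj',
      QuotientGroup.mk_one]
  have h2 : orderOf ((⟨x, hx⟩ : N) : N ⧸ K.subgroupOf N) ∣ (K.subgroupOf N).index :=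
    (orderOf_dvd_natCard _).trans (Subgroup.index_eq_card _).symm.dvd
  have h3 := orderOf_eq_one_iff.mp (Nat.eq_one_of_dvd_coprimes (hcop.pow_left j) h1 h2)
  have h4 : (⟨x, hx⟩ : N) ∈ K.subgroupOf N := (QuotientGroup.eq_one_iff _).mp h3
  exact Subgroup.mem_subgroupOf.mp h4

/-- Sibley's theorem. -/
theorem sibley (K : Subgroup G) [Fintype ↥(Subgroup.normalizer (K : Set G))]
    (hTI : Cfsg.IsTISubset (K : Set G))
    (hC : ∀ k ∈ K, k ≠ 1 → Subgroup.centralizer ({k} : Set G) ≤ K) (hK1 : K ≠ ⊥)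
    (hnil : Group.IsNilpotent K) (hodd : Odd (Nat.card ↥(Subgroup.normalizer (K : Set G)))) :
    Cfsg.IsCoherent
      (Cfsg.inducedIrrAbove (K.subgroupOf (Subgroup.normalizer (K : Set G))) ⊥) {1}ᶜ
      (fun α : ↥(Subgroup.normalizer (K : Set G)) → ℂ =>
        Cfsg.indFun (Subgroup.normalizer (K : Set G)) α) := by
  classical
  set H := K.subgroupOf (Subgroup.normalizer (K : Set G)) with hHdef
  set τ := fun α : (Subgroup.normalizer (K : Set G)) → ℂ => Cfsg.indFun (Subgroup.normalizer (K : Set G)) α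
  have hC' := Exceptional.tifn_cent K hC
  have hmemH : ∀ x : (Subgroup.normalizer (K : Set G)), x ∈ H ↔ (x : G) ∈ K := fun x => Subgroup.mem_subgroupOf
  have hH1 : H ≠ ⊥ := by
    intro h
    rw [Subgroup.subgroupOf_eq_bot, disjoint_iff,
      inf_eq_left.mpr (Subgroup.le_normalizer : K ≤ (Subgroup.normalizer (K : Set G)))] at h
    exact hK1 h
  have hHnil : Group.IsNilpotent H :=
    Group.nilpotent_of_mulEquiv (Subgroup.subgroupOfEquivOfLe Subgroup.le_normalizer).symm
  have hsolv : Group.IsSolvable H := inferInstance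
  obtain ⟨hiso, hiso1⟩ := Exceptional.tifn_isometry K hTI hC
  have hset : Exceptional.tifnSet K = Cfsg.inducedIrrAbove H ⊥ := by
    rw [above_bot_eq hC']
    ext χ
    simp only [Exceptional.tifnSet, Set.mem_ofPred_eq]
    rfl
  rw [hset] at hiso hiso1
  obtain ⟨R, hS⟩ := exists_system hC' hodd hsolv hH1 hiso hiso1
  have hH'lt : ⁅H, H⁆ < H := commutator_lt_self hHnil hH1
  have hfr := frob_quot hC' ⁅H, H⁆ hH'lt.le
  have hSet := Setting.of_system hS
  by_cases hgood : ⁅H, H⁆ ≤ ⊥ ∨ ¬ ∃ p n : ℕ, p.Prime ∧ (⊥ : Subgroup (Subgroup.normalizer (K : Set G))).relIndex H = p ^ n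
  · exact dichotomy hSet closed_conj hsolv hodd ⊥ bot_le inferInstance ⁅H, H⁆ (sup_bot_eq _).symm
      hH'lt hfr (coherent_abelian_section hS hsolv hH'lt.not_ge le_rfl)
      (hgood.elim (fun h => Or.inr (Or.inr (Or.inr (Or.inl h))))
        (fun h => Or.inr (Or.inr (Or.inl h))))
  push Not at hgood
  obtain ⟨hna, p, n, hp, hn⟩ := hgood
  have := Fact.mk hp
  rw [Subgroup.relIndex_bot_left] at hn
  obtain ⟨Z, hZn, hZ1, hZH', hZc⟩ := exists_central hHnil fun h => hna h.le
  have hZH : Z ≤ H := hZH'.trans hH'lt.le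
  have hirr := irr_of_mem (L := (Subgroup.normalizer (K : Set G))) hC'
  set S := Cfsg.inducedIrrAbove H (⊥ : Subgroup (Subgroup.normalizer (K : Set G)))
  have hfin : S.Finite := hSet.finite
  set X := S \ Cfsg.inducedIrrAbove H Z
  set Y := Cfsg.inducedIrrAbove H ⁅H, H⁆
  obtain ⟨Xf, hXf⟩ := (hfin.subset (Set.sdiff_subset : X ⊆ S)).exists_finset_coe
  obtain ⟨Yf, hYf⟩ := (hfin.subset (inducedIrrAbove_subset _ : Y ⊆ S)).exists_finset_coe
  have hXY : ∀ x ∈ Xf, ∀ y ∈ Yf, x ≠ y := fun x hx y hy e => by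
    rw [← Finset.mem_coe, hXf] at hx
    rw [← Finset.mem_coe, hYf] at hy
    exact hx.2 (inducedIrrAbove_antitone hZH' (e ▸ hy))
  have hsub : (↑(Xf ∪ Yf) : Set ((Subgroup.normalizer (K : Set G)) → ℂ)) ⊆ S := by
    rw [Finset.coe_union, hXf, hYf]
    exact Set.union_subset Set.sdiff_subset (inducedIrrAbove_subset _)
  have hirrU : ∀ ξ ∈ Xf ∪ Yf, Cfsg.IsIrrCharacter (Subgroup.normalizer (K : Set G)) ξ := fun ξ h => hirr ξ (hsub h)
  have hdiffirr : ∀ χ ∈ X, Cfsg.IsIrrCharacter (Subgroup.normalizer (K : Set G)) χ := fun χ h => hirr χ h.1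
  obtain ⟨-, τ₁, hτ₁, hτ₁e⟩ :=
    nontrivial_central_coherent hsolv hS hodd hHnil hH'lt hfr hZ1 hZH hZc hdiffirr
  obtain ⟨-, τ₂, hτ₂, hτ₂e⟩ :=
    coherent_abelian_section hS hsolv (A := ⁅H, H⁆) hH'lt.not_ge le_rfl
  rw [← hXf] at hτ₁ hτ₁e
  rw [← hYf] at hτ₂ hτ₂e
  obtain ⟨ψ, hψ⟩ : ∃ φ, φ ∈ X := exists_mem_diff hZH hZ1
  obtain ⟨η, hη, hη1⟩ := exists_min_member hsolv (A := ⁅H, H⁆) hH'lt.not_ge
  have hψf : ψ ∈ Xf := by rw [← Finset.mem_coe, hXf]; exact hψ
  have hηf : η ∈ Yf := by rw [← Finset.mem_coe, hYf]; exact hη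
  have hηc : Cfsg.conjFun η ∈ Yf := by rw [← Finset.mem_coe, hYf]; exact closed_conj _ η hη
  obtain ⟨a, ha0, ha⟩ := exists_degree_of_mem hψ.1
  have hXd : ∀ x ∈ Xf, ∃ k : ℕ, x 1 = ((H.index * k : ℕ) : ℂ) := fun x hx => by
    obtain ⟨k, -, hk⟩ := exists_degree_of_mem (hsub (Finset.mem_union_left _ hx))
    exact ⟨k, by rw [hk, Nat.cast_mul]⟩
  have hXc : ∀ x ∈ Xf, Cfsg.conjFun x ∈ Xf ∧ Cfsg.conjFun x ≠ x := fun x hx => by
    rw [← Finset.mem_coe, hXf] at hx
    refine ⟨?_, hS.conj_ne x hx.1⟩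
    rw [← Finset.mem_coe, hXf]; exact closed_conj_diff Z x hx
  have hisoU := Exceptional.IsLinearIsometryOn.mono hiso (Exceptional.zspanOn_subset _ hsub)
  have hisoU1 : ∀ α ∈ Cfsg.zspanOn (↑(Xf ∪ Yf) : Set ((Subgroup.normalizer (K : Set G)) → ℂ)) ({1}ᶜ : Set (Subgroup.normalizer (K : Set G))), τ α 1 = 0 :=
    fun α h => hiso1 α (Exceptional.zspanOn_subset _ hsub h)
  have horth := Exceptional.coherent_pieces_orth (S := S) (X := (↑Xf : Set ((Subgroup.normalizer (K : Set G)) → ℂ)))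
    (Y := (↑Yf : Set ((Subgroup.normalizer (K : Set G)) → ℂ))) hirr
    (fun x h => hsub (Finset.mem_union_left _ h)) (fun x h => hsub (Finset.mem_union_right _ h))
    (Set.disjoint_left.mpr fun z hz hz' => hXY z hz z hz' rfl)
    ⟨ψ, hψf, Cfsg.conjFun ψ, (hXc ψ hψf).1, (hXc ψ hψf).2.symm⟩
    ⟨η, hηf, Cfsg.conjFun η, hηc, (hS.conj_ne η (inducedIrrAbove_subset _ hη)).symm⟩
    hiso hiso1 hτ₁ hτ₁e hτ₂ hτ₂e
  -- the congruence
  have hdvd : ∀ m : ℤ, Cfsg.classInner (τ (ψ - (a : ℂ) • η)) (τ₂ η) = m → (a : ℤ) ∣ m := by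
    intro m hm
    have hgen := hτ₂.2.2.2 η (Exceptional.mem_zspan_self (Finset.mem_coe.mpr hηf))
    have hnorm : Cfsg.classInner (τ₂ η) (τ₂ η) = 1 := by
      rw [hτ₂.2.2.1 η (Exceptional.mem_zspan_self (Finset.mem_coe.mpr hηf)) η
        (Exceptional.mem_zspan_self (Finset.mem_coe.mpr hηf)),
        Exceptional.classInner_self_of_irr (hirr η (inducedIrrAbove_subset _ hη))]
    obtain ⟨f, δ, hδ, hf, hfe⟩ := Exceptional.IsGen.norm_one hgen hnorm
    set F : (Subgroup.normalizer (K : Set G)) → ℂ := fun x => τ₂ η x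
    have hFgen : Cfsg.IsGeneralizedCharacter (Subgroup.normalizer (K : Set G)) F := Exceptional.IsGen.restrict (Subgroup.normalizer (K : Set G)) hgen
    have hrec : ∀ w : (Subgroup.normalizer (K : Set G)) → ℂ, Cfsg.classInner (τ w) (τ₂ η) = Cfsg.classInner w F := fun w =>
      frobenius_reciprocity (Subgroup.normalizer (K : Set G)) w (Exceptional.IsGen.isClassFunction hgen)
    obtain ⟨k, hk⟩ := Exceptional.IsGen.classInner_eq_int
      (Exceptional.IsGen.of_irr (hdiffirr ψ hψ)) hFgen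
    obtain ⟨kη, hkη⟩ := Exceptional.IsGen.classInner_eq_int
      (Exceptional.IsGen.of_irr (hirr η (inducedIrrAbove_subset _ hη))) hFgen
    rw [hrec, classInner_sub_left, classInner_smul_left, hk, hkη] at hm
    have hm' : m = k - a * kη := by exact_mod_cast hm.symm
    have hcoef : ∀ ξ ∈ X, (a : ℂ) * (H.index : ℂ) * Cfsg.classInner F ξ = (k : ℂ) * ξ 1 := by
      intro ξ hξ
      have hξf : ξ ∈ Xf := by rw [← Finset.mem_coe, hXf]; exact hξ
      obtain ⟨a', -, ha'⟩ := exists_degree_of_mem hξ.1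
      set w := (a : ℂ) • ξ - (a' : ℂ) • ψ with hw
      have hwm : w ∈ Cfsg.zspanOn (↑Xf : Set ((Subgroup.normalizer (K : Set G)) → ℂ)) ({1}ᶜ : Set (Subgroup.normalizer (K : Set G))) := by
        refine ⟨(Submodule.span ℤ (↑Xf : Set ((Subgroup.normalizer (K : Set G)) → ℂ))).sub_mem
          (Exceptional.natCast_smul_mem_zspan a
            (Exceptional.mem_zspan_self (Finset.mem_coe.mpr hξf)))
          (Exceptional.natCast_smul_mem_zspan a'
            (Exceptional.mem_zspan_self (Finset.mem_coe.mpr hψf))), fun x hx => ?_⟩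
        simp only [Set.mem_compl_iff, Set.mem_singleton_iff, not_not] at hx
        subst hx
        simp [hw, ha, ha']; ring
      have h0 : Cfsg.classInner w F = 0 := by
        rw [← hrec, show τ w = τ₁ w from (hτ₁e w hwm).symm, hw,
          Exceptional.iso_map_sub hτ₁ (Exceptional.natCast_smul_mem_zspan a
            (Exceptional.mem_zspan_self hξf)) (Exceptional.natCast_smul_mem_zspan a'
            (Exceptional.mem_zspan_self hψf)),
          Exceptional.iso_map_natCast_smul hτ₁ (Exceptional.mem_zspan_self hξf),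
          Exceptional.iso_map_natCast_smul hτ₁ (Exceptional.mem_zspan_self hψf),
          classInner_sub_left, classInner_smul_left, classInner_smul_left,
          horth ξ hξf η hηf, horth ψ hψf η hηf]
        simp
      rw [hw, classInner_sub_left, classInner_smul_left, classInner_smul_left, hk] at h0
      have h1 := congrArg (starRingEnd ℂ) h0
      rw [map_zero, map_sub, map_mul, map_mul, map_natCast, map_natCast, map_intCast,
        classInner_conj_symm] at h1
      rw [ha']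
      linear_combination (H.index : ℂ) * h1
    -- values on `Z`
    have hval : ∀ z : (Subgroup.normalizer (K : Set G)), z ∈ Z → z ≠ 1 →
        (a : ℂ) * (F z - F 1) = -((k : ℂ) * (Nat.card H : ℂ)) := by
      intro z hz hz1
      have := Fintype.ofFinite (Cfsg.IrrCharacter (Subgroup.normalizer (K : Set G)))
      have hcl := Exceptional.IsGen.isClassFunction hFgen
      have he : (H.index : ℂ) ≠ 0 := Nat.cast_ne_zero.mpr Subgroup.index_ne_zero_of_finite
      have hterm : ∀ χ : Cfsg.IrrCharacter (Subgroup.normalizer (K : Set G)),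
          (a : ℂ) * (H.index : ℂ) *
            (Cfsg.classInner F (χ : (Subgroup.normalizer (K : Set G)) → ℂ) * ((χ : (Subgroup.normalizer (K : Set G)) → ℂ) z - (χ : (Subgroup.normalizer (K : Set G)) → ℂ) 1)) =
            (k : ℂ) * ((χ : (Subgroup.normalizer (K : Set G)) → ℂ) 1 * ((χ : (Subgroup.normalizer (K : Set G)) → ℂ) z - (χ : (Subgroup.normalizer (K : Set G)) → ℂ) 1)) := by
        intro χ
        by_cases h : (χ : (Subgroup.normalizer (K : Set G)) → ℂ) ∈ X
        · rw [← mul_assoc, hcoef _ h, mul_assoc]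
        · have : (χ : (Subgroup.normalizer (K : Set G)) → ℂ) z = (χ : (Subgroup.normalizer (K : Set G)) → ℂ) 1 := by
            by_contra hne
            refine h ?_
            show (χ : (Subgroup.normalizer (K : Set G)) → ℂ) ∈ Cfsg.inducedIrrAbove H ⊥ \ Cfsg.inducedIrrAbove H Z
            rw [diff_eq_irr hZH hdiffirr]
            exact ⟨χ.2, z, hz, hne⟩
          rw [this]; ring
      have h1 : (a : ℂ) * (H.index : ℂ) * (F z - F 1) = (k : ℂ) * -(Nat.card (Subgroup.normalizer (K : Set G)) : ℂ) := by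
        rw [classFunction_apply_eq_sum hcl z, classFunction_apply_eq_sum hcl 1,
          ← sum_degree_mul_sub hz1, ← Finset.sum_sub_distrib, Finset.mul_sum, Finset.mul_sum]
        refine Finset.sum_congr rfl fun χ _ => ?_
        rw [← mul_sub, hterm]
      rw [← H.card_mul_index, Nat.cast_mul] at h1
      refine mul_right_cancel₀ he ?_
      linear_combination h1
    obtain ⟨P, hP⟩ := exists_sylow_eq (p := p) (K := K)
      (IsPGroup.of_card (n := n) (by
        rw [← hn, Nat.card_congr (Subgroup.subgroupOfEquivOfLe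
          (Subgroup.le_normalizer : K ≤ (Subgroup.normalizer (K : Set G)))).toEquiv]))
      (by
        refine (Nat.Coprime.coprime_dvd_right ?_ (coprime_index_card hC')).symm
        rw [hn]
        refine dvd_pow_self p fun h0 => hH1 (Subgroup.card_eq_one.mp ?_)
        rw [hn, h0, pow_zero])
    obtain ⟨z, hz, hz1⟩ := (Subgroup.bot_or_exists_ne_one Z).resolve_left hZ1
    have hδ0 : δ ≠ 0 := by rcases hδ with rfl | rfl <;> norm_num
    have hFf : ∀ x : (Subgroup.normalizer (K : Set G)), F x = δ * f x := fun x => congrFun hfe x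
    have hconst : ∀ u ∈ Z.map (Subgroup.normalizer (K : Set G)).subtype, ∀ u' ∈ Z.map (Subgroup.normalizer (K : Set G)).subtype, u ≠ 1 → u' ≠ 1 → f u = f u' := by
      rintro _ ⟨u, hu, rfl⟩ _ ⟨u', hu', rfl⟩ h1 h2
      have e1 := hval u hu fun e => h1 (by rw [e]; rfl)
      have e2 := hval u' hu' fun e => h2 (by rw [e]; rfl)
      have e3 : F u = F u' := by
        have := mul_left_cancel₀ (Nat.cast_ne_zero.mpr ha0.ne' : (a : ℂ) ≠ 0) (e1.trans e2.symm)
        linear_combination this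
      rw [hFf, hFf] at e3
      exact mul_left_cancel₀ hδ0 e3
    have hodd' : Odd (Nat.card (Subgroup.normalizer ((P : Subgroup G) : Set G))) := by
      rw [hP]; exact hodd
    obtain ⟨nz, d, hnz, hd, ⟨j, hj⟩⟩ := ti_sylow_const p P (hP.symm ▸ hTI) hodd' (Z.map (Subgroup.normalizer (K : Set G)).subtype)
      (by
        rw [hP]; rintro _ ⟨u, hu, rfl⟩; exact (hmemH u).mp (hZH hu))
      (by
        rintro x hx _ ⟨u, hu, rfl⟩
        rw [hP] at hx
        exact ⟨⟨x, hx⟩ * u * ⟨x, hx⟩⁻¹, hZn.conj_mem u hu _, rfl⟩)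
      (by
        rintro _ ⟨u, hu, rfl⟩ y hy
        rw [hP] at hy
        exact congrArg Subtype.val
          (hZc u hu ⟨y, Subgroup.le_normalizer hy⟩ ((hmemH _).mpr hy)))
      f hf hconst z (Subgroup.mem_map_of_mem (Subgroup.normalizer (K : Set G)).subtype hz) (fun e => hz1 (Subtype.ext e))
    have e := hval z hz hz1
    rw [hFf, hFf, hnz, Subgroup.coe_one, hd] at e
    have hcardH : Nat.card H = Nat.card (P : Subgroup G) := by
      rw [hP]; exact Nat.card_congr (Subgroup.subgroupOfEquivOfLe Subgroup.le_normalizer).toEquiv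
    rw [hcardH] at e
    have hq0 : ((Nat.card (P : Subgroup G) : ℕ) : ℂ) ≠ 0 := Nat.cast_ne_zero.mpr Nat.card_pos.ne'
    have hj' : (d : ℂ) - nz = (Nat.card (P : Subgroup G) : ℂ) * j := by exact_mod_cast hj
    have hk' : (k : ℂ) = (a : ℂ) * δ * j := by
      refine mul_right_cancel₀ hq0 ?_
      linear_combination e + (a : ℂ) * δ * hj'
    rw [hm']
    refine dvd_sub ?_ (dvd_mul_right _ _)
    rcases hδ with rfl | rfl
    · exact ⟨j, by exact_mod_cast (by rw [hk']; ring : (k : ℂ) = (a : ℂ) * j)⟩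
    · refine ⟨-j, ?_⟩
      have : (k : ℂ) = (a : ℂ) * (-(j : ℂ)) := by rw [hk']; ring
      exact_mod_cast this
  have hcohU : Cfsg.IsCoherent (↑(Xf ∪ Yf) : Set ((Subgroup.normalizer (K : Set G)) → ℂ)) {1}ᶜ τ :=
    sibley_glue hirrU hXY hisoU hisoU1 hXc hXd
      (fun y hy => apply_one_of_mem le_rfl (hYf.subset hy))
      ⟨η, hηf, _, hηc, (hS.conj_ne η (inducedIrrAbove_subset _ hη)).symm⟩
      hτ₁ hτ₁e hτ₂ hτ₂e hψf hηf (by rw [ha, Nat.cast_mul]) hdvd
  -- the remaining characters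
  have hT : Closed Cfsg.conjFun (↑(Xf ∪ Yf) : Set ((Subgroup.normalizer (K : Set G)) → ℂ)) := by
    rw [Finset.coe_union, hXf, hYf]
    exact Closed.union (closed_conj_diff Z) (closed_conj _)
  set q := Z.relIndex H with hq
  have key := hSet.insert_all hsub (inducedIrrAbove_subset Z) hT (closed_conj Z) hcohU
    (χ₁ := η) (Finset.mem_union_right _ hηf)
    ((H.index : ℝ) * ((Nat.card H : ℝ) - q)) (fun {_} => ?_) fun χ hχ _ => ?_
  · have heq : (↑(Xf ∪ Yf) : Set ((Subgroup.normalizer (K : Set G)) → ℂ)) ∪ Cfsg.inducedIrrAbove H Z = S := by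
      refine Set.Subset.antisymm (Set.union_subset hsub (inducedIrrAbove_subset Z)) fun φ hφ => ?_
      by_cases h : φ ∈ Cfsg.inducedIrrAbove H Z
      · exact Or.inr h
      · rw [Finset.coe_union, hXf]; exact Or.inl (Or.inl ⟨hφ, h⟩)
    exact heq ▸ key
  · have := hfin.fintype
    have := (hfin.subset (inducedIrrAbove_subset Z)).fintype
    have h1 := sum_wt (K := H) (⊥ : Subgroup (Subgroup.normalizer (K : Set G)))
    have h2 := sum_wt (K := H) Z
    rw [← Finset.sum_subtype S.toFinset (fun x => Set.mem_toFinset) wt,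
      Subgroup.relIndex_bot_left] at h1
    rw [← Finset.sum_subtype (Cfsg.inducedIrrAbove H Z).toFinset (fun x => Set.mem_toFinset) wt,
      ← hq] at h2
    rw [← Finset.sum_subtype (Xf ∪ Yf) (fun x => Finset.mem_coe.symm) wt]
    have hsd : S.toFinset \ (Cfsg.inducedIrrAbove H Z).toFinset = Xf := by
      rw [← Finset.coe_inj, hXf]; simp
    calc (H.index : ℝ) * ((Nat.card H : ℝ) - q)
        = ∑ φ ∈ S.toFinset, wt φ - ∑ φ ∈ (Cfsg.inducedIrrAbove H Z).toFinset, wt φ := by
          rw [h1, h2]; ring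
      _ = ∑ φ ∈ Xf, wt φ := by
          rw [← hsd, Finset.sum_sdiff_eq_sub
            (Set.toFinset_subset_toFinset.mpr (inducedIrrAbove_subset Z))]
      _ ≤ _ := Finset.sum_le_sum_of_subset_of_nonneg Finset.subset_union_left
          fun φ _ _ => wt_nonneg φ
  · obtain ⟨θ, hθ, -, hker, rfl⟩ := hχ
    obtain ⟨d, -, hd⟩ := IsIrr.exists_degree hθ
    refine ⟨⟨d, by rw [indFun_apply_one, hd, hη1, mul_comm]⟩, ?_⟩
    have hbound := sq_degree_le Z H Z le_rfl le_rfl
      (fun x hx y hy => by rw [hZc x hx y hy]; simp) hθ hker hd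
    rw [Subgroup.relIndex_self, one_pow, one_mul, ← hq] at hbound
    have hZsmall : 2 * H.index < Nat.card Z := by
      have h := two_mul_index_lt hodd (K := H) (A := (⊥ : Subgroup (Subgroup.normalizer (K : Set G)))) (B := Z) (bot_lt_iff_ne_bot.mpr hZ1) hZH
        (Subgroup.commutator_le.mpr fun x hx y hy => by
          rw [Subgroup.mem_bot]
          exact commutatorElement_eq_one_iff_mul_comm.mpr (hZc y hy x hx).symm)
        (fun k hk => frob_quot hC' ⊥ bot_le k (hZH hk))
      rwa [Subgroup.relIndex_bot_left] at h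
    have hq2 : 2 ≤ q := by
      have h0 : q ≠ 0 := Subgroup.index_ne_zero_of_finite
      have h1 : q ≠ 1 := fun h =>
        hH'lt.not_ge ((Subgroup.relIndex_eq_one.mp h).trans hZH')
      omega
    have hcardH : Nat.card H = q * Nat.card Z := by
      rw [hq, ← Nat.card_congr (Subgroup.subgroupOfEquivOfLe hZH).toEquiv, Subgroup.relIndex,
        Subgroup.index_mul_card]
    have hlt : 2 * H.index * d + q < q * Nat.card Z := by
      have h1 : (2 * H.index * d) ^ 2 < (q * (Nat.card Z - 1)) ^ 2 := by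
        calc (2 * H.index * d) ^ 2 = (2 * H.index) ^ 2 * d ^ 2 := by ring
          _ ≤ (Nat.card Z - 1) ^ 2 * q :=
            Nat.mul_le_mul (Nat.pow_le_pow_left (by omega) 2) hbound
          _ < _ := by
            rw [mul_pow, mul_comm (q ^ 2)]
            refine Nat.mul_lt_mul_of_pos_left ?_ (pow_pos (Nat.sub_pos_of_lt (lt_of_le_of_lt (Nat.one_le_iff_ne_zero.mpr (Nat.mul_ne_zero two_ne_zero Subgroup.index_ne_zero_of_finite)) hZsmall)) 2)
            nlinarith
      have h2 := lt_of_pow_lt_pow_left' 2 h1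
      rw [Nat.mul_sub, mul_one] at h2
      omega
    have hlt' : ((2 * H.index * d + q : ℕ) : ℝ) < ((Nat.card H : ℕ) : ℝ) := by
      rw [hcardH]; exact Nat.cast_lt.mpr hlt
    push_cast at hlt'
    have he : (0 : ℝ) < H.index :=
      Nat.cast_pos.mpr (Nat.pos_of_ne_zero Subgroup.index_ne_zero_of_finite)
    rw [indFun_apply_one, hd, hη1]
    simp only [Complex.mul_re, Complex.natCast_re, Complex.natCast_im, mul_zero, sub_zero]
    nlinarith

end CfsgLib.Coh
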