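import Cfsg.Agent.Lib.Char.Coherence.FrobeniusBasics

/-!
# Values on a Frobenius kernel
-/

set_option autoImplicit false

open scoped ComplexConjugate

namespace CfsgLib.Coh

open CfsgLib.Char

variable {L : Type*} [Group L] [Fintype L] {H : Subgroup L} [hH : H.Normal]
  (hC : ∀ n ∈ H, n ≠ 1 → Subgroup.centralizer ({n} : Set L) ≤ H)

open scoped Classical in
/-- The nonidentity elements of `H`. -/
noncomputable def sharp (H : Subgroup L) : Finset L :=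
  Finset.univ.filter fun x => x ∈ H ∧ x ≠ 1

omit hH in
theorem mem_sharp {x : L} : x ∈ sharp H ↔ x ∈ H ∧ x ≠ 1 := by
  classical
  simp [sharp]

omit hH in
theorem card_sharp : ((sharp H).card : ℂ) = (Nat.card H : ℂ) - 1 := by
  classical
  have h : (sharp H).card = (Finset.univ.filter fun x => x ∈ H).card - 1 := by
    rw [← Finset.card_erase_of_mem (a := 1) (s := Finset.univ.filter fun x => x ∈ H) (by simp)]
    congr 1
    ext x
    simp [mem_sharp, and_comm]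
  rw [h, ← Fintype.card_subtype, ← Nat.card_eq_fintype_card, Nat.cast_sub Nat.card_pos, Nat.cast_one]

omit hH in
theorem sum_eq_one_add_sharp {f : L → ℂ} (hf : ∀ x, x ∉ H → f x = 0) :
    ∑ x, f x = f 1 + ∑ x ∈ sharp H, f x := by
  classical
  rw [← Finset.add_sum_erase _ _ (Finset.mem_univ 1)]
  congr 1
  refine (Finset.sum_subset (fun x hx => Finset.mem_erase.mpr
    ⟨(mem_sharp.mp hx).2, Finset.mem_univ _⟩) fun x hx hx' => hf x fun h => hx' ?_).symm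
  exact mem_sharp.mpr ⟨h, (Finset.mem_erase.mp hx).1⟩

omit hH in
theorem sum_sharp_eq {f : L → ℂ} (hf : ∀ x, x ∉ H → f x = 0) :
    ∑ x ∈ sharp H, f x = (∑ x, f x) - f 1 := by
  rw [sum_eq_one_add_sharp hf]; ring

open scoped Classical in
/-- The character induced from the principal character of `H`. -/
noncomputable def kerInd (H : Subgroup L) : L → ℂ := fun x => if x ∈ H then (H.index : ℂ) else 0

theorem kerInd_eq : kerInd H = Cfsg.indFun H (fun _ => (1 : ℂ)) := by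
  classical
  funext x
  by_cases hx : x ∈ H
  · rw [kerInd, if_pos hx, show Cfsg.indFun H (fun _ => (1 : ℂ)) x =
      Cfsg.indFun H (fun _ => (1 : ℂ)) ((⟨x, hx⟩ : H) : L) from rfl,
      Exceptional.indFun_normal_apply]
    simp only [Exceptional.cjFun, Finset.sum_const, Finset.card_univ, nsmul_eq_mul, mul_one,
      ← Nat.card_eq_fintype_card, ← H.card_mul_index, Nat.cast_mul]
    field_simp [Nat.cast_ne_zero.mpr (Nat.card_pos (α := H)).ne']
  · rw [kerInd, if_neg hx, Exceptional.indFun_normal_eq_zero H _ hx]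

include hC

omit hC in
theorem vanish_of_mem {ζ : L → ℂ} (hζ : ζ ∈ Cfsg.inducedIrrAbove H ⊥) {x : L} (hx : x ∉ H) :
    ζ x = 0 := by
  obtain ⟨θ, -, -, -, rfl⟩ := hζ
  exact Exceptional.indFun_normal_eq_zero H θ hx

/-- A class function with proportional coefficients is affine in `ζ` on the kernel. -/
theorem const_on_kernel [Fintype (Cfsg.IrrCharacter L)] {Φ : L → ℂ}
    (hΦ : Cfsg.IsClassFunction L Φ) {ζ : L → ℂ} (hζ : ζ ∈ Cfsg.inducedIrrAbove H ⊥) (a t : ℂ)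
    (hcoef : ∀ ξ ∈ Cfsg.inducedIrrAbove H ⊥,
      Cfsg.classInner Φ ξ = (if ξ = ζ then a else 0) + t * ξ 1) :
    ∃ c : ℂ, ∀ x ∈ H, x ≠ 1 → Φ x = a * ζ x + c := by
  classical
  refine ⟨∑ χ : Cfsg.IrrCharacter L, if (χ : L → ℂ) ∈ Cfsg.inducedIrrAbove H ⊥ then 0
    else (Cfsg.classInner Φ (χ : L → ℂ) - t * (χ : L → ℂ) 1) * (χ : L → ℂ) 1, fun x hx hx1 => ?_⟩
  have h0 : ∑ χ : Cfsg.IrrCharacter L, (χ : L → ℂ) x * (χ : L → ℂ) 1 = 0 := by
    have h := column_orthogonality x (1 : L)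
    rw [if_neg (fun e => hx1 (by simpa [eq_comm] using e.symm))] at h
    refine Eq.trans (Finset.sum_congr rfl fun χ _ => ?_) h
    obtain ⟨d, -, hd⟩ := IsIrr.exists_degree χ.2
    rw [hd, map_natCast]
  have hterm : ∀ χ : Cfsg.IrrCharacter L, Cfsg.classInner Φ (χ : L → ℂ) * (χ : L → ℂ) x =
      t * ((χ : L → ℂ) x * (χ : L → ℂ) 1) + ((if (χ : L → ℂ) = ζ then a * (χ : L → ℂ) x else 0) +
        if (χ : L → ℂ) ∈ Cfsg.inducedIrrAbove H ⊥ then 0
        else (Cfsg.classInner Φ (χ : L → ℂ) - t * (χ : L → ℂ) 1) * (χ : L → ℂ) 1) := by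
    intro χ
    by_cases hm : (χ : L → ℂ) ∈ Cfsg.inducedIrrAbove H ⊥
    · rw [hcoef _ hm, if_pos hm]
      by_cases e : (χ : L → ℂ) = ζ
      · rw [if_pos e, if_pos e]; ring
      · rw [if_neg e, if_neg e]; ring
    · rw [if_neg hm, if_neg (fun e : (χ : L → ℂ) = ζ => hm (e ▸ hζ))]
      have hx' : (χ : L → ℂ) x = (χ : L → ℂ) 1 := by
        by_contra hne
        refine hm ?_
        rw [above_bot_eq hC]
        exact ⟨χ.2, x, hx, hne⟩
      rw [hx']; ring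
  rw [classFunction_apply_eq_sum hΦ x, Finset.sum_congr rfl fun χ _ => hterm χ,
    Finset.sum_add_distrib, Finset.sum_add_distrib, ← Finset.mul_sum, h0, mul_zero, zero_add]
  congr 1
  rw [Finset.sum_eq_single (⟨ζ, irr_of_mem hC ζ hζ⟩ : Cfsg.IrrCharacter L)
    (fun χ _ hne => if_neg fun e => hne (Subtype.ext e)) (fun h => absurd (Finset.mem_univ _) h),
    if_pos rfl]

theorem sum_sharp_of_mem {ζ : L → ℂ} (hζ : ζ ∈ Cfsg.inducedIrrAbove H ⊥) :
    ∑ x ∈ sharp H, ζ x = -ζ 1 := by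
  rw [sum_sharp_eq fun x hx => vanish_of_mem hζ hx]
  have hne : ζ ≠ fun _ => 1 := fun e => by
    have h := hζ
    rw [above_bot_eq hC] at h
    obtain ⟨-, y, -, hy⟩ := h
    exact hy (by rw [e])
  have h := Exceptional.classInner_eq_zero_of_irr (irr_of_mem hC ζ hζ) (trivChar L).2
    (fun e => hne (e.trans (funext fun y => trivChar_apply y)))
  rw [Cfsg.classInner] at h
  have h' : ∑ x, ζ x = 0 := by
    have h2 := (mul_eq_zero.mp h).resolve_left (inv_ne_zero (Nat.cast_ne_zero.mpr Nat.card_pos.ne'))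
    refine Eq.trans (Finset.sum_congr rfl fun x _ => ?_) h2
    rw [trivChar_apply, map_one, mul_one]
  rw [h', zero_sub]

theorem sum_sharp_sq {ζ : L → ℂ} (hζ : ζ ∈ Cfsg.inducedIrrAbove H ⊥) :
    ∑ x ∈ sharp H, ζ x * conj (ζ x) = (Nat.card L : ℂ) - ζ 1 * ζ 1 := by
  rw [sum_sharp_eq fun x hx => by rw [vanish_of_mem hζ hx, zero_mul]]
  have h := Exceptional.classInner_self_of_irr (irr_of_mem hC ζ hζ)
  rw [Cfsg.classInner, inv_mul_eq_iff_eq_mul₀ (Nat.cast_ne_zero.mpr Nat.card_pos.ne'), mul_one] at h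
  obtain ⟨d, -, hd⟩ := IsIrr.exists_degree (irr_of_mem hC ζ hζ)
  rw [h, hd, map_natCast]

omit [Fintype L] hH hC in
theorem sum_wt_finset_aux {S : Set (L → ℂ)} [Fintype (Cfsg.IrrCharacter L)] (hirr : ∀ χ ∈ S,
    Cfsg.IsIrrCharacter L χ) (Sf : Finset (L → ℂ)) (hSf : ↑Sf = S) (f : (L → ℂ) → ℂ)
    [DecidablePred (· ∈ S)] :
    ∑ ξ ∈ Sf, f ξ = ∑ χ : Cfsg.IrrCharacter L, if (χ : L → ℂ) ∈ S then f χ else 0 := by
  classical
  rw [← Finset.sum_filter]
  refine Finset.sum_bij (fun ξ h => (⟨ξ, hirr ξ (hSf ▸ h)⟩ : Cfsg.IrrCharacter L)) (fun ξ h => ?_)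
    (fun ξ _ η _ e => congrArg Subtype.val e) (fun χ hχ => ?_) (fun ξ _ => rfl)
  · exact Finset.mem_filter.mpr ⟨Finset.mem_univ _, hSf ▸ h⟩
  · exact ⟨χ, by rw [← Finset.mem_coe, hSf]; exact (Finset.mem_filter.mp hχ).2, rfl⟩

/-- The three column sums over the characters nontrivial on `H`. -/
theorem column_sums (Sf : Finset (L → ℂ)) (hSf : ↑Sf = Cfsg.inducedIrrAbove H ⊥) {x : L}
    (hx : x ∈ H) (hx1 : x ≠ 1) :
    (∑ ξ ∈ Sf, ξ x * conj (ξ x) =
        (Nat.card (Subgroup.centralizer ({x} : Set L)) : ℂ) - H.index) ∧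
      (∑ ξ ∈ Sf, ξ 1 * ξ x = -(H.index : ℂ)) ∧
      (∑ ξ ∈ Sf, ξ 1 * ξ 1 = (H.index : ℂ) * ((Nat.card H : ℂ) - 1)) := by
  classical
  have := Fintype.ofFinite (Cfsg.IrrCharacter L)
  set S := Cfsg.inducedIrrAbove H (⊥ : Subgroup L)
  have hS : ∀ χ : Cfsg.IrrCharacter L, (χ : L → ℂ) ∈ S ↔
      ¬ ∀ y ∈ H, (χ : L → ℂ) y = (χ : L → ℂ) 1 := fun χ => by
    show (χ : L → ℂ) ∈ Cfsg.inducedIrrAbove H ⊥ ↔ _
    rw [above_bot_eq hC]
    push Not
    exact ⟨fun h => h.2, fun h => ⟨χ.2, h⟩⟩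
  have hq := CharDegree.sum_sq_degree_of_le_ker (G := L) H
  have hd : ∀ χ : Cfsg.IrrCharacter L, conj ((χ : L → ℂ) 1) = (χ : L → ℂ) 1 := fun χ => by
    obtain ⟨d, -, hd⟩ := IsIrr.exists_degree χ.2
    rw [hd, map_natCast]
  have key : ∀ g : Cfsg.IrrCharacter L → ℂ,
      (∀ χ : Cfsg.IrrCharacter L, (∀ y ∈ H, (χ : L → ℂ) y = (χ : L → ℂ) 1) →
        g χ = (χ : L → ℂ) 1 ^ 2) →
      ∑ χ : Cfsg.IrrCharacter L, (if (χ : L → ℂ) ∈ S then g χ else 0) =
        (∑ χ, g χ) - (H.index : ℂ) := by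
    intro g hg
    rw [← hq, eq_sub_iff_add_eq, ← Finset.sum_add_distrib]
    refine Finset.sum_congr rfl fun χ _ => ?_
    by_cases hm : (χ : L → ℂ) ∈ S
    · rw [if_pos hm, if_neg ((hS χ).mp hm), add_zero]
    · have hk := not_not.mp (mt (hS χ).mpr hm)
      rw [if_neg hm, if_pos hk, zero_add, hg χ hk]
  refine ⟨?_, ?_, ?_⟩
  · rw [sum_wt_finset_aux (irr_of_mem hC) Sf hSf fun ξ => ξ x * conj (ξ x),
      key (fun χ => (χ : L → ℂ) x * conj ((χ : L → ℂ) x))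
        (fun χ hk => by rw [hk x hx, hd, sq]),
      column_orthogonality x x, if_pos (IsConj.refl x)]
  · rw [sum_wt_finset_aux (irr_of_mem hC) Sf hSf fun ξ => ξ 1 * ξ x,
      key (fun χ => (χ : L → ℂ) 1 * (χ : L → ℂ) x) (fun χ hk => by rw [hk x hx, sq])]
    have h := column_orthogonality x (1 : L)
    rw [if_neg (fun e => hx1 (by simpa [eq_comm] using e.symm))] at h
    rw [Finset.sum_congr rfl fun (χ : Cfsg.IrrCharacter L) _ => show (χ : L → ℂ) 1 * (χ : L → ℂ) x =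
      (χ : L → ℂ) x * conj ((χ : L → ℂ) 1) by rw [hd, mul_comm], h, zero_sub]
  · rw [sum_wt_finset_aux (irr_of_mem hC) Sf hSf fun ξ => ξ 1 * ξ 1,
      key (fun χ => (χ : L → ℂ) 1 * (χ : L → ℂ) 1) (fun χ _ => by rw [sq]),
      Finset.sum_congr rfl fun (χ : Cfsg.IrrCharacter L) _ => show (χ : L → ℂ) 1 * (χ : L → ℂ) 1 = (χ : L → ℂ) 1 ^ 2 by
        rw [sq], sum_sq_degree, ← H.card_mul_index, Nat.cast_mul]
    ring

end CfsgLib.Coh
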