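import Cfsg.Agent.Lib.Char.Coherence.FrobeniusTI
import Cfsg.Agent.Lib.Char.Coherence.Sibley

/-!
# Coherence for a self-centralising TI subgroup with a nilpotent kernel
-/

set_option autoImplicit false

namespace CfsgLib.Coh

open CfsgLib.Char

variable {G : Type*} [Group G] [Fintype G]

omit [Fintype G] in
/-- The index of the derived subgroup, transported along the inclusion in an overgroup. -/
theorem relIndex_commutator_subgroupOf {K N : Subgroup G} (hKN : K ≤ N) :
    ⁅K.subgroupOf N, K.subgroupOf N⁆.relIndex (K.subgroupOf N) = ⁅K, K⁆.relIndex K := by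
  have hc : ⁅K.subgroupOf N, K.subgroupOf N⁆.map N.subtype = ⁅K, K⁆ := by
    rw [Subgroup.map_commutator, Subgroup.map_subgroupOf_eq_of_le hKN]
  have hc' : ⁅K.subgroupOf N, K.subgroupOf N⁆ = ⁅K, K⁆.subgroupOf N := by
    rw [← hc]
    exact (Subgroup.comap_map_eq_self_of_injective N.subtype_injective _).symm
  rw [hc', Subgroup.relIndex_subgroupOf hKN]

omit [Fintype G] in
theorem commutator_subgroupOf_eq_bot_iff {K N : Subgroup G} (hKN : K ≤ N) :
    ⁅K.subgroupOf N, K.subgroupOf N⁆ = ⊥ ↔ ∀ a ∈ K, ∀ b ∈ K, a * b = b * a := by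
  rw [Subgroup.commutator_eq_bot_iff_le_centralizer]
  constructor
  · intro h a ha b hb
    have hh := Subgroup.mem_centralizer_iff.mp (h (show (⟨b, hKN hb⟩ : N) ∈ K.subgroupOf N from
      Subgroup.mem_subgroupOf.mpr hb)) ⟨a, hKN ha⟩ (Subgroup.mem_subgroupOf.mpr ha)
    exact congrArg Subtype.val hh
  · intro h x hx
    rw [Subgroup.mem_centralizer_iff]
    exact fun y hy => Subtype.ext
      (h _ (Subgroup.mem_subgroupOf.mp hy) _ (Subgroup.mem_subgroupOf.mp hx))

variable (K : Subgroup G) [Fintype ↥(Subgroup.normalizer (K : Set G))]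
  (hC : ∀ k ∈ K, k ≠ 1 → Subgroup.centralizer ({k} : Set G) ≤ K)

omit [Fintype G] [Fintype ↥(Subgroup.normalizer (K : Set G))] in
theorem tifnH_ne_bot (hK1 : K ≠ ⊥) : K.subgroupOf (Subgroup.normalizer (K : Set G)) ≠ ⊥ := by
  intro h
  rw [Subgroup.subgroupOf_eq_bot, disjoint_iff,
    inf_eq_left.mpr (Subgroup.le_normalizer : K ≤ _)] at h
  exact hK1 h

include hC

omit [Fintype G] in
theorem above_eq_tifnSet :
    Cfsg.inducedIrrAbove (K.subgroupOf (Subgroup.normalizer (K : Set G))) ⊥ =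
      Exceptional.tifnSet K := by
  rw [above_bot_eq (Exceptional.tifn_cent K hC)]
  rfl

omit [Fintype G] [Fintype ↥(Subgroup.normalizer (K : Set G))] in
theorem tifn_odd [Finite G] (hoddK : Odd (Nat.card K)) (hna : ¬ ∀ a ∈ K, ∀ b ∈ K, a * b = b * a) :
    Odd (Nat.card ↥(Subgroup.normalizer (K : Set G))) := by
  have hcard : Nat.card (K.subgroupOf (Subgroup.normalizer (K : Set G))) = Nat.card K :=
    Nat.card_congr (Subgroup.subgroupOfEquivOfLe Subgroup.le_normalizer).toEquiv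
  have hidx : Odd (K.subgroupOf (Subgroup.normalizer (K : Set G))).index := by
    rw [← Nat.not_even_iff_odd, even_iff_two_dvd]
    intro h
    have hc := kernel_comm_of_even (Exceptional.tifn_cent K hC) h
    refine hna fun a ha b hb => ?_
    have h2 := hc.is_comm.comm
      (⟨⟨a, Subgroup.le_normalizer ha⟩, Subgroup.mem_subgroupOf.mpr ha⟩ :
        K.subgroupOf (Subgroup.normalizer (K : Set G)))
      ⟨⟨b, Subgroup.le_normalizer hb⟩, Subgroup.mem_subgroupOf.mpr hb⟩
    exact congrArg (fun t : K.subgroupOf (Subgroup.normalizer (K : Set G)) => ((t : _) : G)) h2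
  rw [← Subgroup.card_mul_index (K.subgroupOf (Subgroup.normalizer (K : Set G))), hcard]
  exact hoddK.mul hidx

variable (hTI : ∀ g : G, g ∉ Subgroup.normalizer (K : Set G) → ∀ k ∈ K, g * k * g⁻¹ ∈ K → k = 1)

include hTI

/-- The abelian case. -/
theorem tifn_abelian (hK1 : K ≠ ⊥) (hab : ∀ a ∈ K, ∀ b ∈ K, a * b = b * a) :
    (Nat.card {χ : ↥(Subgroup.normalizer (K : Set G)) → ℂ //
        χ ∈ Exceptional.tifnSet K} = 1 ∧
      Nat.card K = (K.subgroupOf (Subgroup.normalizer (K : Set G))).index + 1 ∧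
      ∃ p : ℕ, p.Prime ∧ Cfsg.IsElementaryAbelian p K) ∨
    Cfsg.IsCoherent (Exceptional.tifnSet K) {1}ᶜ
      (Cfsg.indFun (Subgroup.normalizer (K : Set G))) := by
  obtain ⟨hiso, hiso1⟩ := Exceptional.tifn_isometry K hTI hC
  have hcomm : ∀ a b : K.subgroupOf (Subgroup.normalizer (K : Set G)), a * b = b * a := fun a b =>
    Subtype.ext (Subtype.ext
      (hab _ (Subgroup.mem_subgroupOf.mp a.2) _ (Subgroup.mem_subgroupOf.mp b.2)))
  have hsolv : Group.IsSolvable (K.subgroupOf (Subgroup.normalizer (K : Set G))) :=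
    Group.isSolvable_of_comm hcomm
  obtain ⟨χ₀, hχ₀, -⟩ := exists_min_member hsolv (A := ⊥)
    fun h => tifnH_ne_bot K hK1 (le_bot_iff.mp h)
  rw [above_eq_tifnSet K hC] at hχ₀
  by_cases hone : ∀ χ ∈ Exceptional.tifnSet K, χ = χ₀
  · obtain ⟨p, hp, hel, hcard⟩ := Exceptional.tifn_single hC hab hχ₀ hone
    refine Or.inl ⟨Nat.card_eq_one_iff_unique.mpr ⟨⟨fun a b => Subtype.ext ?_⟩, ⟨⟨χ₀, hχ₀⟩⟩⟩,
      hcard, p, hp, hel⟩
    exact (hone _ a.2).trans (hone _ b.2).symm
  · push Not at hone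
    obtain ⟨χ₁, hχ₁, hne⟩ := hone
    exact Or.inr (Exceptional.coherent_of_const_degree_irr (fun χ h => h.1)
      (fun φ hφ ψ hψ => by
        rw [Exceptional.tifn_abelian_degree hC hab hφ, Exceptional.tifn_abelian_degree hC hab hψ])
      ⟨χ₁, hχ₁, χ₀, hχ₀, hne⟩ hiso hiso1)

/-- The nonabelian case of odd order. -/
theorem tifn_nonabelian_odd (hK1 : K ≠ ⊥) (hnil : Group.IsNilpotent K) (hoddK : Odd (Nat.card K))
    (hna : ¬ ∀ a ∈ K, ∀ b ∈ K, a * b = b * a) :
    Cfsg.IsCoherent (Exceptional.tifnSet K) {1}ᶜ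
      (Cfsg.indFun (Subgroup.normalizer (K : Set G))) := by
  rw [← above_eq_tifnSet K hC]
  exact sibley K hTI hC hK1 hnil (tifn_odd K hC hoddK hna)

/-- The nonabelian case with a large abelianisation or a kernel of non prime power order. -/
theorem tifn_nonabelian_big (hK1 : K ≠ ⊥) (hnil : Group.IsNilpotent K)
    (hna : ¬ ∀ a ∈ K, ∀ b ∈ K, a * b = b * a)
    (hbig : (¬ ∃ p m : ℕ, p.Prime ∧ Nat.card K = p ^ m) ∨
      4 * (K.subgroupOf (Subgroup.normalizer (K : Set G))).index ^ 2 + 1 < ⁅K, K⁆.relIndex K) :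
    Cfsg.IsCoherent (Exceptional.tifnSet K) {1}ᶜ
      (Cfsg.indFun (Subgroup.normalizer (K : Set G))) := by
  obtain ⟨hiso, hiso1⟩ := Exceptional.tifn_isometry K hTI hC
  have heq := above_eq_tifnSet K hC
  rw [← heq] at hiso hiso1 ⊢
  have hle : K ≤ Subgroup.normalizer (K : Set G) := Subgroup.le_normalizer
  refine frob_coherent (Exceptional.tifn_cent K hC) hiso hiso1 (tifnH_ne_bot K hK1)
    (Group.nilpotent_of_mulEquiv (Subgroup.subgroupOfEquivOfLe hle).symm)
    (fun h => hna ((commutator_subgroupOf_eq_bot_iff hle).mp h)) ?_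
  rw [relIndex_commutator_subgroupOf hle, Nat.card_congr (Subgroup.subgroupOfEquivOfLe hle).toEquiv]
  exact hbig

end CfsgLib.Coh
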