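import Cfsg.Agent.Lib.Char.Coherence.InducedSets
import Cfsg.Agent.Lib.CharDegree.Restriction
import Mathlib.GroupTheory.Nilpotent

/-!
# Descending coherence along central and nilpotent sections
-/

set_option autoImplicit false

namespace CfsgLib.Coh

open CfsgLib.Char

/-- The squared degree of a character is at most the index of a subgroup central modulo the
kernel. -/
theorem sq_charDegree_le_index {Q : Type*} [Group Q] [Finite Q] (χ : Cfsg.IrrCharacter Q)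
    (N D : Subgroup Q) [N.Normal] (hker : ∀ g ∈ N, (χ : Q → ℂ) g = (χ : Q → ℂ) 1) (hND : N ≤ D)
    (hc : ∀ d ∈ D, ∀ g : Q, d * g * d⁻¹ * g⁻¹ ∈ N) :
    Cfsg.charDegree (χ : Q → ℂ) ^ 2 ≤ D.index := by
  obtain ⟨ψ, rfl⟩ := CharDegree.exists_infl N χ hker
  rw [CharDegree.charDegree_infl]
  have hcen : D.map (QuotientGroup.mk' N) ≤ Subgroup.center (Q ⧸ N) := by
    rintro _ ⟨d, hd, rfl⟩
    refine Subgroup.mem_center_iff.mpr fun q => ?_
    obtain ⟨g, rfl⟩ := QuotientGroup.mk_surjective q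
    have h : ((d * g * d⁻¹ * g⁻¹ : Q) : Q ⧸ N) = 1 := (QuotientGroup.eq_one_iff _).mpr (hc d hd g)
    simp only [QuotientGroup.mk_mul, QuotientGroup.mk_inv] at h
    rw [QuotientGroup.mk'_apply]
    exact (mul_inv_eq_iff_eq_mul.mp (mul_inv_eq_one.mp h)).symm
  have h := CharDegree.sq_charDegree_mul_card_le ψ _ hcen
  have hidx : (D.map (QuotientGroup.mk' N)).index = D.index := by
    rw [Subgroup.index_map, QuotientGroup.ker_mk', sup_eq_left.mpr hND,
      MonoidHom.range_eq_top.mpr (QuotientGroup.mk'_surjective N), Subgroup.index_top, mul_one]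
  rw [← (D.map (QuotientGroup.mk' N)).index_mul_card, hidx] at h
  exact Nat.le_of_mul_le_mul_right h Nat.card_pos

variable {L : Type*} [Group L] [Fintype L]

/-- Degree bound for characters with `B` in the kernel, when `D / B` is central in `C / B`. -/
theorem sq_degree_le {K : Subgroup L} (B C D : Subgroup L) [B.Normal] (hBD : B ≤ D)
    (hCK : C ≤ K) (hcent : ∀ x ∈ D, ∀ y ∈ C, x * y * x⁻¹ * y⁻¹ ∈ B) {θ : K → ℂ}
    (hθ : Cfsg.IsIrrCharacter K θ) (hker : ∀ a : K, (a : L) ∈ B → θ a = θ 1) {d : ℕ}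
    (hd : θ 1 = d) : d ^ 2 ≤ C.relIndex K ^ 2 * D.relIndex C := by
  classical
  obtain ⟨φ, hφ, hle, hkφ⟩ := Exceptional.exists_constituent_with_ker hθ (C.subgroupOf K)
  obtain ⟨f, -, hf⟩ := IsIrr.exists_degree hφ
  rw [hd, hf, Complex.natCast_re, Complex.natCast_re] at hle
  have hle' : d ≤ C.relIndex K * f := Nat.cast_le (α := ℝ).mp (by push_cast; exact hle)
  have h2 : f ^ 2 ≤ D.relIndex C := by
    rw [← CharDegree.charDegree_eq_of_apply_one hf, ← Subgroup.relIndex_subgroupOf hCK]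
    exact sq_charDegree_le_index ⟨φ, hφ⟩ ((B.subgroupOf K).subgroupOf (C.subgroupOf K)) _
      (fun g hg => hkφ g (hker _ hg)) (fun g hg => hBD hg) fun x hx g => hcent _ hx _ g.2
  calc d ^ 2 ≤ (C.relIndex K * f) ^ 2 := Nat.pow_le_pow_left hle' 2
    _ = C.relIndex K ^ 2 * f ^ 2 := mul_pow _ _ 2
    _ ≤ _ := Nat.mul_le_mul_left _ h2

variable {G : Type*} [Group G] [Fintype G] {K : Subgroup L} [hK : K.Normal]
  {τ : (L → ℂ) → (G → ℂ)} {cl : (L → ℂ) → (L → ℂ)}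

/-- Coherence of `S(A)` extends to `S(A) ∪ S(B)` when the degrees in `S(B)` are small. -/
theorem step_bound (hSet : Setting (Cfsg.inducedIrrAbove K ⊥) τ cl)
    (hcl : ∀ X : Subgroup L, Closed cl (Cfsg.inducedIrrAbove K X)) (hsolv : Group.IsSolvable K)
    {A B : Subgroup L} [A.Normal] (hAK : ¬ K ≤ A)
    (hA : Cfsg.IsCoherent (Cfsg.inducedIrrAbove K A) {1}ᶜ τ)
    (hdeg : ∀ θ : K → ℂ, Cfsg.IsIrrCharacter K θ → (∀ a : K, (a : L) ∈ B → θ a = θ 1) →
      ∀ d : ℕ, θ 1 = d → 2 * K.index * d < A.relIndex K - 1) :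
    Cfsg.IsCoherent (Cfsg.inducedIrrAbove K A ∪ Cfsg.inducedIrrAbove K B) {1}ᶜ τ := by
  obtain ⟨χ₁, hχ₁, h1⟩ := exists_min_member hsolv hAK
  refine hSet.insert_all (inducedIrrAbove_subset A) (inducedIrrAbove_subset B) (hcl A) (hcl B) hA
    hχ₁ ((K.index : ℝ) * ((A.relIndex K : ℝ) - 1)) (fun {_} => (sum_wt A).ge) fun χ hχ _ => ?_
  obtain ⟨θ, hθ, -, hker, rfl⟩ := hχ
  obtain ⟨d, -, hd⟩ := IsIrr.exists_degree hθ
  refine ⟨⟨d, by rw [indFun_apply_one, hd, h1, mul_comm]⟩, ?_⟩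
  have h := hdeg θ hθ hker d hd
  have h' : ((2 * K.index * d + 1 : ℕ) : ℝ) < ((A.relIndex K : ℕ) : ℝ) :=
    Nat.cast_lt.mpr (by omega)
  push_cast at h'
  have he : (0 : ℝ) < K.index := Nat.cast_pos.mpr (Nat.pos_of_ne_zero Subgroup.index_ne_zero_of_finite)
  rw [indFun_apply_one, hd, h1]
  simp only [Complex.mul_re, Complex.natCast_re, Complex.natCast_im, mul_zero, sub_zero]
  nlinarith

/-- Coherence of `S(A)` extends to `S(A) ∪ S(B)` along a central section `B ≤ D ≤ C`. -/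
theorem step_central (hSet : Setting (Cfsg.inducedIrrAbove K ⊥) τ cl)
    (hcl : ∀ X : Subgroup L, Closed cl (Cfsg.inducedIrrAbove K X)) (hsolv : Group.IsSolvable K)
    {A B C D : Subgroup L} [A.Normal] [B.Normal] (hAK : ¬ K ≤ A) (hBD : B ≤ D)
    (hCK : C ≤ K) (hcent : ∀ x ∈ D, ∀ y ∈ C, x * y * x⁻¹ * y⁻¹ ∈ B)
    (hA : Cfsg.IsCoherent (Cfsg.inducedIrrAbove K A) {1}ᶜ τ)
    (hlt : 4 * C.index ^ 2 * D.relIndex C < (A.relIndex K - 1) ^ 2) :
    Cfsg.IsCoherent (Cfsg.inducedIrrAbove K A ∪ Cfsg.inducedIrrAbove K B) {1}ᶜ τ := by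
  refine step_bound hSet hcl hsolv hAK hA fun θ hθ hker d hd => ?_
  refine lt_of_pow_lt_pow_left' 2 (lt_of_le_of_lt ?_ hlt)
  calc (2 * K.index * d) ^ 2 = 4 * K.index ^ 2 * d ^ 2 := by ring
    _ ≤ 4 * K.index ^ 2 * (C.relIndex K ^ 2 * D.relIndex C) :=
      Nat.mul_le_mul_left _ (sq_degree_le B C D hBD hCK hcent hθ hker hd)
    _ = 4 * (C.relIndex K * K.index) ^ 2 * D.relIndex C := by ring
    _ = _ := by rw [Subgroup.relIndex_mul_index hCK]

omit [Fintype L] hK in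
/-- In a nilpotent section, a subgroup inside its own commutator modulo `B` lies in `B`. -/
theorem le_of_le_commutator_sup {A B M H : Subgroup L} [B.Normal] [(M.subgroupOf H).Normal]
    (hnil : Group.IsNilpotent (↥H ⧸ M.subgroupOf H)) (hMB : M ≤ B) (hAH : A ≤ H)
    (h : A ≤ ⁅A, H⁆ ⊔ B) : A ≤ B := by
  obtain ⟨n, hn⟩ := Subgroup.nilpotent_iff_lowerCentralSeries.mp hnil
  have hstep : ∀ i, A ≤ H.lowerCentralSeries i ⊔ B := by
    intro i
    induction i with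
    | zero => exact hAH.trans le_sup_left
    | succ i ih =>
      refine h.trans (sup_le ((Subgroup.commutator_mono ih le_rfl).trans ?_) le_sup_right)
      have hB : B.map (QuotientGroup.mk' B) = ⊥ := by
        rw [Subgroup.map_eq_bot_iff, QuotientGroup.ker_mk']
      have hle := Subgroup.le_comap_map (QuotientGroup.mk' B) ⁅H.lowerCentralSeries i ⊔ B, H⁆
      rwa [Subgroup.map_commutator, Subgroup.map_sup, hB, sup_bot_eq, ← Subgroup.map_commutator,
        Subgroup.comap_map_eq, QuotientGroup.ker_mk', ← Subgroup.lowerCentralSeries_succ] at hle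
  refine (hstep n).trans (sup_le ?_ le_rfl)
  rw [← Subgroup.top_subtype_lowerCentralSeries]
  rintro _ ⟨x, hx, rfl⟩
  refine hMB ?_
  have hx' := Subgroup.mem_map_of_mem (QuotientGroup.mk' (M.subgroupOf H)) hx
  rw [Subgroup.map_lowerCentralSeries, Subgroup.map_top_of_surjective _
    (QuotientGroup.mk'_surjective _), hn, Subgroup.mem_bot, QuotientGroup.mk'_apply,
    QuotientGroup.eq_one_iff] at hx'
  exact hx'

/-- Descent of coherence through a nilpotent section with a large index. -/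
theorem step_nilpotent (hSet : Setting (Cfsg.inducedIrrAbove K ⊥) τ cl)
    (hcl : ∀ X : Subgroup L, Closed cl (Cfsg.inducedIrrAbove K X)) (hsolv : Group.IsSolvable K)
    {M H₁ H : Subgroup L} [hMn : M.Normal] [hH₁n : H₁.Normal] [H.Normal] [(M.subgroupOf H).Normal]
    (hMH₁ : M ≤ H₁) (hH₁H : H₁ ≤ H) (hHK : H ≤ K)
    (hnil : Group.IsNilpotent (↥H ⧸ M.subgroupOf H))
    (hcoh : Cfsg.IsCoherent (Cfsg.inducedIrrAbove K H₁) {1}ᶜ τ)
    (hbig : 4 * K.index ^ 2 + 1 < H₁.relIndex H) :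
    Cfsg.IsCoherent (Cfsg.inducedIrrAbove K M) {1}ᶜ τ := by
  classical
  set P : Subgroup L → Prop := fun A => A.Normal ∧ M ≤ A ∧ A ≤ H₁ ∧
    Cfsg.IsCoherent (Cfsg.inducedIrrAbove K A) {1}ᶜ τ
  obtain ⟨A, hA⟩ := Set.Finite.exists_minimal (s := {A | P A}) (Set.toFinite _)
    ⟨H₁, hH₁n, hMH₁, le_rfl, hcoh⟩
  obtain ⟨hAn, hMA, hAH₁, hAcoh⟩ := hA.1
  rcases hMA.eq_or_lt with hMA' | hMA'
  · rwa [hMA']
  exfalso
  obtain ⟨B, hB⟩ := Set.Finite.exists_maximal (s := {B : Subgroup L | B.Normal ∧ M ≤ B ∧ B < A})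
    (Set.toFinite _) ⟨M, hMn, le_rfl, hMA'⟩
  obtain ⟨hBn, hMB, hBA⟩ := hB.1
  have hcomm : ⁅A, H⁆ ≤ B := by
    by_contra hne
    have hlt : B < ⁅A, H⁆ ⊔ B := right_lt_sup.mpr hne
    have hle : ⁅A, H⁆ ⊔ B ≤ A := sup_le (Subgroup.commutator_le_left A H) hBA.le
    rcases hle.eq_or_lt with he | he
    · exact hBA.not_ge (le_of_le_commutator_sup hnil hMB (hAH₁.trans hH₁H) he.ge)
    · exact hlt.not_ge (hB.2 (y := ⁅A, H⁆ ⊔ B) ⟨inferInstance, hMB.trans hlt.le, he⟩ hlt.le)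
  have hHA : H₁.relIndex H ≤ A.relIndex H :=
    Nat.le_of_dvd (Nat.pos_of_ne_zero Subgroup.index_ne_zero_of_finite)
      (Dvd.intro_left _ (Subgroup.relIndex_mul_relIndex A H₁ H hAH₁ hH₁H))
  have hnot : ¬ K ≤ A := fun h => by
    rw [Subgroup.relIndex_eq_one.mpr (hHK.trans h)] at hHA
    omega
  have hco := step_central hSet hcl hsolv hnot hBA.le hHK
    (fun x hx y hy => hcomm (Subgroup.commutator_mem_commutator hx hy)) hAcoh ?_
  · rw [Set.union_eq_right.mpr (inducedIrrAbove_antitone hBA.le)] at hco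
    exact hBA.not_ge (hA.2 (y := B) ⟨hBn, hMB, hBA.le.trans hAH₁, hco⟩ hBA.le)
  · rw [← Subgroup.relIndex_mul_index hHK,
      ← Subgroup.relIndex_mul_relIndex A H K (hAH₁.trans hH₁H) hHK]
    have hk : 0 < H.relIndex K := Nat.pos_of_ne_zero Subgroup.index_ne_zero_of_finite
    revert hk hHA hbig
    generalize A.relIndex H = h
    generalize H.relIndex K = k
    generalize K.index = e
    intro hHA hbig hk
    have h4 : 4 * e ^ 2 + 2 ≤ h := by omega
    obtain ⟨c, hc⟩ : ∃ c, h * k = c + 1 := ⟨h * k - 1, by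
      have : 0 < h * k := Nat.mul_pos (by omega) hk
      omega⟩
    rw [hc, Nat.add_sub_cancel]
    nlinarith [Nat.mul_le_mul_left (k ^ 2 * h) h4, Nat.mul_le_mul_left (h * k) (Nat.succ_le_of_lt hk)]

/-- Coherence of `S(A) ∪ S(B)` passes to `S(B)` for a coherence system. -/
theorem isCoherent_sub_of_system {R : (L → ℂ) → Finset (G → ℂ)}
    (hS : Cfsg.IsCoherenceSystem (Cfsg.inducedIrrAbove K ⊥) τ R) (hsolv : Group.IsSolvable K)
    {B : Subgroup L} [B.Normal] (hB : ¬ K ≤ B) {T : Set (L → ℂ)}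
    (hT : Cfsg.inducedIrrAbove K B ⊆ T) (hcoh : Cfsg.IsCoherent T {1}ᶜ τ) :
    Cfsg.IsCoherent (Cfsg.inducedIrrAbove K B) {1}ᶜ τ := by
  obtain ⟨χ, hχ, h1⟩ := exists_min_member hsolv hB
  exact isCoherent_mono hT hcoh hχ (closed_conj B χ hχ)
    (hS.conj_ne χ (inducedIrrAbove_subset B hχ)).symm (by simp [Cfsg.conjFun, h1])

end CfsgLib.Coh
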