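import Cfsg.Agent.Lib.Char.Coherence.PGroup
import Cfsg.Agent.Lib.Char.Exceptional.FrobeniusKernel
import Cfsg.Agent.Lib.Char.Exceptional.Coherence2

/-!
# Frobenius kernels: factors, degrees, induced characters
-/

set_option autoImplicit false

namespace CfsgLib.Coh

open CfsgLib.Char

section Group

variable {L : Type*} [Group L] [Finite L] {H : Subgroup L}

omit [Finite L] in
theorem frob_commute_eq_one (hC : ∀ n ∈ H, n ≠ 1 → Subgroup.centralizer ({n} : Set L) ≤ H) {k x : L}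
    (hk : k ∈ H) (hx : x ∉ H) (h : x * k * x⁻¹ = k) : k = 1 := by
  by_contra hne
  exact hx (hC k hk hne (Subgroup.mem_centralizer_singleton_iff.mpr (mul_inv_eq_iff_eq_mul.mp h)))

/-- Fixed-point-freeness modulo any invariant subgroup of the kernel. -/
theorem frob_quot (hC : ∀ n ∈ H, n ≠ 1 → Subgroup.centralizer ({n} : Set L) ≤ H)
    (A : Subgroup L) [hA : A.Normal] (hAH : A ≤ H) :
    ∀ k ∈ H, k ∉ A → ∀ x : L, x * k * x⁻¹ * k⁻¹ ∈ A → x ∈ H := by
  intro k hk hkA x hx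
  by_contra hxH
  let F : A → A := fun a => ⟨x * a * x⁻¹ * (a : L)⁻¹, mul_mem (hA.conj_mem _ a.2 x) (inv_mem a.2)⟩
  have key : ∀ a b : L, a ∈ H → b ∈ H → x * a * x⁻¹ * a⁻¹ = x * b * x⁻¹ * b⁻¹ → a = b := by
    intro a b ha hb h
    have h1 : x * (b⁻¹ * a) * x⁻¹ = b⁻¹ * a := by
      calc x * (b⁻¹ * a) * x⁻¹ = (x * b * x⁻¹)⁻¹ * (x * a * x⁻¹ * a⁻¹) * a := by group
        _ = (x * b * x⁻¹)⁻¹ * (x * b * x⁻¹ * b⁻¹) * a := by rw [h]
        _ = b⁻¹ * a := by group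
    exact (inv_mul_eq_one.mp
      (frob_commute_eq_one hC (mul_mem (inv_mem hb) ha) hxH h1)).symm
  have hinj : Function.Injective F := fun a b h =>
    Subtype.ext (key a b (hAH a.2) (hAH b.2) (congrArg Subtype.val h))
  obtain ⟨a, ha⟩ := (Finite.injective_iff_surjective.mp hinj) ⟨_, hx⟩
  exact hkA (key a k (hAH a.2) hk (congrArg Subtype.val ha) ▸ a.2)

theorem index_dvd_card_sub_one [H.Normal]
    (hC : ∀ n ∈ H, n ≠ 1 → Subgroup.centralizer ({n} : Set L) ≤ H) :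
    H.index ∣ Nat.card H - 1 := by
  have hcard : ({b : L | b ∈ H ∧ b ≠ 1}).ncard = Nat.card H - 1 := by
    rw [← SetLike.coe_sort_coe, Nat.card_coe_set_eq,
      ← Set.ncard_sdiff_singleton_of_mem (Subgroup.one_mem H)]
    rfl
  rw [← hcard]
  exact dvd_ncard _ _ (fun b hb g => ⟨Subgroup.Normal.conj_mem inferInstance b hb.1 g,
    fun h => hb.2 (by simpa using h)⟩) fun b hb => Subgroup.index_dvd_of_le (hC b hb.1 hb.2)

theorem coprime_index_card [H.Normal]
    (hC : ∀ n ∈ H, n ≠ 1 → Subgroup.centralizer ({n} : Set L) ≤ H) :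
    Nat.Coprime H.index (Nat.card H) := by
  refine Nat.Coprime.coprime_dvd_left (index_dvd_card_sub_one hC) ?_
  have h : 1 ≤ Nat.card H := Nat.card_pos
  rw [Nat.coprime_comm, Nat.coprime_self_sub_right h]
  exact Nat.coprime_one_right _

/-- A central normal subgroup inside the derived subgroup of a nonabelian nilpotent kernel. -/
theorem exists_central [hH : H.Normal] (hnil : Group.IsNilpotent H) (hne : ⁅H, H⁆ ≠ ⊥) :
    ∃ Z : Subgroup L, Z.Normal ∧ Z ≠ ⊥ ∧ Z ≤ ⁅H, H⁆ ∧ ∀ z ∈ Z, ∀ k ∈ H, z * k = k * z := by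
  classical
  have hex := Subgroup.isNilpotent_iff_lowerCentralSeries (S := H) |>.mp hnil
  have hn : ∀ i, (H.lowerCentralSeries i).Normal := by
    intro i
    induction i with
    | zero => exact hH
    | succ i ih => rw [Subgroup.lowerCentralSeries_succ]; infer_instance
  have h1 : H.lowerCentralSeries 1 = ⁅H, H⁆ := rfl
  have hge : 2 ≤ Nat.find hex := by
    rw [Nat.le_find_iff]
    intro m hm h
    refine hne ?_
    rw [← h1, eq_bot_iff, ← h]
    exact Subgroup.lowerCentralSeries_antitone H (by omega)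
  refine ⟨H.lowerCentralSeries (Nat.find hex - 1), hn _, fun h => ?_, ?_, fun z hz k hk => ?_⟩
  · exact absurd (Nat.find_min' hex h) (by omega)
  · rw [← h1]
    exact Subgroup.lowerCentralSeries_antitone H (by omega)
  · have hmem := Subgroup.commutator_mem_commutator hz hk
    rw [← Subgroup.lowerCentralSeries_succ, Nat.sub_add_cancel (by omega : 1 ≤ Nat.find hex),
      Nat.find_spec hex, Subgroup.mem_bot] at hmem
    exact commutatorElement_eq_one_iff_mul_comm.mp hmem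

end Group

section Char

variable {L : Type*} [Group L] [Fintype L] {H : Subgroup L} [hH : H.Normal]

theorem irr_of_mem (hC : ∀ n ∈ H, n ≠ 1 → Subgroup.centralizer ({n} : Set L) ≤ H) :
    ∀ φ ∈ Cfsg.inducedIrrAbove H ⊥, Cfsg.IsIrrCharacter L φ := by
  rintro _ ⟨θ, hθ, h1, -, rfl⟩
  exact Exceptional.frob_isIrr_indFun H hC hθ h1

theorem above_bot_eq (hC : ∀ n ∈ H, n ≠ 1 → Subgroup.centralizer ({n} : Set L) ≤ H) :
    Cfsg.inducedIrrAbove H ⊥ = {χ | Cfsg.IsIrrCharacter L χ ∧ ∃ h ∈ H, χ h ≠ χ 1} := by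
  classical
  ext χ
  refine ⟨fun hm => ⟨irr_of_mem hC χ hm, ?_⟩, fun ⟨hχ, hker⟩ => ?_⟩
  · obtain ⟨θ, hθ, h1, -, rfl⟩ := hm
    by_contra hno
    push Not at hno
    have hk := (Exceptional.ker_iff_indFun H H le_rfl (IsIrr.isCharacter hθ)).mpr hno
    refine h1 (funext fun a => ?_)
    have := Fintype.ofFinite H
    have hs := Exceptional.classInner_self_of_irr hθ
    obtain ⟨d, hd0, hd⟩ := IsIrr.exists_degree hθ
    rw [Cfsg.classInner, Finset.sum_congr rfl (g := fun _ => ((d : ℂ) * d)) fun b _ => by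
      rw [hk b b.2, hd, map_natCast], Finset.sum_const, Finset.card_univ, ← Nat.card_eq_fintype_card,
      nsmul_eq_mul, ← mul_assoc, inv_mul_cancel₀ (Nat.cast_ne_zero.mpr Nat.card_pos.ne'),
      one_mul] at hs
    have hd1 : d = 1 := Nat.eq_one_of_mul_eq_one_right (m := d) (by exact_mod_cast hs)
    rw [hk a a.2, hd, hd1, Nat.cast_one]
  · obtain ⟨θ, hθ, h1, rfl⟩ := Exceptional.frob_eq_indFun H hC hχ hker
    exact ⟨θ, hθ, h1, fun a ha => by rw [show a = 1 from Subtype.ext (Subgroup.mem_bot.mp ha)], rfl⟩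

theorem conj_ne_of_odd (hC : ∀ n ∈ H, n ≠ 1 → Subgroup.centralizer ({n} : Set L) ≤ H)
    (hodd : Odd (Nat.card L)) : ∀ φ ∈ Cfsg.inducedIrrAbove H ⊥, Cfsg.conjFun φ ≠ φ := by
  classical
  intro φ hφ e
  have hirr := irr_of_mem hC φ hφ
  obtain ⟨θ, hθ, h1, -, rfl⟩ := hφ
  have := Fintype.ofFinite H
  have h := Clifford.classInner_conj_indFun_eq_zero hH hodd hθ h1
  rw [show (fun g => (starRingEnd ℂ) (Cfsg.indFun H θ g)) = Cfsg.indFun H θ from e,
    Exceptional.classInner_self_of_irr hirr] at h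
  exact one_ne_zero h

variable {G : Type*} [Group G] [Fintype G] {τ : (L → ℂ) → (G → ℂ)}

theorem exists_system (hC : ∀ n ∈ H, n ≠ 1 → Subgroup.centralizer ({n} : Set L) ≤ H)
    (hodd : Odd (Nat.card L)) (hsolv : Group.IsSolvable H) (hH1 : H ≠ ⊥)
    (hτ : Cfsg.IsLinearIsometryOn (Cfsg.zspanOn (Cfsg.inducedIrrAbove H ⊥) ({1}ᶜ : Set L)) τ)
    (hτ1 : ∀ α ∈ Cfsg.zspanOn (Cfsg.inducedIrrAbove H ⊥) ({1}ᶜ : Set L), τ α 1 = 0) :
    ∃ R : (L → ℂ) → Finset (G → ℂ), Cfsg.IsCoherenceSystem (Cfsg.inducedIrrAbove H ⊥) τ R := by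
  obtain ⟨χ, hχ, -⟩ := exists_min_member hsolv (A := (⊥ : Subgroup L)) (fun h => hH1 (le_bot_iff.mp h))
  exact Exceptional.coherenceSystem_of_irr ⟨χ, hχ⟩ (irr_of_mem hC)
    (fun φ hφ => ⟨closed_conj ⊥ φ hφ, conj_ne_of_odd hC hodd φ hφ⟩) hτ hτ1

end Char

end CfsgLib.Coh

namespace CfsgLib.Coh

/-- Centralisers of kernel elements in a Frobenius group given by a complement. -/
theorem centralizer_le_of_complement {G : Type*} [Group G] [Finite G] (H W : Subgroup G)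
    (hWN : W ≤ Subgroup.normalizer (H : Set G))
    (hfpf : ∀ w ∈ W, w ≠ 1 → ∀ h ∈ H, w * h = h * w → h = 1) {h x : G} (hh : h ∈ H) (hh1 : h ≠ 1)
    (hx : x ∈ H ⊔ W) (hxh : x * h = h * x) : x ∈ H := by
  rw [← SetLike.mem_coe, Subgroup.coe_mul_of_right_le_normalizer_left H W hWN, Set.mem_mul] at hx
  obtain ⟨a, ha, w, hw, rfl⟩ := hx
  by_contra hxH
  have hw1 : w ≠ 1 := fun e => hxH (by rw [e, mul_one]; exact ha)
  have hconj : ∀ u ∈ H, w * u * w⁻¹ ∈ H := fun u hu =>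
    (Subgroup.mem_normalizer_iff.mp (hWN hw) u).mp hu
  let F : H → H := fun u => ⟨u * (w * (u : G)⁻¹ * w⁻¹), mul_mem u.2 (hconj _ (inv_mem u.2))⟩
  have hinj : Function.Injective F := by
    intro u v e
    have e' : (u : G) * (w * (u : G)⁻¹ * w⁻¹) = v * (w * (v : G)⁻¹ * w⁻¹) := congrArg Subtype.val e
    have hc : w * ((v : G)⁻¹ * u) = (v : G)⁻¹ * u * w := by
      calc w * ((v : G)⁻¹ * u)
          = (v : G)⁻¹ * (v * (w * (v : G)⁻¹ * w⁻¹)) * w * u := by group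
        _ = (v : G)⁻¹ * (u * (w * (u : G)⁻¹ * w⁻¹)) * w * u := by rw [e']
        _ = (v : G)⁻¹ * u * w := by group
    exact Subtype.ext (inv_mul_eq_one.mp (hfpf w hw hw1 _ (mul_mem (inv_mem v.2) u.2) hc)).symm
  obtain ⟨u, hu⟩ := (Finite.injective_iff_surjective.mp hinj) ⟨a, ha⟩
  have ha' : (u : G) * (w * (u : G)⁻¹ * w⁻¹) = a := congrArg Subtype.val hu
  have hc : w * ((u : G)⁻¹ * h * u) = (u : G)⁻¹ * h * u * w := by
    calc w * ((u : G)⁻¹ * h * u) = (u : G)⁻¹ * ((u * (w * (u : G)⁻¹ * w⁻¹) * w) * h) * u := by group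
      _ = (u : G)⁻¹ * (h * (u * (w * (u : G)⁻¹ * w⁻¹) * w)) * u := by rw [ha', hxh]
      _ = (u : G)⁻¹ * h * u * w := by group
  have := hfpf w hw hw1 _ (mul_mem (mul_mem (inv_mem u.2) hh) u.2) hc
  exact hh1 (conj_eq_one_iff.mp (by simpa [mul_assoc] using this : (u : G)⁻¹ * h * (u : G)⁻¹⁻¹ = 1))

/-- A TI subgroup with self-centralising elements inside its normaliser is self-centralising. -/
theorem centralizer_le_of_ti {G : Type*} [Group G] (K : Subgroup G)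
    (hTI : ∀ g : G, g ∉ Subgroup.normalizer (K : Set G) → ∀ k ∈ K, g * k * g⁻¹ ∈ K → k = 1)
    (hN : ∀ k ∈ K, k ≠ 1 → ∀ x ∈ Subgroup.normalizer (K : Set G), x * k = k * x → x ∈ K) :
    ∀ k ∈ K, k ≠ 1 → Subgroup.centralizer ({k} : Set G) ≤ K := by
  intro k hk hk1 x hx
  have hc : x * k = k * x := Subgroup.mem_centralizer_singleton_iff.mp hx
  refine hN k hk hk1 x ?_ hc
  by_contra hn
  exact hk1 (hTI x hn k hk (by rw [hc, mul_inv_cancel_right]; exact hk))

end CfsgLib.Coh
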