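import Cfsg.Agent.Lib.Char.Coherence.Setting
import Cfsg.Agent.Lib.Char.CliffordCorr
import Cfsg.Agent.Lib.Char.Exceptional.NormalInd
import Mathlib.GroupTheory.Solvable

/-!
# The sets `S(A)` of characters induced from a normal subgroup

Degrees, conjugation, and the weighted sum `∑ φ(1)²/⟨φ,φ⟩ = [L:K] ([K:A] - 1)`.
-/

set_option autoImplicit false

open scoped ComplexConjugate

namespace CfsgLib.Coh

open CfsgLib.Char CfsgLib.Clifford

variable {L : Type*} [Group L] [Fintype L] {K : Subgroup L}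

theorem inducedIrrAbove_antitone {A B : Subgroup L} (h : A ≤ B) :
    Cfsg.inducedIrrAbove K B ⊆ Cfsg.inducedIrrAbove K A := by
  rintro φ ⟨θ, hθ, h1, hker, rfl⟩
  exact ⟨θ, hθ, h1, fun a ha => hker a (h ha), rfl⟩

theorem inducedIrrAbove_subset (A : Subgroup L) :
    Cfsg.inducedIrrAbove K A ⊆ Cfsg.inducedIrrAbove K ⊥ := inducedIrrAbove_antitone bot_le

theorem isCharacter_of_mem {A : Subgroup L} {φ : L → ℂ} (h : φ ∈ Cfsg.inducedIrrAbove K A) :
    Cfsg.IsCharacter L φ := by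
  obtain ⟨θ, hθ, -, -, rfl⟩ := h
  exact isCharacter_indFun K (IsIrr.isCharacter hθ)

theorem exists_degree_of_mem {A : Subgroup L} {φ : L → ℂ} (h : φ ∈ Cfsg.inducedIrrAbove K A) :
    ∃ d : ℕ, 0 < d ∧ φ 1 = (K.index : ℂ) * (d : ℂ) := by
  obtain ⟨θ, hθ, -, -, rfl⟩ := h
  obtain ⟨d, hd, hd'⟩ := IsIrr.exists_degree hθ
  exact ⟨d, hd, by rw [indFun_apply_one, hd']⟩

theorem conjFun_indFun (θ : K → ℂ) :
    Cfsg.conjFun (Cfsg.indFun K θ) = Cfsg.indFun K fun k => conj (θ k) := by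
  classical
  funext g
  simp only [Cfsg.conjFun, Cfsg.indFun, map_mul, map_inv₀, map_natCast, map_sum]
  refine congrArg _ (Finset.sum_congr rfl fun x _ => ?_)
  by_cases hx : x⁻¹ * g * x ∈ K
  · rw [extendByZero_of_mem K _ hx, extendByZero_of_mem K _ hx]
  · rw [extendByZero_of_notMem K _ hx, extendByZero_of_notMem K _ hx, map_zero]

theorem closed_conj (A : Subgroup L) : Closed Cfsg.conjFun (Cfsg.inducedIrrAbove K A) := by
  rintro _ ⟨θ, hθ, h1, hker, rfl⟩
  refine ⟨fun k => conj (θ k), IsIrr.conj hθ, fun h => h1 (funext fun k => ?_),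
    fun a ha => show conj (θ a) = conj (θ 1) by rw [hker a ha], conjFun_indFun θ⟩
  have := congrArg conj (congrFun h k)
  simpa using this

omit [Group L] [Fintype L] in
theorem closed_id (T : Set (L → ℂ)) : Closed id T := fun _ h => h

variable [hK : K.Normal]

theorem exists_conjFn_eq {θ θ' : K → ℂ} (hθ : Cfsg.IsIrrCharacter K θ)
    (hθ' : Cfsg.IsIrrCharacter K θ') (h : Cfsg.indFun K θ = Cfsg.indFun K θ') :
    ∃ g : L, conjFn hK θ g = θ' := by
  classical
  by_contra hne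
  push Not at hne
  have h1 := classInner_indFun_indFun hK (θ := θ') (φ := θ)
  rw [Finset.sum_eq_zero fun g _ => ?_, h] at h1
  · have h2 := card_mul_classInner_indFun hK hθ'
    rw [h1] at h2
    have : Nonempty {g : L // conjFn hK θ' g = θ'} := ⟨⟨1, conjFn_one hK θ'⟩⟩
    exact Nat.cast_ne_zero.mpr (Nat.card_pos (α := {g : L // conjFn hK θ' g = θ'})).ne' h2.symm
  · rw [classInner_irr_conjFn hK hθ' hθ, if_neg fun e => hne g e.symm]
  
omit [Fintype L] in
theorem conjFn_ker {A : Subgroup L} [hA : A.Normal] {θ : K → ℂ}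
    (hker : ∀ a : K, (a : L) ∈ A → θ a = θ 1) (g : L) :
    ∀ a : K, (a : L) ∈ A → conjFn hK θ g a = conjFn hK θ g 1 := fun a ha => by
  rw [conjFn_apply, conjFn_apply, hker _ (hA.conj_mem _ ha g)]
  exact congrArg θ (Subtype.ext (by simp))

omit [Fintype L] in
theorem conjFn_ne_one {θ : K → ℂ} (h1 : θ ≠ fun _ => 1) (g : L) : conjFn hK θ g ≠ fun _ => 1 := by
  intro h
  refine h1 ?_
  rw [← conjFn_one hK θ, ← mul_inv_cancel g, conjFn_mul, h]
  rfl

theorem indFun_conjFn (θ : K → ℂ) (g : L) :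
    Cfsg.indFun K (conjFn hK θ g) = Cfsg.indFun K θ :=
  Exceptional.indFun_cjFun K g θ

omit hK in
open scoped Classical in
/-- The sum of the squared degrees over the irreducible characters with `A` in the kernel. -/
theorem sum_sq_ne_one (A : Subgroup L) [A.Normal] [Fintype (Cfsg.IrrCharacter K)] :
    ∑ θ : Cfsg.IrrCharacter K, (if (θ : K → ℂ) ≠ (fun _ => 1) ∧
      (∀ a : K, (a : L) ∈ A → (θ : K → ℂ) a = (θ : K → ℂ) 1) then ((θ : K → ℂ) 1).re ^ 2 else 0) =
      (A.relIndex K : ℝ) - 1 := by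
  have h := congrArg Complex.re (CharDegree.sum_sq_degree_of_le_ker (A.subgroupOf K))
  rw [Complex.re_sum, Complex.natCast_re] at h
  rw [Subgroup.relIndex, ← h]
  have htriv : (trivChar K : K → ℂ) = fun _ => 1 := funext fun k => trivChar_apply k
  symm
  rw [← Finset.add_sum_erase _ _ (Finset.mem_univ (trivChar K))]
  rw [if_pos (fun a _ => by rw [htriv])]
  simp only [htriv, one_pow, Complex.one_re]
  rw [add_sub_cancel_left, ← Finset.add_sum_erase _ _ (Finset.mem_univ (trivChar K)),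
    if_neg (fun hh => hh.1 htriv), zero_add]
  refine Finset.sum_congr rfl fun θ hθ => ?_
  have hne : (θ : K → ℂ) ≠ fun _ => 1 := fun e =>
    (Finset.ne_of_mem_erase hθ) (Subtype.ext (e.trans htriv.symm))
  obtain ⟨d, -, hd⟩ := IsIrr.exists_degree θ.2
  by_cases hk : ∀ a : K, (a : L) ∈ A → (θ : K → ℂ) a = (θ : K → ℂ) 1
  · split_ifs with h1 h2
    · rw [hd]; norm_cast
    · exact absurd ⟨hne, hk⟩ h2
    · exact absurd (fun g hg => hk g hg) h1
    · exact absurd (fun g hg => hk g hg) h1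
  · split_ifs
    all_goals first | (exfalso; tauto) | simp

open scoped Classical in
/-- The weighted sum over `S(A)`. -/
theorem sum_wt (A : Subgroup L) [A.Normal] [Fintype (Cfsg.inducedIrrAbove K A)] :
    ∑ φ : Cfsg.inducedIrrAbove K A, wt (φ : L → ℂ) =
      (K.index : ℝ) * ((A.relIndex K : ℝ) - 1) := by
  have := Fintype.ofFinite (Cfsg.IrrCharacter K)
  rw [← sum_sq_ne_one A, Finset.mul_sum]
  set s := Finset.univ.filter fun θ : Cfsg.IrrCharacter K => (θ : K → ℂ) ≠ (fun _ => 1) ∧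
    ∀ a : K, (a : L) ∈ A → (θ : K → ℂ) a = (θ : K → ℂ) 1 with hs
  refine Eq.trans ?_ (show ∑ θ ∈ s, (K.index : ℝ) * ((θ : K → ℂ) 1).re ^ 2 = _ by
    simp only [hs, Finset.sum_filter, mul_ite, mul_zero])
  rw [← Finset.sum_fiberwise_of_maps_to (t := (Cfsg.inducedIrrAbove K A).toFinset)
    (g := fun θ : Cfsg.IrrCharacter K => Cfsg.indFun K (θ : K → ℂ)) fun θ hθ => by
      obtain ⟨-, h1, h2⟩ := Finset.mem_filter.mp hθ
      exact Set.mem_toFinset.mpr ⟨θ, θ.2, h1, h2, rfl⟩]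
  rw [← Finset.sum_subtype (Cfsg.inducedIrrAbove K A).toFinset (fun x => Set.mem_toFinset) wt]
  refine Finset.sum_congr rfl fun φ hφ => ?_
  obtain ⟨θ, hθ, h1, hker, rfl⟩ := Set.mem_toFinset.mp hφ
  have hfib : (s.filter fun θ' : Cfsg.IrrCharacter K => Cfsg.indFun K (θ' : K → ℂ) = Cfsg.indFun K θ) =
      Finset.univ.filter fun θ' : Cfsg.IrrCharacter K =>
        (θ' : K → ℂ) ∈ Finset.univ.image (conjFn hK θ) := by
    ext θ'
    simp only [hs, Finset.mem_filter, Finset.mem_univ, true_and, Finset.mem_image]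
    constructor
    · rintro ⟨-, h⟩
      exact exists_conjFn_eq hθ θ'.2 h.symm
    · rintro ⟨g, hg⟩
      rw [← hg]
      exact ⟨⟨conjFn_ne_one h1 g, conjFn_ker hker g⟩, indFun_conjFn θ g⟩
  have hcard : (Finset.univ.filter fun θ' : Cfsg.IrrCharacter K =>
      (θ' : K → ℂ) ∈ Finset.univ.image (conjFn hK θ)).card = (inertia hK θ).index := by
    rw [← card_orbit hK θ]
    refine Finset.card_bij (fun θ' _ => (θ' : K → ℂ)) (fun θ' h => (Finset.mem_filter.mp h).2)
      (fun a _ b _ h => Subtype.ext h) fun ψ hψ => ?_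
    obtain ⟨g, -, rfl⟩ := Finset.mem_image.mp hψ
    exact ⟨⟨_, isIrrCharacter_conjFn hK hθ g⟩,
      Finset.mem_filter.mpr ⟨Finset.mem_univ _, hψ⟩, rfl⟩
  rw [hfib]
  obtain ⟨d, hd0, hd⟩ := IsIrr.exists_degree hθ
  rw [Finset.sum_congr rfl (g := fun _ => (K.index : ℝ) * (d : ℝ) ^ 2) fun θ' hθ' => ?_,
    Finset.sum_const, hcard, nsmul_eq_mul]
  · have hn := congrArg Complex.re (card_mul_classInner_indFun hK hθ)
    rw [Complex.mul_re, Complex.natCast_re, Complex.natCast_im, zero_mul, sub_zero,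
      Complex.natCast_re] at hn
    have hT : Nat.card {g : L // conjFn hK θ g = θ} = Nat.card (inertia hK θ) := rfl
    rw [hT] at hn
    have e1 : ((inertia hK θ).index : ℝ) * (Nat.card (inertia hK θ) : ℝ) =
        (K.index : ℝ) * (Nat.card K : ℝ) := by
      rw [← Nat.cast_mul, ← Nat.cast_mul, (inertia hK θ).index_mul_card, K.index_mul_card]
    have hK0 : (Nat.card K : ℝ) ≠ 0 := Nat.cast_ne_zero.mpr Nat.card_pos.ne'
    have hc0 : (Cfsg.classInner (Cfsg.indFun K θ) (Cfsg.indFun K θ)).re ≠ 0 := fun h0 => by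
      rw [h0, mul_zero] at hn
      exact Nat.cast_ne_zero.mpr (Nat.card_pos (α := inertia hK θ)).ne' hn.symm
    rw [wt, indFun_apply_one, hd, ← Nat.cast_mul, Complex.natCast_re, Nat.cast_mul,
      div_eq_iff hc0]
    rw [← hn] at e1
    have e2 : ((inertia hK θ).index : ℝ) *
        (Cfsg.classInner (Cfsg.indFun K θ) (Cfsg.indFun K θ)).re = (K.index : ℝ) :=
      mul_right_cancel₀ hK0 (by linear_combination e1)
    linear_combination -((K.index : ℝ) * (d : ℝ) ^ 2) * e2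
  · obtain ⟨g, -, hg⟩ := Finset.mem_image.mp (Finset.mem_filter.mp hθ').2
    rw [← hg, conjFn_apply, show (⟨g * ((1 : K) : L) * g⁻¹, _⟩ : K) = 1 from Subtype.ext (by simp),
      hd, Complex.natCast_re]

omit [Fintype L] hK in
/-- A nonprincipal linear character with `A` in the kernel. -/
theorem exists_linear [Finite L] (hsolv : Group.IsSolvable K) {A : Subgroup L} [A.Normal]
    (hA : ¬ K ≤ A) :
    ∃ θ : K → ℂ, Cfsg.IsIrrCharacter K θ ∧ θ ≠ (fun _ => 1) ∧ θ 1 = 1 ∧
      ∀ a : K, (a : L) ∈ A → θ a = θ 1 := by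
  set N := A.subgroupOf K
  have : Nontrivial (K ⧸ N) := by
    rw [QuotientGroup.nontrivial_iff, Ne, Subgroup.subgroupOf_eq_top]
    exact hA
  obtain ⟨ψ, hψd, hψ⟩ := CharDegree.exists_linear_ne_one (G := K ⧸ N)
    (Group.IsSolvable.commutator_lt_top_of_nontrivial (K ⧸ N)).ne
  refine ⟨(CharDegree.infl N ψ : K → ℂ), (CharDegree.infl N ψ).2, fun h => hψ ?_, ?_, fun a ha =>
    CharDegree.infl_ker N ψ ha⟩
  · funext q
    obtain ⟨k, rfl⟩ := QuotientGroup.mk_surjective q
    exact congrFun h k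
  · rw [← CharDegree.cast_irrDegree, CharDegree.charDegree_infl, hψd, Nat.cast_one]

/-- A member of degree `[L:K]` of `S(A)`, dividing the degree of every member. -/
theorem exists_min_member (hsolv : Group.IsSolvable K) {A : Subgroup L} [A.Normal] (hA : ¬ K ≤ A) :
    ∃ χ₁ ∈ Cfsg.inducedIrrAbove K A, χ₁ 1 = (K.index : ℂ) := by
  obtain ⟨θ, hθ, h1, hd, hker⟩ := exists_linear hsolv hA
  exact ⟨_, ⟨θ, hθ, h1, hker, rfl⟩, by rw [indFun_apply_one, hd, mul_one]⟩

omit [Fintype L] hK in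
/-- Characters trivial on the derived subgroup are linear. -/
theorem apply_one_of_commutator_le [Finite L] {A : Subgroup L} (hA : ⁅K, K⁆ ≤ A) {θ : K → ℂ}
    (hθ : Cfsg.IsIrrCharacter K θ) (hker : ∀ a : K, (a : L) ∈ A → θ a = θ 1) : θ 1 = 1 := by
  have h : Cfsg.charDegree ((⟨θ, hθ⟩ : Cfsg.IrrCharacter K) : K → ℂ) = 1 := by
    refine (CharDegree.charDegree_eq_one_iff_commutator _).mpr fun g hg => hker g (hA ?_)
    have := Subgroup.mem_map_of_mem K.subtype hg
    rwa [_root_.commutator_def, Subgroup.map_commutator, ← MonoidHom.range_eq_map,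
      Subgroup.range_subtype] at this
  exact (CharDegree.charDegree_eq_one_iff _).mp h

omit hK in
theorem apply_one_of_mem {A : Subgroup L} (hA : ⁅K, K⁆ ≤ A) {φ : L → ℂ}
    (h : φ ∈ Cfsg.inducedIrrAbove K A) : φ 1 = (K.index : ℂ) := by
  obtain ⟨θ, hθ, -, hker, rfl⟩ := h
  rw [indFun_apply_one, apply_one_of_commutator_le hA hθ hker, mul_one]

end CfsgLib.Coh
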