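import Cfsg.Agent.Lib.Char.Coherence.Dichotomy

/-!
# Characters nontrivial on a central subgroup form a coherent set
-/

set_option autoImplicit false

open scoped ComplexConjugate

namespace CfsgLib.Coh

open CfsgLib.Char

variable {L : Type*} [Group L] [Fintype L] {K : Subgroup L} [hK : K.Normal] {Z : Subgroup L}

theorem mem_above_iff [Z.Normal] (hZK : Z ≤ K) {φ : L → ℂ} :
    φ ∈ Cfsg.inducedIrrAbove K Z ↔
      φ ∈ Cfsg.inducedIrrAbove K ⊥ ∧ ∀ z ∈ Z, φ z = φ 1 := by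
  constructor
  · rintro ⟨θ, hθ, h1, hker, rfl⟩
    exact ⟨inducedIrrAbove_subset Z ⟨θ, hθ, h1, hker, rfl⟩,
      (Exceptional.ker_iff_indFun Z K hZK (IsIrr.isCharacter hθ)).mp hker⟩
  · rintro ⟨⟨θ, hθ, h1, -, rfl⟩, hker⟩
    exact ⟨θ, hθ, h1, (Exceptional.ker_iff_indFun Z K hZK (IsIrr.isCharacter hθ)).mpr hker, rfl⟩

theorem mem_diff_iff [Z.Normal] (hZK : Z ≤ K) {φ : L → ℂ} :
    φ ∈ Cfsg.inducedIrrAbove K ⊥ \ Cfsg.inducedIrrAbove K Z ↔
      φ ∈ Cfsg.inducedIrrAbove K ⊥ ∧ ∃ z ∈ Z, φ z ≠ φ 1 := by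
  rw [Set.mem_sdiff, mem_above_iff hZK, not_and, not_forall]
  simp only [Classical.not_imp]
  exact ⟨fun h => ⟨h.1, h.2 h.1⟩, fun h => ⟨h.1, fun _ => h.2⟩⟩

omit hK in
theorem closed_conj_diff (Z : Subgroup L) :
    Closed Cfsg.conjFun (Cfsg.inducedIrrAbove K ⊥ \ Cfsg.inducedIrrAbove K Z) := fun φ h =>
  ⟨closed_conj ⊥ φ h.1, fun h' => h.2 (by
    have := closed_conj Z _ h'
    rwa [Exceptional.sys_conj_conj] at this)⟩

/-- `S ∖ S(Z)` as a set of irreducible characters. -/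
theorem diff_eq_irr [Z.Normal] (hZK : Z ≤ K)
    (hirr : ∀ χ ∈ Cfsg.inducedIrrAbove K ⊥ \ Cfsg.inducedIrrAbove K Z, Cfsg.IsIrrCharacter L χ) :
    Cfsg.inducedIrrAbove K ⊥ \ Cfsg.inducedIrrAbove K Z =
      {χ | Cfsg.IsIrrCharacter L χ ∧ ∃ z ∈ Z, χ z ≠ χ 1} := by
  classical
  have := Fintype.ofFinite (Cfsg.IrrCharacter K)
  ext χ
  refine ⟨fun h => ⟨hirr χ h, ((mem_diff_iff hZK).mp h).2⟩, fun ⟨hχ, z, hz, hne⟩ => ?_⟩
  obtain ⟨m, hm⟩ := IsChar.exists_sum (IsChar.restrict K (IsIrr.isCharacter hχ))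
  obtain ⟨θ, hθ, hker⟩ : ∃ θ : Cfsg.IrrCharacter K, m θ ≠ 0 ∧
      ¬ ∀ a : K, (a : L) ∈ Z → (θ : K → ℂ) a = (θ : K → ℂ) 1 := by
    by_contra hno
    push Not at hno
    refine hne ?_
    have h1 := congrFun hm ⟨z, hZK hz⟩
    have h2 := congrFun hm 1
    simp only [Finset.sum_apply, Pi.smul_apply, smul_eq_mul, Subgroup.coe_one] at h1 h2
    rw [h1, h2]
    refine Finset.sum_congr rfl fun θ _ => ?_
    by_cases h0 : m θ = 0
    · simp [h0]
    · rw [hno θ h0 ⟨z, hZK hz⟩ hz]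
  have hmem : Cfsg.indFun K (θ : K → ℂ) ∈
      Cfsg.inducedIrrAbove K ⊥ \ Cfsg.inducedIrrAbove K Z := by
    refine ⟨⟨θ, θ.2, fun e => hker fun a _ => by simp [e], fun a ha => ?_, rfl⟩, fun h => ?_⟩
    · rw [show a = 1 from Subtype.ext (Subgroup.mem_bot.mp ha)]
    · exact hker ((Exceptional.ker_iff_indFun Z K hZK (IsIrr.isCharacter θ.2)).mpr
        ((mem_above_iff hZK).mp h).2)
  have h1 := frobenius_reciprocity K (θ : K → ℂ) (IsIrr.isClassFunction hχ)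
  rw [hm, ← classInner_conj_symm (∑ ψ : Cfsg.IrrCharacter K, (m ψ : ℂ) • (ψ : K → ℂ)),
    classInner_sum_irr, map_natCast] at h1
  have heq : Cfsg.indFun K (θ : K → ℂ) = χ := by
    by_contra e
    rw [Exceptional.classInner_eq_zero_of_irr (hirr _ hmem) hχ e] at h1
    exact hθ (Nat.cast_eq_zero.mp h1.symm)
  exact heq ▸ hmem

theorem exists_mem_diff [Z.Normal] (hZK : Z ≤ K) (hZ1 : Z ≠ ⊥) :
    ∃ φ, φ ∈ Cfsg.inducedIrrAbove K ⊥ \ Cfsg.inducedIrrAbove K Z := by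
  classical
  have := Fintype.ofFinite (Cfsg.IrrCharacter K)
  by_contra h
  push Not at h
  have hle : Cfsg.inducedIrrAbove K ⊥ ⊆ Cfsg.inducedIrrAbove K Z := fun φ hφ => by
    by_contra h'
    exact h φ ⟨hφ, h'⟩
  have hfin : (Cfsg.inducedIrrAbove K (⊥ : Subgroup L)).Finite :=
    (Set.finite_range fun θ : Cfsg.IrrCharacter K => Cfsg.indFun K (θ : K → ℂ)).subset
      fun φ ⟨θ, hθ, _, _, e⟩ => ⟨⟨θ, hθ⟩, e.symm⟩
  have := hfin.fintype
  have := (hfin.subset (inducedIrrAbove_subset Z)).fintype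
  have h1 := sum_wt (K := K) (⊥ : Subgroup L)
  have h2 := sum_wt (K := K) Z
  rw [← Finset.sum_subtype (Cfsg.inducedIrrAbove K (⊥ : Subgroup L)).toFinset
    (fun x => Set.mem_toFinset) wt] at h1
  rw [← Finset.sum_subtype (Cfsg.inducedIrrAbove K Z).toFinset (fun x => Set.mem_toFinset) wt,
    Set.toFinset_congr (Set.Subset.antisymm (inducedIrrAbove_subset Z) hle), h1,
    Subgroup.relIndex_bot_left] at h2
  have he : (K.index : ℝ) ≠ 0 := Nat.cast_ne_zero.mpr Subgroup.index_ne_zero_of_finite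
  have h3 : (Nat.card K : ℝ) = ((Z.relIndex K : ℕ) : ℝ) := by
    linarith [mul_left_cancel₀ he h2]
  have h4 := Subgroup.card_eq_card_quotient_mul_card_subgroup (Z.subgroupOf K)
  rw [← Subgroup.index_eq_card, ← Subgroup.relIndex, ← Nat.cast_inj.mp h3] at h4
  have h5 : Nat.card (Z.subgroupOf K) = 1 :=
    (mul_eq_left₀ Nat.card_pos.ne').mp h4.symm
  rw [Nat.card_congr (Subgroup.subgroupOfEquivOfLe hZK).toEquiv] at h5
  exact hZ1 (Subgroup.card_eq_one.mp h5)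

variable {G : Type*} [Group G] [Fintype G] {τ : (L → ℂ) → (G → ℂ)}

/-- The central-subgroup coherence theorem. -/
theorem nontrivial_central_coherent {R : (L → ℂ) → Finset (G → ℂ)} (hsolv : Group.IsSolvable K)
    (hS : Cfsg.IsCoherenceSystem (Cfsg.inducedIrrAbove K ⊥) τ R) (hodd : Odd (Nat.card L))
    (hnil : Group.IsNilpotent K) (hH₁K : ⁅K, K⁆ < K)
    (hfrob : ∀ k ∈ K, k ∉ ⁅K, K⁆ → ∀ x : L, x * k * x⁻¹ * k⁻¹ ∈ ⁅K, K⁆ → x ∈ K) [Z.Normal]
    (hZ1 : Z ≠ ⊥) (hZK : Z ≤ K) (hZc : ∀ z ∈ Z, ∀ k ∈ K, z * k = k * z)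
    (hirr : ∀ χ ∈ Cfsg.inducedIrrAbove K ⊥ \ Cfsg.inducedIrrAbove K Z, Cfsg.IsIrrCharacter L χ) :
    Cfsg.IsCoherent (Cfsg.inducedIrrAbove K ⊥ \ Cfsg.inducedIrrAbove K Z) {1}ᶜ τ := by
  classical
  have hset := Setting.of_system hS
  set X := Cfsg.inducedIrrAbove K ⊥ \ Cfsg.inducedIrrAbove K Z
  have hXS : X ⊆ Cfsg.inducedIrrAbove K ⊥ := Set.sdiff_subset
  have hXc : Closed Cfsg.conjFun X := closed_conj_diff Z
  obtain ⟨χ₀, hχ₀⟩ : ∃ φ, φ ∈ X := exists_mem_diff hZK hZ1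
  by_cases hpp : ∃ p n : ℕ, p.Prime ∧ (⊥ : Subgroup L).relIndex K = p ^ n
  swap
  · have hbase := coherent_abelian_section hS hsolv hH₁K.not_ge le_rfl
    have hco := dichotomy hset closed_conj hsolv hodd ⊥ bot_le inferInstance ⁅K, K⁆
      (sup_bot_eq _).symm hH₁K hfrob hbase (Or.inr (Or.inr (Or.inl hpp)))
    exact isCoherent_mono hXS hco hχ₀ (hXc χ₀ hχ₀) (hS.conj_ne χ₀ (hXS hχ₀)).symm
      (Exceptional.sys_deg_conj hS (hXS hχ₀)).symm
  obtain ⟨p, n, hp, hn⟩ := hpp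
  rw [Subgroup.relIndex_bot_left] at hn
  have hcop : Nat.Coprime p K.index := by
    rw [hp.coprime_iff_not_dvd]
    intro hdvd
    have h1 := hdvd.trans (index_dvd_relIndex_sub_one hH₁K.le le_rfl le_rfl hfrob)
    obtain ⟨j, -, hj⟩ := (Nat.dvd_prime_pow hp).mp
      (hn ▸ (⁅K, K⁆.subgroupOf K).index_dvd_card : ⁅K, K⁆.relIndex K ∣ p ^ n)
    have hj0 : j ≠ 0 := fun h0 => hH₁K.not_ge (Subgroup.relIndex_eq_one.mp (by simp [hj, h0]))
    have h2 : p ∣ 1 := by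
      have := Nat.dvd_sub (hj ▸ dvd_pow_self p hj0) h1
      rwa [Nat.sub_sub_self] at this
      exact hj ▸ Nat.one_le_pow _ _ hp.pos
    exact hp.ne_one (Nat.dvd_one.mp h2)
  have hp3 : 3 ≤ p := by
    have hne : n ≠ 0 := fun h0 => hH₁K.not_ge (by
      rw [Subgroup.card_eq_one.mp (by simpa [h0] using hn : Nat.card K = 1)]; exact bot_le)
    have := hp.two_le
    rcases hodd.of_dvd_nat ((dvd_pow_self p hne).trans (hn ▸ K.card_subgroup_dvd_card)) with ⟨r, hr⟩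
    omega
  -- degrees
  have hdeg : ∀ φ ∈ X, ∃ b : ℕ, φ 1 = (K.index : ℂ) * ((p ^ b : ℕ) : ℂ) ∧
      p ^ (2 * b) ∣ Z.relIndex K := by
    intro φ hφ
    obtain ⟨θ, hθ, -, -, rfl⟩ := hφ.1
    have hd := CharDegree.cast_charDegree (IsIrr.isCharacter hθ)
    obtain ⟨b, -, hb⟩ := (Nat.dvd_prime_pow hp).mp (hn ▸ CharDegree.charDegree_dvd_card ⟨θ, hθ⟩ :
      Cfsg.charDegree θ ∣ p ^ n)
    refine ⟨b, by rw [indFun_apply_one, ← hd, hb], ?_⟩
    have hle := CharDegree.sq_charDegree_mul_card_le ⟨θ, hθ⟩ (Z.subgroupOf K) fun z hz =>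
      Subgroup.mem_center_iff.mpr fun g => Subtype.ext (hZc _ hz _ g.2).symm
    rw [← (Z.subgroupOf K).index_mul_card] at hle
    have hle' := Nat.le_of_mul_le_mul_right hle Nat.card_pos
    obtain ⟨k, -, hk⟩ := (Nat.dvd_prime_pow hp).mp (hn ▸ (Z.subgroupOf K).index_dvd_card :
      (Z.subgroupOf K).index ∣ p ^ n)
    simp only [] at hle'
    rw [hb, ← pow_mul, hk, Nat.pow_le_pow_iff_right hp.one_lt] at hle'
    rw [Subgroup.relIndex, hk, mul_comm 2 b]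
    exact pow_dvd_pow p hle'
  choose! b hb hbdvd using hdeg
  obtain ⟨F, hF⟩ := (hset.finite.subset hXS).exists_finset_coe
  have hwt : ∀ φ ∈ F, wt φ = ((K.index ^ 2 * p ^ (2 * b φ) : ℕ) : ℝ) := fun φ hφ => by
    have hφX : φ ∈ X := hF ▸ hφ
    rw [wt, hb φ hφX, Exceptional.classInner_self_of_irr (hirr φ hφX), ← Nat.cast_mul,
      Complex.natCast_re, Complex.one_re, div_one]
    push_cast; ring
  have htotal : K.index * ∑ φ ∈ F, p ^ (2 * b φ) = Z.relIndex K * (Nat.card Z - 1) := by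
    have hfin := hset.finite
    have := hfin.fintype
    have := (hfin.subset (inducedIrrAbove_subset Z)).fintype
    have h1 := sum_wt (K := K) (⊥ : Subgroup L)
    have h2 := sum_wt (K := K) Z
    rw [← Finset.sum_subtype (Cfsg.inducedIrrAbove K (⊥ : Subgroup L)).toFinset
      (fun x => Set.mem_toFinset) wt, Subgroup.relIndex_bot_left] at h1
    rw [← Finset.sum_subtype (Cfsg.inducedIrrAbove K Z).toFinset (fun x => Set.mem_toFinset) wt]
      at h2
    have hFe : F = (Cfsg.inducedIrrAbove K (⊥ : Subgroup L)).toFinset \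
        (Cfsg.inducedIrrAbove K Z).toFinset := by
      rw [← Finset.coe_inj, hF]; simp [X]
    have h3 : ∑ φ ∈ F, wt φ = (K.index : ℝ) * ((Nat.card K : ℝ) - Z.relIndex K) := by
      rw [hFe, Finset.sum_sdiff_eq_sub (Set.toFinset_subset_toFinset.mpr (inducedIrrAbove_subset Z)), h1, h2]
      ring
    rw [Finset.sum_congr rfl hwt, ← Nat.cast_sum, ← Finset.mul_sum] at h3
    have hcard : Nat.card K = Z.relIndex K * Nat.card Z := by
      rw [← Nat.card_congr (Subgroup.subgroupOfEquivOfLe hZK).toEquiv, Subgroup.relIndex,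
        Subgroup.index_mul_card]
    have hcast : ((Z.relIndex K * (Nat.card Z - 1) : ℕ) : ℝ) =
        (Nat.card K : ℝ) - Z.relIndex K := by
      rw [hcard, Nat.mul_sub, mul_one, Nat.cast_sub (Nat.le_mul_of_pos_right _ Nat.card_pos)]
    rw [← hcast, ← Nat.cast_mul, Nat.cast_inj, sq, mul_assoc] at h3
    exact Nat.eq_of_mul_eq_mul_left (Nat.pos_of_ne_zero Subgroup.index_ne_zero_of_finite) h3
  -- the minimal level
  obtain ⟨φa, hφa, hmin⟩ := F.exists_min_image b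
    ⟨χ₀, by rw [← Finset.mem_coe, hF]; exact hχ₀⟩
  rw [← Finset.mem_coe, hF] at hφa
  set a := b φa
  have hab : ∀ φ ∈ X, a ≤ b φ := fun φ hφ => hmin φ (by rw [← Finset.mem_coe, hF]; exact hφ)
  have hbconj : ∀ φ ∈ X, b (Cfsg.conjFun φ) = b φ := fun φ hφ => by
    have h1 : Cfsg.conjFun φ 1 = φ 1 := Exceptional.sys_deg_conj hS (hXS hφ)
    rw [hb _ (hXc φ hφ), hb φ hφ, mul_right_inj' (Nat.cast_ne_zero.mpr
      Subgroup.index_ne_zero_of_finite), Nat.cast_inj] at h1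
    exact Nat.pow_right_injective hp.two_le h1
  have hlevel : ∀ c, a ≤ c → Cfsg.IsCoherent {φ | φ ∈ X ∧ b φ ≤ c} {1}ᶜ τ := by
    intro c hc
    induction c, hc using Nat.le_induction with
    | base =>
      refine Exceptional.coherenceSystem_const_degree
        (system_subset hS (fun φ h => hXS h.1) ⟨φa, hφa, le_rfl⟩
          fun φ h => ⟨hXc φ h.1, (hbconj φ h.1).le.trans h.2⟩) fun φ hφ ψ hψ => ?_
      rw [hb φ hφ.1, hb ψ hψ.1, le_antisymm hφ.2 (hab φ hφ.1), le_antisymm hψ.2 (hab ψ hψ.1)]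
    | succ c hac ih =>
      have heq : {φ | φ ∈ X ∧ b φ ≤ c + 1} =
          {φ | φ ∈ X ∧ b φ ≤ c} ∪ {φ | φ ∈ X ∧ b φ = c + 1} := by
        ext φ
        simp only [Set.mem_ofPred_eq, Set.mem_union]
        constructor
        · rintro ⟨h1, h2⟩
          rcases Nat.lt_or_ge (b φ) (c + 1) with h | h
          · exact Or.inl ⟨h1, by omega⟩
          · exact Or.inr ⟨h1, by omega⟩
        · rintro (⟨h1, h2⟩ | ⟨h1, h2⟩) <;> exact ⟨h1, by omega⟩
      set Fl := F.filter fun φ => b φ ≤ c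
      rw [heq]
      refine hset.insert_all (fun φ h => hXS h.1) (fun φ h => hXS h.1)
        (fun φ h => ⟨hXc φ h.1, (hbconj φ h.1).le.trans h.2⟩)
        (fun φ h => ⟨hXc φ h.1, (hbconj φ h.1).trans h.2⟩) ih ⟨hφa, hac⟩
        (((K.index ^ 2 * ∑ φ ∈ Fl, p ^ (2 * b φ) : ℕ)) : ℝ) (fun {_} => ?_) fun χ hχ _ => ?_
      · rw [← Finset.sum_subtype Fl (fun φ => by
          rw [Finset.mem_filter, ← Finset.mem_coe, hF]; rfl) wt,
          Finset.sum_congr rfl (fun φ hφ => hwt φ (Finset.mem_filter.mp hφ).1), ← Nat.cast_sum,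
          ← Finset.mul_sum]
      · obtain ⟨hχX, hχb⟩ := hχ
        refine ⟨⟨p ^ (b χ - a), ?_⟩, ?_⟩
        · rw [hb χ hχX, hb φa hφa, show p ^ b χ = p ^ (b χ - a) * p ^ a by
            rw [← pow_add, Nat.sub_add_cancel (hab χ hχX)]]
          push_cast; ring
        have hdiv : p ^ (2 * (c + 1)) ∣ ∑ φ ∈ Fl, p ^ (2 * b φ) := by
          refine (Nat.Coprime.dvd_of_dvd_mul_left (hcop.pow_left (2 * (c + 1))) ?_)
          have h1 : p ^ (2 * (c + 1)) ∣ K.index * ∑ φ ∈ F, p ^ (2 * b φ) := by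
            rw [htotal]
            exact ((hχb ▸ hbdvd χ hχX : p ^ (2 * (c + 1)) ∣ Z.relIndex K)).mul_right _
          rw [← Finset.sum_filter_add_sum_filter_not F (fun φ => b φ ≤ c), mul_add K.index] at h1
          refine (Nat.dvd_add_left (Dvd.dvd.mul_left (Finset.dvd_sum fun φ hφ => ?_) _)).mp h1
          exact pow_dvd_pow p (by have := (Finset.mem_filter.mp hφ).2; omega)
        have hpos : 0 < ∑ φ ∈ Fl, p ^ (2 * b φ) :=
          Finset.sum_pos (fun φ _ => pow_pos hp.pos _) ⟨φa, Finset.mem_filter.mpr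
            ⟨by rw [← Finset.mem_coe, hF]; exact hφa, hac⟩⟩
        have hlt : 2 * (K.index * p ^ (c + 1)) * (K.index * p ^ a) <
            K.index ^ 2 * ∑ φ ∈ Fl, p ^ (2 * b φ) := by
          refine lt_of_lt_of_le ?_ (Nat.mul_le_mul_left _ (Nat.le_of_dvd hpos hdiv))
          rw [show 2 * (K.index * p ^ (c + 1)) * (K.index * p ^ a) =
            K.index ^ 2 * (2 * p ^ (c + 1 + a)) by ring]
          refine Nat.mul_lt_mul_of_pos_left ?_ (pow_pos (Nat.pos_of_ne_zero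
            Subgroup.index_ne_zero_of_finite) 2)
          rw [show 2 * (c + 1) = (c + 1 - a) + (c + 1 + a) by omega, pow_add p (c + 1 - a)]
          refine Nat.mul_lt_mul_of_pos_right (lt_of_lt_of_le ?_ (Nat.le_self_pow (n := c + 1 - a) (by omega) p))
            (pow_pos hp.pos _)
          omega
        rw [hb χ hχX, hb φa hφa, hχb, ← Nat.cast_mul, ← Nat.cast_mul, Complex.natCast_re,
          Complex.natCast_re]
        exact_mod_cast hlt
  have heq : X = {φ | φ ∈ X ∧ b φ ≤ max a (F.sup b)} := by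
    ext φ
    refine ⟨fun h => ⟨h, le_max_of_le_right (Finset.le_sup ?_)⟩, fun h => h.1⟩
    rw [← Finset.mem_coe, hF]; exact h
  rw [heq]
  exact hlevel _ (le_max_left _ _)

end CfsgLib.Coh
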