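import Cfsg.Agent.Lib.Char.Exceptional.Coherence4
import Cfsg.Agent.Lib.CharDegree.Basic

/-!
# Settings in which coherence can be extended one character at a time

A `Setting S τ cl` packages the criterion "adjoin `χ` and `cl χ` to a coherent `cl`-closed
subset of `S` when twice the product of the degrees is less than the weighted sum of squared
degrees".  It holds for coherence systems (`cl` complex conjugation) and for families of irreducible
characters (`cl` the identity).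
-/

set_option autoImplicit false

open scoped ComplexConjugate

namespace CfsgLib.Coh

open CfsgLib.Char

variable {L : Type*} [Group L] [Fintype L] {G : Type*} [Group G] [Fintype G]

/-- Squared degree over squared norm. -/
noncomputable def wt (φ : L → ℂ) : ℝ := (φ 1).re ^ 2 / (Cfsg.classInner φ φ).re

/-- Stability under `cl`. -/
def Closed (cl : (L → ℂ) → (L → ℂ)) (T : Set (L → ℂ)) : Prop := ∀ φ ∈ T, cl φ ∈ T

omit [Group L] [Fintype L] in
theorem Closed.union {cl : (L → ℂ) → (L → ℂ)} {T U : Set (L → ℂ)} (hT : Closed cl T)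
    (hU : Closed cl U) : Closed cl (T ∪ U) :=
  fun φ h => h.elim (fun h => Or.inl (hT φ h)) (fun h => Or.inr (hU φ h))

theorem wt_nonneg (φ : L → ℂ) : 0 ≤ wt φ :=
  div_nonneg (sq_nonneg _) (Exceptional.classInner_self_re_nonneg φ)

/-- The insertion criterion. -/
structure Setting (S : Set (L → ℂ)) (τ : (L → ℂ) → (G → ℂ)) (cl : (L → ℂ) → (L → ℂ)) : Prop where
  finite : S.Finite
  cl_mem : ∀ φ ∈ S, cl φ ∈ S
  cl_cl : ∀ φ : L → ℂ, cl (cl φ) = φ
  adjoin : ∀ (T : Finset (L → ℂ)) (χ χ₁ : L → ℂ), (↑T : Set (L → ℂ)) ⊆ S → Closed cl ↑T →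
    Cfsg.IsCoherent (↑T : Set (L → ℂ)) {1}ᶜ τ → χ ∈ S → χ ∉ T → χ₁ ∈ T →
    (∃ m : ℕ, χ 1 = (m : ℂ) * χ₁ 1) → 2 * (χ 1).re * (χ₁ 1).re < ∑ φ ∈ T, wt φ →
    Cfsg.IsCoherent (↑T ∪ {χ, cl χ} : Set (L → ℂ)) {1}ᶜ τ

/-- Coherence passes to subsets that carry a nonzero element vanishing at `1`. -/
theorem isCoherent_mono {S T : Set (L → ℂ)} {τ : (L → ℂ) → (G → ℂ)} (hST : S ⊆ T)
    (hT : Cfsg.IsCoherent T {1}ᶜ τ) {a b : L → ℂ} (ha : a ∈ S) (hb : b ∈ S) (hab : a ≠ b)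
    (h1 : a 1 = b 1) : Cfsg.IsCoherent S {1}ᶜ τ := by
  obtain ⟨-, τ₁, hτ₁, hext⟩ := hT
  refine ⟨⟨a - b, Exceptional.sub_mem_zspanOn_one ha hb h1, sub_ne_zero.2 hab⟩, τ₁,
    Exceptional.IsLinearIsometryOn.mono hτ₁ (Exceptional.zspan_subset hST), fun α hα => ?_⟩
  exact hext α (Exceptional.zspanOn_subset _ hST hα)

/-- A coherence system is a setting for complex conjugation. -/
theorem Setting.of_system {S : Set (L → ℂ)} {τ : (L → ℂ) → (G → ℂ)}
    {R : (L → ℂ) → Finset (G → ℂ)} (hS : Cfsg.IsCoherenceSystem S τ R) :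
    Setting S τ Cfsg.conjFun := by
  classical
  choose! n hn0 hn using fun φ (h : φ ∈ S) => Exceptional.sys_norm hS h
  have hd : ∀ φ ∈ S, φ 1 = (Cfsg.charDegree φ : ℂ) := fun φ h =>
    (CharDegree.cast_charDegree (hS.isCharacter φ h)).symm
  refine ⟨Exceptional.sys_finite hS, hS.conj_mem, Exceptional.sys_conj_conj, ?_⟩
  intro T χ χ₁ hT hTc hcoh hχ hχT hχ₁ hdvd hineq
  obtain ⟨m, hm⟩ := hdvd
  refine Exceptional.coherenceSystem_extend hS hd hn hT hTc hcoh hχ hχT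
    (fun h => hχT (Exceptional.sys_conj_conj χ ▸ hTc _ h)) hχ₁ ⟨m, ?_⟩ ?_
  · rw [hd χ hχ, hd χ₁ (hT hχ₁)] at hm
    rw [mul_comm]
    exact_mod_cast hm
  · rw [hd χ hχ, hd χ₁ (hT hχ₁)] at hineq
    simp only [Complex.natCast_re] at hineq
    refine lt_of_lt_of_eq hineq (Finset.sum_congr rfl fun φ hφ => ?_)
    rw [wt, hd φ (hT hφ), hn φ (hT hφ)]
    simp

/-- Irreducible characters form a setting for the identity. -/
theorem Setting.of_irr {S : Set (L → ℂ)} (hirr : ∀ χ ∈ S, Cfsg.IsIrrCharacter L χ)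
    {τ : (L → ℂ) → (G → ℂ)} (hτ : Cfsg.IsLinearIsometryOn (Cfsg.zspanOn S ({1}ᶜ : Set L)) τ)
    (hτ1 : ∀ α ∈ Cfsg.zspanOn S ({1}ᶜ : Set L), τ α 1 = 0) : Setting S τ id := by
  classical
  have hd : ∀ φ ∈ S, φ 1 = (Cfsg.charDegree φ : ℂ) := fun φ h =>
    (CharDegree.cast_charDegree (IsIrr.isCharacter (hirr φ h))).symm
  refine ⟨Exceptional.finite_of_irr hirr, fun φ h => h, fun φ => rfl, ?_⟩
  intro T χ χ₁ hT hTc hcoh hχ hχT hχ₁ hdvd hineq
  obtain ⟨m, hm⟩ := hdvd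
  have hsub : (↑(insert χ T) : Set (L → ℂ)) ⊆ S := by
    rw [Finset.coe_insert]; exact Set.insert_subset hχ hT
  have heq : (↑T ∪ {χ, id χ} : Set (L → ℂ)) = ↑(insert χ T) := by
    rw [Finset.coe_insert, id, Set.pair_eq_singleton, Set.union_singleton]
  rw [heq]
  refine Exceptional.coherent_insert (fun ξ h => hirr ξ (hT h)) (hirr χ hχ) hχT
    (fun ξ h => hd ξ (hsub h))
    (Exceptional.IsLinearIsometryOn.mono hτ (Exceptional.zspanOn_subset _ hsub))
    (fun α hα => hτ1 α (Exceptional.zspanOn_subset _ hsub hα)) hcoh hχ₁ ⟨m, ?_⟩ ?_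
  · rw [hd χ hχ, hd χ₁ (hT hχ₁)] at hm
    rw [mul_comm]
    exact_mod_cast hm
  · rw [hd χ hχ, hd χ₁ (hT hχ₁)] at hineq
    simp only [Complex.natCast_re] at hineq
    have h : ∑ φ ∈ T, wt φ = ((∑ φ ∈ T, Cfsg.charDegree φ ^ 2 : ℕ) : ℝ) := by
      push_cast
      refine Finset.sum_congr rfl fun φ hφ => ?_
      rw [wt, hd φ (hT hφ), Exceptional.classInner_self_of_irr (hirr φ (hT hφ))]
      simp
    rw [h] at hineq
    have h2 : ((2 * Cfsg.charDegree χ₁ * Cfsg.charDegree χ : ℕ) : ℝ) <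
        ((∑ φ ∈ T, Cfsg.charDegree φ ^ 2 : ℕ) : ℝ) := by
      refine lt_of_eq_of_lt ?_ hineq
      push_cast; ring
    exact_mod_cast h2

variable {S : Set (L → ℂ)} {τ : (L → ℂ) → (G → ℂ)} {cl : (L → ℂ) → (L → ℂ)}

open scoped Classical in
/-- Adjoin every member of `U` that passes the test against a coherent closed `T`. -/
theorem Setting.insert_all (h : Setting S τ cl) {T U : Set (L → ℂ)} (hT : T ⊆ S) (hU : U ⊆ S)
    (hTc : Closed cl T) (hUc : Closed cl U) (hcoh : Cfsg.IsCoherent T {1}ᶜ τ)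
    {χ₁ : L → ℂ} (hχ₁ : χ₁ ∈ T) (w : ℝ) (hw : ∀ [Fintype T], w ≤ ∑ φ : T, wt (φ : L → ℂ))
    (htest : ∀ χ ∈ U, χ ∉ T → (∃ m : ℕ, χ 1 = (m : ℂ) * χ₁ 1) ∧ 2 * (χ 1).re * (χ₁ 1).re < w) :
    Cfsg.IsCoherent (T ∪ U) {1}ᶜ τ := by
  have main : ∀ n : ℕ, ∀ (T' : Set (L → ℂ)), T' ⊆ S → Closed cl T' → T ⊆ T' → T' ⊆ T ∪ U →
      Cfsg.IsCoherent T' {1}ᶜ τ → (U \ T').ncard = n → Cfsg.IsCoherent (T ∪ U) {1}ᶜ τ := by
    intro n
    induction n using Nat.strong_induction_on with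
    | _ n ih =>
    intro T' hT' hT'c hTT' hT'U hcoh' hn
    by_cases hall : U ⊆ T'
    · rwa [show T' = T ∪ U from Set.Subset.antisymm hT'U (Set.union_subset hTT' hall)] at hcoh'
    obtain ⟨χ, hχU, hχT'⟩ := Set.not_subset.mp hall
    obtain ⟨F, rfl⟩ := (h.finite.subset hT').exists_finset_coe
    obtain ⟨hdvd, hlt⟩ := htest χ hχU fun hh => hχT' (hTT' hh)
    have hfin : T.Finite := h.finite.subset hT
    have := hfin.fintype
    have hsum : w ≤ ∑ φ ∈ F, wt φ := by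
      refine hw.trans ?_
      rw [← Finset.sum_subtype hfin.toFinset (fun x => hfin.mem_toFinset) wt]
      exact Finset.sum_le_sum_of_subset_of_nonneg (fun φ hφ => hTT' (hfin.mem_toFinset.mp hφ))
        fun φ _ _ => wt_nonneg φ
    have hnew := h.adjoin F χ χ₁ hT' hT'c hcoh' (hU hχU) hχT' (hTT' hχ₁) hdvd
      (lt_of_lt_of_le hlt hsum)
    refine ih _ ?_ _ (Set.union_subset hT' (Set.insert_subset (hU hχU)
      (Set.singleton_subset_iff.mpr (h.cl_mem χ (hU hχU))))) ?_ (hTT'.trans Set.subset_union_left)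
      (Set.union_subset hT'U (Set.insert_subset (Or.inr hχU)
        (Set.singleton_subset_iff.mpr (Or.inr (hUc χ hχU))))) hnew rfl
    · rw [← hn]
      refine Set.ncard_lt_ncard ⟨fun x hx => ⟨hx.1, fun hh => hx.2 (Or.inl hh)⟩, fun hsub => ?_⟩
        ((h.finite.subset hU).sdiff)
      exact (hsub ⟨hχU, hχT'⟩).2 (Or.inr (Or.inl rfl))
    · refine Closed.union hT'c ?_
      intro φ hφ
      rcases hφ with rfl | hφ
      · exact Or.inr rfl
      · rw [Set.mem_singleton_iff.mp hφ, h.cl_cl]; exact Or.inl rfl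
  exact main _ T hT hTc subset_rfl Set.subset_union_left hcoh rfl

end CfsgLib.Coh
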