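import Cfsg.Agent.Lib.Char.Coherence.KernelValues
import Cfsg.Agent.Lib.Char.Coherence.Sibley

/-!
# Transfer of values between a group and the normaliser of a TI kernel
-/

set_option autoImplicit false

open scoped ComplexConjugate

namespace CfsgLib.Coh

open CfsgLib.Char

variable {G : Type*} [Group G] [Fintype G]

/-- The functions attached to a self-centralising TI subgroup. -/
structure KernelData (K : Subgroup G) [Fintype ↥(Subgroup.normalizer (K : Set G))] where
  ε : ℤ
  hε : ε = 1 ∨ ε = -1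
  A : (↥(Subgroup.normalizer (K : Set G)) → ℂ) → (G → ℂ)
  irr : ∀ ξ ∈ Exceptional.tifnSet K, Cfsg.IsIrrCharacter G (A ξ)
  inj : ∀ ξ ∈ Exceptional.tifnSet K, ∀ η ∈ Exceptional.tifnSet K, A ξ = A η → ξ = η
  ne_one : ∀ ξ ∈ Exceptional.tifnSet K, A ξ ≠ fun _ => 1
  conj_mem : ∀ ξ ∈ Exceptional.tifnSet K,
    Cfsg.conjFun ξ ∈ Exceptional.tifnSet K ∧ Cfsg.conjFun ξ ≠ ξ
  map_conj : ∀ ξ ∈ Exceptional.tifnSet K, A (Cfsg.conjFun ξ) = Cfsg.conjFun (A ξ)
  ext : ∀ ξ ∈ Exceptional.tifnSet K, ∀ η ∈ Exceptional.tifnSet K,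
    Cfsg.indFun (Subgroup.normalizer (K : Set G)) (η 1 • ξ - ξ 1 • η) =
      (ε : ℂ) • (η 1 • A ξ - ξ 1 • A η)

variable (K : Subgroup G) [Fintype ↥(Subgroup.normalizer (K : Set G))]
  (hTI : ∀ g : G, g ∉ Subgroup.normalizer (K : Set G) → ∀ k ∈ K, g * k * g⁻¹ ∈ K → k = 1)
  (hC : ∀ k ∈ K, k ≠ 1 → Subgroup.centralizer ({k} : Set G) ≤ K)

include hTI hC

/-- Sibley's theorem provides the data. -/
theorem exists_kernelData (hK1 : K ≠ ⊥) (hnil : Group.IsNilpotent K)
    (hodd : Odd (Nat.card ↥(Subgroup.normalizer (K : Set G)))) : Nonempty (KernelData K) := by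
  classical
  obtain ⟨-, τ, hτ, hτe⟩ := sibley K hTI hC hK1 hnil hodd
  obtain ⟨hiso, hiso1⟩ := Exceptional.tifn_isometry K hTI hC
  have hset : Cfsg.inducedIrrAbove (K.subgroupOf (Subgroup.normalizer (K : Set G))) ⊥ =
      Exceptional.tifnSet K := by
    rw [above_bot_eq (Exceptional.tifn_cent K hC)]; rfl
  rw [hset] at hτ hτe
  have hirr : ∀ ξ ∈ Exceptional.tifnSet K, Cfsg.IsIrrCharacter _ ξ := fun ξ h => h.1
  have hconj : ∀ ξ ∈ Exceptional.tifnSet K,
      Cfsg.conjFun ξ ∈ Exceptional.tifnSet K ∧ Cfsg.conjFun ξ ≠ ξ := by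
    intro ξ hξ
    rw [← hset] at hξ ⊢
    exact ⟨closed_conj ⊥ ξ hξ, conj_ne_of_odd (Exceptional.tifn_cent K hC) hodd ξ hξ⟩
  obtain ⟨χ₀, hχ₀⟩ : (Exceptional.tifnSet K).Nonempty := by
    rw [← hset]
    obtain ⟨χ, hχ, -⟩ := exists_min_member (K := K.subgroupOf (Subgroup.normalizer (K : Set G)))
      (A := ⊥) (by
        have := Group.nilpotent_of_mulEquiv (_h := hnil)
          (Subgroup.subgroupOfEquivOfLe (Subgroup.le_normalizer : K ≤ _)).symm
        infer_instance)
      (fun h => by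
        rw [le_bot_iff, Subgroup.subgroupOf_eq_bot, disjoint_iff,
          inf_eq_left.mpr (Subgroup.le_normalizer : K ≤ _)] at h
        exact hK1 h)
    exact ⟨χ, hχ⟩
  obtain ⟨ε, hε, hA, hinj⟩ := Exceptional.iso_signs hirr
    ⟨χ₀, hχ₀, _, (hconj χ₀ hχ₀).1, (hconj χ₀ hχ₀).2.symm⟩ hτ fun α hα h1 => by
      have hm : α ∈ Cfsg.zspanOn (Exceptional.tifnSet K) {1}ᶜ := ⟨hα, fun x hx => by
        simp only [Set.mem_compl_iff, Set.mem_singleton_iff, not_not] at hx
        rw [hx, h1]⟩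
      rw [hτe α hm]
      exact hiso1 α hm
  obtain ⟨ε', hε', rfl⟩ : ∃ ε' : ℤ, (ε' = 1 ∨ ε' = -1) ∧ (ε' : ℂ) = ε := by
    rcases hε with rfl | rfl
    · exact ⟨1, Or.inl rfl, by simp⟩
    · exact ⟨-1, Or.inr rfl, by simp⟩
  have hεε : (ε' : ℂ) * (ε' : ℂ) = 1 := by rcases hε' with rfl | rfl <;> simp
  have hext : ∀ ξ ∈ Exceptional.tifnSet K, ∀ η ∈ Exceptional.tifnSet K,
      Cfsg.indFun (Subgroup.normalizer (K : Set G)) (η 1 • ξ - ξ 1 • η) =
        (ε' : ℂ) • (η 1 • ((ε' : ℂ) • τ ξ) - ξ 1 • ((ε' : ℂ) • τ η)) := by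
    intro ξ hξ η hη
    obtain ⟨i, -, hi⟩ := IsIrr.exists_degree (hirr ξ hξ)
    obtain ⟨j, -, hj⟩ := IsIrr.exists_degree (hirr η hη)
    have hm := Exceptional.combo_mem_zspanOn_one hξ hη hi hj
    have h := hτe _ hm
    rw [Exceptional.iso_map_sub hτ
      (Exceptional.natCast_smul_mem_zspan _ (Exceptional.mem_zspan_self hξ))
      (Exceptional.natCast_smul_mem_zspan _ (Exceptional.mem_zspan_self hη)),
      Exceptional.iso_map_natCast_smul hτ (Exceptional.mem_zspan_self hξ),
      Exceptional.iso_map_natCast_smul hτ (Exceptional.mem_zspan_self hη)] at h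
    rw [hi, hj]
    funext g
    have h5 := congrFun h g
    simp only [Pi.sub_apply, Pi.smul_apply, smul_eq_mul] at h5 ⊢
    linear_combination -h5 - ((j : ℂ) * τ ξ g - (i : ℂ) * τ η g) * hεε
  have hinj' : ∀ ξ ∈ Exceptional.tifnSet K, ∀ η ∈ Exceptional.tifnSet K,
      (ε' : ℂ) • τ ξ = (ε' : ℂ) • τ η → ξ = η := fun ξ hξ η hη e => hinj ξ hξ η hη (by
    have := congrArg (fun f => (ε' : ℂ) • f) e
    simpa [smul_smul, hεε] using this)
  -- equal degrees
  have hpair : ∀ ξ ∈ Exceptional.tifnSet K,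
      Cfsg.indFun (Subgroup.normalizer (K : Set G)) (ξ - Cfsg.conjFun ξ) =
        (ε' : ℂ) • ((ε' : ℂ) • τ ξ - (ε' : ℂ) • τ (Cfsg.conjFun ξ)) := by
    intro ξ hξ
    obtain ⟨i, -, hi⟩ := IsIrr.exists_degree (hirr ξ hξ)
    have hdeg : Cfsg.conjFun ξ 1 = ξ 1 := by simp [Cfsg.conjFun, hi]
    have hm := Exceptional.sub_mem_zspanOn_one hξ (hconj ξ hξ).1 hdeg.symm
    have h := hτe _ hm
    rw [Exceptional.iso_map_sub hτ (Exceptional.mem_zspan_self hξ)
      (Exceptional.mem_zspan_self (hconj ξ hξ).1)] at h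
    rw [smul_sub, smul_smul, smul_smul, hεε, one_smul, one_smul]
    exact h.symm
  refine ⟨⟨ε', hε', fun ξ => (ε' : ℂ) • τ ξ, hA, hinj', fun ξ hξ e => ?_, hconj, fun ξ hξ => ?_,
    hext⟩⟩
  · -- no image is principal
    obtain ⟨i, -, hi⟩ := IsIrr.exists_degree (hirr ξ hξ)
    set w := ξ - Cfsg.conjFun ξ
    have h0 : Cfsg.classInner (Cfsg.indFun (Subgroup.normalizer (K : Set G)) w) (fun _ => 1) = 0 := by
      rw [frobenius_reciprocity _ w (IsIrr.isClassFunction (trivChar G).2 |> fun h => by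
        intro g x; rfl)]
      have h1 : ∀ η ∈ Exceptional.tifnSet K,
          Cfsg.classInner η (fun _ : ↥(Subgroup.normalizer (K : Set G)) => (1 : ℂ)) = 0 := by
        intro η hη
        refine Exceptional.classInner_eq_zero_of_irr hη.1 ?_ ?_
        · have := (trivChar ↥(Subgroup.normalizer (K : Set G))).2
          rwa [show ((trivChar ↥(Subgroup.normalizer (K : Set G)) : _) :
            ↥(Subgroup.normalizer (K : Set G)) → ℂ) = fun _ => 1 from
              funext fun y => trivChar_apply y] at this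
        · intro e'
          obtain ⟨-, y, -, hy⟩ := hη
          exact hy (by rw [e'])
      rw [show w = ξ - Cfsg.conjFun ξ from rfl, classInner_sub_left, h1 ξ hξ,
        h1 _ (hconj ξ hξ).1, sub_zero]
    rw [hpair ξ hξ, classInner_smul_left, classInner_sub_left,
      show (ε' : ℂ) • τ ξ = fun _ => (1 : ℂ) from e] at h0
    have htriv : Cfsg.IsIrrCharacter G (fun _ => (1 : ℂ)) := e ▸ hA ξ hξ
    rw [Exceptional.classInner_self_of_irr htriv,
      Exceptional.classInner_eq_zero_of_irr (hA _ (hconj ξ hξ).1) htriv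
        (fun e' => (hconj ξ hξ).2 (hinj' _ (hconj ξ hξ).1 ξ hξ (e'.trans e.symm))), sub_zero,
      mul_one] at h0
    rw [h0, zero_mul] at hεε
    exact zero_ne_one hεε
  · -- compatibility with conjugation
    obtain ⟨hξc, hne⟩ := hconj ξ hξ
    set a := (ε' : ℂ) • τ ξ with ha
    set b := (ε' : ℂ) • τ (Cfsg.conjFun ξ) with hb
    have hab : a ≠ b := fun e => hne (hinj' ξ hξ _ hξc e).symm
    have h1 := hpair ξ hξ
    have h2 := hpair _ hξc
    rw [Exceptional.sys_conj_conj, ← ha, ← hb] at h2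
    rw [← ha, ← hb] at h1
    have h3 : Cfsg.conjFun (Cfsg.indFun (Subgroup.normalizer (K : Set G)) (ξ - Cfsg.conjFun ξ)) =
        Cfsg.indFun (Subgroup.normalizer (K : Set G)) (Cfsg.conjFun ξ - ξ) := by
      rw [conjFun_indFun]
      congr 1
      funext k
      simp [Cfsg.conjFun]
    rw [h1, h2] at h3
    have h4 : Cfsg.conjFun a - Cfsg.conjFun b = b - a := by
      funext g
      have h5 := congrFun h3 g
      simp only [Cfsg.conjFun, Pi.smul_apply, Pi.sub_apply, smul_eq_mul, map_mul, map_sub,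
        map_intCast] at h5 ⊢
      linear_combination (ε' : ℂ) * h5 - (conj (a g) - conj (b g) - b g + a g) * hεε
    have hai : Cfsg.IsIrrCharacter G a := hA ξ hξ
    have hbi : Cfsg.IsIrrCharacter G b := hA _ hξc
    have hca : Cfsg.IsIrrCharacter G (Cfsg.conjFun a) := Exceptional.IsIrr.conjFun hai
    have hcb : Cfsg.IsIrrCharacter G (Cfsg.conjFun b) := Exceptional.IsIrr.conjFun hbi
    have h6 := congrArg (fun f => Cfsg.classInner f b) h4
    simp only [classInner_sub_left, Exceptional.classInner_self_of_irr hbi,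
      Exceptional.classInner_eq_zero_of_irr hai hbi hab, sub_zero,
      Exceptional.classInner_of_irr hca hbi, Exceptional.classInner_of_irr hcb hbi] at h6
    show b = Cfsg.conjFun a
    by_contra hne'
    rw [if_neg (Ne.symm hne')] at h6
    split_ifs at h6 <;> norm_num at h6

omit [Fintype ↥(Subgroup.normalizer (K : Set G))] hTI hC in
/-- The support of functions induced from the punctured kernel. -/
theorem ind_support {f : ↥(Subgroup.normalizer (K : Set G)) → ℂ}
    (hf : ∀ x : ↥(Subgroup.normalizer (K : Set G)), ((x : G) ∉ K ∨ x = 1) → f x = 0) {g : G}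
    (hg : ∀ y : G, y⁻¹ * g * y ∈ K → y⁻¹ * g * y = 1) :
    Cfsg.indFun (Subgroup.normalizer (K : Set G)) f g = 0 := by
  refine Exceptional.indFun_eq_zero_of_support (S := {s : G | s ∈ K ∧ s ≠ 1}) (fun x hx => hf x ?_)
    fun y hy => hy.2 (hg y hy.1)
  by_cases h : (x : G) ∈ K
  · exact Or.inr (Subtype.ext (by by_contra h'; exact hx ⟨h, h'⟩))
  · exact Or.inl h

omit [Fintype ↥(Subgroup.normalizer (K : Set G))] hC in
/-- Functions induced from the punctured kernel agree with the original there. -/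
theorem ind_value {f : ↥(Subgroup.normalizer (K : Set G)) → ℂ}
    (hfc : Cfsg.IsClassFunction _ f)
    (hf : ∀ x : ↥(Subgroup.normalizer (K : Set G)), ((x : G) ∉ K ∨ x = 1) → f x = 0)
    {x : ↥(Subgroup.normalizer (K : Set G))} (hx : (x : G) ∈ K) (hx1 : x ≠ 1) :
    Cfsg.indFun (Subgroup.normalizer (K : Set G)) f x = f x :=
  Exceptional.ti_indFun_eq (S := {s : G | s ∈ K ∧ s ≠ 1}) (Exceptional.tifn_ti_set hTI) hfc
    (fun y hy => hf y (by
      by_cases h : (y : G) ∈ K
      · exact Or.inr (Subtype.ext (by by_contra h'; exact hy ⟨h, h'⟩))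
      · exact Or.inl h))
    ⟨hx, fun e => hx1 (Subtype.ext e)⟩

omit hTI hC in
open scoped Classical in
/-- The indicator of the conjugates of the punctured kernel. -/
noncomputable def conjInd : G → ℂ :=
  Cfsg.indFun (Subgroup.normalizer (K : Set G))
    (fun x => if (x : G) ∈ K ∧ x ≠ 1 then 1 else 0)

omit [Fintype ↥(Subgroup.normalizer (K : Set G))] hC in
theorem conjInd_eq_one {g y : G} (hy : y⁻¹ * g * y ∈ K) (hg : g ≠ 1) : conjInd K g = 1 := by
  classical
  have hcl := isClassFunction_indFun (H := Subgroup.normalizer (K : Set G))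
    (fun x : ↥(Subgroup.normalizer (K : Set G)) => if (x : G) ∈ K ∧ x ≠ 1 then (1 : ℂ) else 0)
  have hne : (⟨y⁻¹ * g * y, Subgroup.le_normalizer hy⟩ : ↥(Subgroup.normalizer (K : Set G))) ≠ 1 :=
    fun e => hg (by
      have := congrArg Subtype.val e
      simpa [mul_assoc, inv_mul_eq_one] using this)
  have h1 : conjInd K g = conjInd K (y⁻¹ * g * y) := by
    have := hcl g y⁻¹
    rw [inv_inv] at this
    exact this.symm
  rw [h1, conjInd, show y⁻¹ * g * y = ((⟨y⁻¹ * g * y, Subgroup.le_normalizer hy⟩ :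
    ↥(Subgroup.normalizer (K : Set G))) : G) from rfl, ind_value K hTI ?_ ?_ hy hne]
  · exact if_pos ⟨hy, hne⟩
  · intro a b
    show (if ((b * a * b⁻¹ : ↥(Subgroup.normalizer (K : Set G))) : G) ∈ K ∧ b * a * b⁻¹ ≠ 1
      then (1 : ℂ) else 0) = _
    refine if_congr (and_congr ?_ (not_congr conj_eq_one_iff)) rfl rfl
    exact ((Subgroup.mem_normalizer_iff.mp b.2) a).symm
  · intro x hx
    exact if_neg fun h => hx.elim (fun h' => h' h.1) (fun h' => h.2 h')

omit [Fintype ↥(Subgroup.normalizer (K : Set G))] hTI hC in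
theorem conjInd_eq_zero {g : G} (hg : ∀ y : G, y⁻¹ * g * y ∈ K → y⁻¹ * g * y = 1) :
    conjInd K g = 0 :=
  ind_support K (fun x hx => if_neg fun h => hx.elim (fun h' => h' h.1) (fun h' => h.2 h')) hg

omit hTI hC in
theorem classInner_conjInd {θ : G → ℂ} (hθ : Cfsg.IsClassFunction G θ) :
    Cfsg.classInner (conjInd K) θ = (Nat.card ↥(Subgroup.normalizer (K : Set G)) : ℂ)⁻¹ *
      ∑ x ∈ sharp (K.subgroupOf (Subgroup.normalizer (K : Set G))), conj (θ x) := by
  classical
  rw [conjInd, frobenius_reciprocity _ _ hθ, Cfsg.classInner]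
  congr 1
  simp only [ite_mul, one_mul, zero_mul, ← Finset.sum_filter, sharp, Subgroup.mem_subgroupOf]

omit hTI in
/-- Values of a class function with proportional coefficients; the constant is an integer. -/
theorem exists_value {Y : G → ℂ}
    (hY : Cfsg.IsGeneralizedCharacter G Y) {ζ : ↥(Subgroup.normalizer (K : Set G)) → ℂ}
    (hζ : ζ ∈ Exceptional.tifnSet K)
    (hζ1 : ζ 1 = ((K.subgroupOf (Subgroup.normalizer (K : Set G))).index : ℂ)) (a : ℤ)
    (hcoef : ∀ ξ ∈ Exceptional.tifnSet K,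
      Cfsg.classInner (Cfsg.indFun (Subgroup.normalizer (K : Set G)) (ζ 1 • ξ - ξ 1 • ζ)) Y =
        (a : ℂ) * (ζ 1 * (if ξ = ζ then 1 else 0) - ξ 1)) :
    ∃ c : ℤ, (∀ x : ↥(Subgroup.normalizer (K : Set G)), (x : G) ∈ K → x ≠ 1 →
        Y x = (a : ℂ) * ζ x + c) ∧
      Cfsg.classInner (Cfsg.indFun (Subgroup.normalizer (K : Set G))
        (kerInd (K.subgroupOf (Subgroup.normalizer (K : Set G))) - ζ)) Y = (c : ℂ) - a := by
  classical
  have := Fintype.ofFinite (Cfsg.IrrCharacter ↥(Subgroup.normalizer (K : Set G)))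
  set H := K.subgroupOf (Subgroup.normalizer (K : Set G))
  have hC' := Exceptional.tifn_cent K hC
  have hset : Cfsg.inducedIrrAbove H ⊥ = Exceptional.tifnSet K := by
    rw [above_bot_eq hC']; rfl
  have hζ' : ζ ∈ Cfsg.inducedIrrAbove H ⊥ := hset ▸ hζ
  set Φ := fun x : ↥(Subgroup.normalizer (K : Set G)) => Y x
  have hΦg := Exceptional.IsGen.restrict (Subgroup.normalizer (K : Set G)) hY
  have hYcl := Exceptional.IsGen.isClassFunction hY
  have he : ζ 1 ≠ 0 := IsIrr.apply_one_ne_zero hζ.1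
  have hreal : ∀ ξ ∈ Exceptional.tifnSet K, conj (ξ 1) = ξ 1 := fun ξ hξ => by
    obtain ⟨d, -, hd⟩ := IsIrr.exists_degree hξ.1
    rw [hd, map_natCast]
  obtain ⟨c', hc'⟩ := const_on_kernel hC' (Exceptional.IsGen.isClassFunction hΦg) hζ' (a : ℂ)
    ((Cfsg.classInner Φ ζ - a) / ζ 1) fun ξ hξ => by
      rw [hset] at hξ
      have h := hcoef ξ hξ
      rw [frobenius_reciprocity _ _ hYcl, classInner_sub_left, classInner_smul_left,
        classInner_smul_left] at h
      have h' := congrArg conj h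
      rw [map_sub, map_mul, map_mul, map_mul, map_sub, map_mul, classInner_conj_symm,
        classInner_conj_symm, hreal ζ hζ, hreal ξ hξ, map_intCast] at h'
      by_cases e : ξ = ζ
      · subst e
        rw [if_pos rfl]
        field_simp
        ring
      · rw [if_neg e]
        simp only [if_neg e, map_zero, mul_zero, zero_sub] at h'
        field_simp
        linear_combination h'
  set F := kerInd H - ζ with hF
  have hFgen : Cfsg.IsGeneralizedCharacter _ F := by
    rw [hF, kerInd_eq]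
    exact Exceptional.IsGen.sub (Exceptional.IsGen.indFun H Exceptional.isGen_one)
      (Exceptional.IsGen.of_irr hζ.1)
  obtain ⟨m, hm⟩ := Exceptional.IsGen.classInner_eq_int hFgen hΦg
  have hFoff : ∀ x, x ∉ H → F x = 0 := fun x hx => by
    rw [hF, Pi.sub_apply, kerInd, if_neg hx, vanish_of_mem hζ' hx, sub_zero]
  have hF1 : F 1 = 0 := by
    rw [hF, Pi.sub_apply, kerInd, if_pos (Subgroup.one_mem H), hζ1, sub_self]
  have hcalc : Cfsg.classInner F Φ = conj c' - (a : ℂ) := by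
    rw [Cfsg.classInner, sum_eq_one_add_sharp (H := H)
      (f := fun x => F x * conj (Φ x)) (fun x hx => by rw [hFoff x hx, zero_mul]), hF1, zero_mul,
      zero_add, Finset.sum_congr rfl (g := fun x =>
        (H.index : ℂ) * (a : ℂ) * conj (ζ x) + (H.index : ℂ) * conj c' -
          (a : ℂ) * (ζ x * conj (ζ x)) - conj c' * ζ x) fun x hx => by
        obtain ⟨h1, h2⟩ := mem_sharp.mp hx
        rw [hF, Pi.sub_apply, kerInd, if_pos h1, show Φ x = (a : ℂ) * ζ x + c' from hc' x h1 h2, map_add, map_mul, map_intCast]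
        ring, Finset.sum_sub_distrib, Finset.sum_sub_distrib, Finset.sum_add_distrib,
      ← Finset.mul_sum, ← Finset.mul_sum, ← Finset.mul_sum, ← map_sum, sum_sharp_of_mem hC' hζ',
      sum_sharp_sq hC' hζ', Finset.sum_const, nsmul_eq_mul, card_sharp, hζ1, map_neg, map_natCast,
      show ∑ x ∈ sharp H, conj c' * ζ x = conj c' * -ζ 1 by rw [← Finset.mul_sum, sum_sharp_of_mem hC' hζ'],
      hζ1,
      ← H.card_mul_index, Nat.cast_mul]
    have h1 : (Nat.card H : ℂ) ≠ 0 := Nat.cast_ne_zero.mpr Nat.card_pos.ne'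
    have h2 : (H.index : ℂ) ≠ 0 := Nat.cast_ne_zero.mpr Subgroup.index_ne_zero_of_finite
    field_simp
    ring
  rw [hm] at hcalc
  have hc : c' = ((m + a : ℤ) : ℂ) := by
    have h := congrArg conj hcalc
    rw [map_sub, Complex.conj_conj, map_intCast, map_intCast] at h
    push_cast
    linear_combination -h
  refine ⟨m + a, fun x hx hx1 => ?_, ?_⟩
  · rw [← hc]; exact hc' x hx hx1
  · rw [frobenius_reciprocity _ _ hYcl, hm]
    push_cast; ring

end CfsgLib.Coh
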